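import Cfsg.Agent.Cam.Odd.One_mg_m3
import Cfsg.Agent.Cam.Ex.RE_m3
import Cfsg.Agent.Cam.Q2.Num_m3
import Cfsg.Agent.Cam.Ex.Chi_m3
import Cfsg.Agent.E8A.Two.Wcj
import Cfsg.Agent.DS.Nt.P8
import Cfsg.Agent.DS.Nt.Cnt
import Cfsg.Agent.DS.Nt.Kac
import Cfsg.Agent.R2.T1.Five.Lin_m3
import Cfsg.Agent.Cam.Red.Count_m3
import Cfsg.Agent.Cam.Ex.Root
import Cfsg.Agent.S0493
import Cfsg.Agent.S2119
import Cfsg.Agent.Cam.Ex.U2_m3
import Cfsg.Agent.Cam.Ex.SL2
import Cfsg.Agent.H900.Fra.Wey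
import Cfsg.Agent.H219.HerAlt
import Cfsg.Agent.Lib.FastPerm
import Cfsg.Agent.Lib.FinFast
import Cfsg.Agent.Cam.Ex.PBox_mg
import Cfsg.Agent.FastGrp
import Cfsg.Agent.Prune
set_option linter.all false

section
prune_inst 0x7fbcacf929b8a1dedfff7e77f6d4cffc19811fffe6dff94b7fe061df2b9f230009c5fb850de010fe1e96c01410387803fb7ee67fe86bdc7ffffd5ff41ffbee0fe5f6350851948c340f380ff703f07f8a7f3fffffffffffffffffffffffffffbeffbfffffffff

-- part: Cam/E8/OBasic
section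
prune_inst 0x43420290445a2120000188010a0003e62ea000092004b0800e1a008460c88ac42a0038621ac300210009088cc003c0048118800300200000000008400411901a09c8352043210ad0c76008f800000400000000000000000000000000000000000000000000
set_option linter.all false
open scoped Cfsg.Agent.FastGrp

-- part: Cam/E8/OIface
section
/-!
# S3690, the row `E₈`, odd characteristic: interface (helper70)

The mathematics is in `notes/Cam/e8odd.md`.  `Y8 p = E₈(k)`, `dd p y` is the dimension of the fixed space of `y` on the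
adjoint module: `120` (class 2B, `D₈`), `136` (2A, `E₇A₁`), `80` (3A, `A₈`), `86` (3B, `E₆A₂`), `48` (5A, `A₄A₄`).
-/

set_option autoImplicit false
set_option linter.unusedVariables false

namespace Cfsg.Agent.Cam.E8O

open Cfsg Cfsg.Lie Subgroup Module
open Cfsg.Agent.Cam.Spor Cfsg.Agent.Cam.Ex Cfsg.Agent.Cam.Ex.S2 Cfsg.Agent.Cam.Odd
open Cfsg.Agent.H402.PSL2Cls (PSL)
open Cfsg.Agent.DS.NT (ev)
open Cfsg.Agent.DS.Nt (dd ad Fx)
open Cfsg.Agent.Nodes.RGDFoldSL (hS)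

/-- the algebraic group -/
abbrev Y8 (p : ℕ) [Fact p.Prime] : Type := YY chevE8 p

/-- the frames -/
abbrev Fr8 (p : ℕ) [Fact p.Prime] (L : Type) [Group L] : Type := Frame tE8 p 1 (sg 8 1) L

/-- the alternating groups -/
abbrev Al (n : ℕ) : Type := ↥(alternatingGroup (Fin n))

/-- a core with the invariant subgroup `D` (the perfect core of the centralizer of the class) -/
structure Core8 {L U : Type} [Group L] [Group U] (τ α β : U →* L) (R R' D : Subgroup L) : Prop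
    extends Core τ α β R R' where
  le : D ≤ R
  cpy : ∃ φ : U →* L, Function.Injective φ ∧ ∀ u, φ u ∈ D
  max8 : ∀ Y : Subgroup L, Y ≠ ⊤ →
    (∀ θ : MulAut L, D.map θ.toMonoidHom = D → (τ.range ⊔ R).map θ.toMonoidHom = τ.range ⊔ R →
      Y.map θ.toMonoidHom = Y) → Y ≤ normalizer ((τ.range ⊔ R : Subgroup L) : Set L)
  two : (∃ θ : MulAut L, τ.range.map θ.toMonoidHom = α.range ∧ R.map θ.toMonoidHom = R') ∨
    ∃ θ : MulAut L, ∀ u, θ (τ u) ∈ R ∧ ∀ d ∈ D, d * θ (τ u) = θ (τ u) * d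

/-- no component is moved -/
def NoMov {G : Type} [Group G] (S H : Subgroup G) (g : G) : Prop :=
  ∀ 𝒯 : Set (Subgroup G), Cls S H g 𝒯 → ∀ T₁ ∈ 𝒯, ∀ T₂ ∈ 𝒯, cj g T₂ ≤ normalizer (T₁ : Set G)

/-- [Mov] characteristic two (`Rank7` fails there) -/
def BoxMov : Prop := Big → Red → ∀ (G : Type) [Group G] [Finite G] (S H : Subgroup G) (g : G), Fr8 2 S → NoMov S H g

/-- [Link] the core of a configuration, and the way back -/
def BoxLink : Prop := Big → Red → ∀ (G : Type) [Group G] [Finite G] (S H : Subgroup G) (g : G), Conf S H g → NoMov S H g →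
  ∃ (U : Type) (_ : Group U) (_ : Finite U) (τ α β : U →* S) (R R' D : Subgroup S), Core8 τ α β R R' D ∧
    (Nonempty (U ≃* Al 5) → Nonempty (R' ≃* Al 6) → Nonempty (generalizedFittingSubgroup H ≃* Al 5 × Al 6))

/-- [ML, helper65 / helper69] the characteristic does not divide the order of the component -/
def BoxML : Prop := ∀ (F : Type) [Field F] [Finite F] (p : ℕ) [Fact p.Prime] [CharP F p], 5 ≤ p →
  ∀ (U : Type) [Group U] [Finite U] (τ α β : U →* E8A.G8 F) (R R' : Subgroup (E8A.G8 F)), Core τ α β R R' →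
  (∀ c ∈ centralizer (R : Set (E8A.G8 F)), c ^ p = 1 → ∀ z ∈ τ.range, z ≠ 1 → z ^ 2 = 1 → c * z = z * c → c ∈ τ.range) →
  ¬ p ∣ Nat.card U

/-- `ψ` is the root `SL₂` of the involution `z` of class 2A -/
structure JA (p : ℕ) [Fact p.Prime] (z : Y8 p) (ψ : SL (kb p) →* Y8 p) : Prop where
  ck : CK ψ
  ctr : ψ (hS (-1)) = z
  inn : ∀ y, y * z = z * y → ∃ j, IA ψ y j
  q8 : ∀ x, orderOf x = 2 → x ≠ z → x * z = z * x → (Cz ψ x ↔ dd p (x * z) ≠ dd p x)
  vec : ∃ v, v ≠ 0 ∧ ∀ y, Cz ψ y → ad chevE8 p y v = v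
  far : ∀ t, t * z * t⁻¹ ≠ z → Cz ψ (t * z * t⁻¹) → ∀ s, Cz ψ (t * ψ s * t⁻¹)

/-- the rational points of the root `SL₂`: a non-central normal subgroup of `SL₂(q)` is not abelian and contains `-1` -/
structure XN {p : ℕ} [Fact p.Prime] {L : Type} [Group L] (ι : L →* Y8 p) (x : L) (ψ : SL (kb p) →* Y8 p) : Prop where
  ex : ∃ w, ι w ∈ ψ.range ∧ ¬ Cz ψ (ι w)
  nrm : ∀ N : Subgroup L, (∀ s, ι s ∈ ψ.range → ∀ n ∈ N, s * n * s⁻¹ ∈ N) → ∀ n ∈ N, n * x = x * n → ¬ Cz ψ (ι n) →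
    x ∈ N ∧ ∃ a ∈ N, ∃ b ∈ N, ι a ∈ ψ.range ∧ ι b ∈ ψ.range ∧ a * b ≠ b * a

/-- [J] involutions of class 2A -/
def BoxJ : Prop := ∀ (p : ℕ) [Fact p.Prime], p ≠ 2 → ∀ (L : Type) [Group L] [Finite L] (E : Fr8 p L) (x : L),
  orderOf x = 2 → dd p (E.ι x) = 136 → ∃ ψ, JA p (E.ι x) ψ ∧ XN E.ι x ψ

/-- [P3] the centralizer of a pure group `2 ^ 3` has the type `A₁ ^ 8` -/
def BoxP3 : Prop := ∀ (p : ℕ) [Fact p.Prime], p ≠ 2 → ∀ P : Subgroup (Y8 p), Nat.card P = 8 → (∀ x ∈ P, x ^ 2 = 1) →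
  (∀ x ∈ P, x ≠ 1 → dd p x = 120) → ∀ (U : Type) [Group U] [Finite U], IsSimpleGroup U → ¬ IsMulCommutative U →
  ∀ a : U →* Y8 p, Function.Injective a → (∀ u, ∀ x ∈ P, a u * x = x * a u) → PRankLE 2 2 U

/-- [Tet] simple groups of `2`-rank two -/
def BoxTet : Prop := ∀ (U : Type) [Group U] [Finite U], IsSimpleGroup U → ¬ IsMulCommutative U → PRankLE 2 2 U →
  ∃ x₁ x₂ t : U, Tet x₁ x₂ t ∧ ((∃ g, g * t * g⁻¹ = t⁻¹) ∨ ∃ P : Subgroup U, 27 ∣ Nat.card P ∧
    (∀ x ∈ P, ∀ y ∈ P, x * y = y * x) ∧ ∀ x ∈ P, x ≠ 1 → IsConj x t ∨ IsConj x t⁻¹)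

/-- `μ (V × V)` is a pure group of order `16`, `V = ⟨x₁, x₂⟩` -/
structure PT (p : ℕ) [Fact p.Prime] {U : Type} [Group U] (μ : U × U →* Y8 p) (x₁ x₂ t : U) : Prop where
  inj : Function.Injective μ
  tet : Tet x₁ x₂ t
  pure : ∀ a ∈ ({1, x₁, x₂, x₁ * x₂} : Set U), ∀ b ∈ ({1, x₁, x₂, x₁ * x₂} : Set U), (a, b) ≠ 1 →
    dd p (μ (a, b)) = 120

/-- [E16] elements of order three normalizing a pure toral group of order `16` -/
def BoxE16 : Prop := ∀ (p : ℕ) [Fact p.Prime], p ≠ 2 → ∀ (U : Type) [Group U] (μ : U × U →* Y8 p) (x₁ x₂ t : U),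
  PT p μ x₁ x₂ t → dd p (μ (t, t)) ≤ 88 ∧ (p = 3 → 89 ≤ dd p (μ (t, 1))) ∧
    (p ≠ 3 → dd p (μ (t, t)) = 80 ∧ dd p (μ (t, t⁻¹)) = 80 ∧
      3 * finrank (kb p) (Fx p {μ (x₁, 1), μ (1, t)}) ≤ dd p (μ (1, t)) + 48)

/-- [A2] the factor `A₂` of the centralizer of a real element of class 3B -/
def BoxA2 : Prop := ∀ (p : ℕ) [Fact p.Prime], 5 ≤ p → ∀ z g : Y8 p, z ^ 3 = 1 → dd p z = 86 → g * z * g⁻¹ = z⁻¹ →
  ∀ (U : Type) [Group U] [Finite U], IsSimpleGroup U → ¬ IsMulCommutative U → ∀ a : U →* Y8 p,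
  (∀ u, a u * z = z * a u) → (∀ u, a u * g = g * a u) →
  ((∃ f : U →* PSL (kb p), Function.Injective f) ∧ ∀ c : Y8 p, c * z = z * c → c * g = g * c → c ^ p = 1 →
    (∀ u, c * a u * c⁻¹ ∈ a.range) → ∀ x, orderOf x = 2 → c * a x = a x * c → ∀ u, c * a u = a u * c) ∨
  ∀ u, u ^ 2 = 1 → 46 ≤ finrank (kb p) (Fx p {a u, z})

/-- the dimensions of the fixed spaces of the elements of order five -/
def T5 (n : ℕ) : Prop := n = 48 ∨ n = 52 ∨ n = 54 ∨ n = 64 ∨ n = 68 ∨ n = 82 ∨ n = 92 ∨ n = 134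

/-- [A5] linear algebra for `A₅ × A₅` -/
def BoxA5 : Prop := ∀ (p : ℕ) [Fact p.Prime], 7 ≤ p → ∀ (V : Type) [AddCommGroup V] [Module (kb p) V]
  [FiniteDimensional (kb p) V] (U : Type) [Group U], Nonempty (U ≃* Al 5) → ∀ ρ : U × U →* Module.End (kb p) V,
  finrank (kb p) V = 248 →
  (∀ x, orderOf x = 2 → ev ρ (x, 1) 1 = 120 ∧ ev ρ (1, x) 1 = 120 ∧ ev ρ (x, x) 1 = 120) →
  (∀ t, orderOf t = 3 → ev ρ (t, 1) 1 = 80 ∧ ev ρ (1, t) 1 = 86 ∧ ev ρ (t, t) 1 = 80) →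
  (∀ x t, orderOf x = 2 → orderOf t = 3 → (ev ρ (t, x) 1 = 40 ∨ ev ρ (t, x) 1 = 64) ∧
    (ev ρ (x, t) 1 = 42 ∨ ev ρ (x, t) 1 = 54)) →
  (∀ y, orderOf y = 5 → T5 (ev ρ (y, 1) 1) ∧ T5 (ev ρ (1, y) 1)) →
  finrank (kb p) (fx ρ {g | g.1 = g.2}) = finrank (kb p) (fx ρ {g | g.2 = 1}) →
  fx ρ {g | g.2 = 1} = ⊥ ∧ ∀ y, orderOf y = 5 → fx ρ {g | g.1 = 1 ∨ g = (y, 1)} ≠ ⊥

/-- [P81] linear algebra for `A₅ × P`, `P` of order `81` and exponent `3` -/
def BoxP81 : Prop := ∀ (p : ℕ) [Fact p.Prime], 7 ≤ p → ∀ (V : Type) [AddCommGroup V] [Module (kb p) V]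
  [FiniteDimensional (kb p) V] (U : Type) [Group U], Nonempty (U ≃* Al 5) → ∀ (P : Type) [Group P], Nat.card P = 81 →
  (∀ z : P, z ^ 3 = 1) → ∀ ρ : U × P →* Module.End (kb p) V, finrank (kb p) V = 248 → fx ρ {g | g.2 = 1} = ⊥ →
  (∀ x, orderOf x = 2 → ev ρ (x, 1) 1 = 120) → (∀ t, orderOf t = 3 → ev ρ (t, 1) 1 = 80) →
  (∀ x t z, orderOf x = 2 → orderOf t = 3 → z ≠ 1 →
    (ev ρ (1, z) 1 = 80 ∧ ev ρ (t, z) 1 = 92 ∧ (ev ρ (x, z) 1 = 40 ∨ ev ρ (x, z) 1 = 64)) ∨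
    (ev ρ (1, z) 1 = 86 ∧ (ev ρ (t, z) 1 = 80 ∨ ev ρ (t, z) 1 = 134) ∧ (ev ρ (x, z) 1 = 42 ∨ ev ρ (x, z) 1 = 54))) →
  False

/-- the centralizer of a perfect group without fixed vectors -/
structure Iso (p : ℕ) [Fact p.Prime] (J : Subgroup (Y8 p)) : Prop where
  prime : ∀ z ∈ centralizer (J : Set (Y8 p)), (orderOf z).Prime →
    orderOf z = 2 ∨ (orderOf z = 3 ∧ (dd p z = 80 ∨ dd p z = 86)) ∨ (orderOf z = 5 ∧ dd p z = 48)
  nine : ∀ z ∈ centralizer (J : Set (Y8 p)), orderOf z ≠ 9 ∧ orderOf z ≠ 25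
  five : ∀ Q : Subgroup (Y8 p), Q ≤ centralizer (J : Set (Y8 p)) → (∀ x ∈ Q, x ^ 5 = 1) → Nat.card Q ≠ 25
  sixteen : ∀ Q : Subgroup (Y8 p), Q ≤ centralizer (J : Set (Y8 p)) → (∀ x ∈ Q, x ^ 2 = 1) →
    (∀ x ∈ Q, x ≠ 1 → dd p x = 120) → Nat.card Q ≠ 16

/-- [Iso] isolated elements -/
def BoxIso : Prop := ∀ (p : ℕ) [Fact p.Prime], 7 ≤ p → ∀ J : Subgroup (Y8 p), ⁅J, J⁆ = J →
  Fx p (J : Set (Y8 p)) = ⊥ → Iso p J

/-- [Grp8] perfect `{2, 3, 5}`-groups -/
def BoxGrp8 : Prop := Big → ∀ (R : Type) [Group R] [Finite R], Nontrivial R → ⁅(⊤ : Subgroup R), (⊤ : Subgroup R)⁆ = ⊤ →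
  center R = ⊥ → (∀ r : ℕ, r.Prime → r ∣ Nat.card R → r = 2 ∨ r = 3 ∨ r = 5) → ¬ 25 ∣ Nat.card R → ¬ 81 ∣ Nat.card R →
  (∀ (N : Subgroup R) (y : R), Nat.card N = 16 → (∀ n ∈ N, n ^ 2 = 1) → orderOf y = 5 → (∀ n ∈ N, y * n * y⁻¹ ∈ N) →
    ∃ n ∈ N, n ≠ 1 ∧ y * n = n * y) →
  Nonempty (R ≃* Al 5) ∨ Nonempty (R ≃* Al 6)

/-- [Vec] a `p'`-group with a fixed vector centralizes a rational torus -/
def BoxVec : Prop := ∀ (p : ℕ) [Fact p.Prime], 7 ≤ p → ∀ (L : Type) [Group L] [Finite L] (E : Fr8 p L) (Γ : Subgroup L),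
  ¬ p ∣ Nat.card Γ → Fx p (E.ι '' (Γ : Set L)) ≠ ⊥ → ∃ s ∈ centralizer (Γ : Set L), s ^ 5 ≠ 1

/-- all boxes -/
structure Boxes : Prop where
  link : BoxLink
  ml : BoxML
  j : BoxJ
  p3 : BoxP3
  tet : BoxTet
  e16 : BoxE16
  a2 : BoxA2
  a5 : BoxA5
  p81 : BoxP81
  iso : BoxIso
  grp : BoxGrp8
  vec : BoxVec

/-- the row `E₈` in odd characteristic -/
def OddE8 : Prop := Big → Red → ∀ (G : Type) [Group G] [Finite G] (S H : Subgroup G) (g : G), Conf S H g →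
  ∀ (p : ℕ) [Fact p.Prime], p ≠ 2 → Fr8 p S → Nonempty (generalizedFittingSubgroup H ≃* Al 5 × Al 6)

/-- the row `E₈` in characteristic two -/
def EvenE8 : Prop := Big → Red → ∀ (G : Type) [Group G] [Finite G] (S H : Subgroup G) (g : G), Conf S H g →
  Fr8 2 S → False

/-- the finite group of a frame -/
theorem exists_equiv {p : ℕ} [Fact p.Prime] {L : Type} [Group L] (E : Fr8 p L) :
    Nonempty (L ≃* E8A.G8 (GaloisField p E.e)) := by
  have := Fintype.ofFinite (GaloisField p E.e)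
  obtain ⟨f⟩ := BpExc.RowsUntw.exists_emb p (GaloisField p E.e)
  obtain ⟨e, -⟩ := FExt.exists_iso E H129.TorusChar.invC_E8 one_ne_zero (Or.inl rfl) (GaloisField p E.e)
    (GaloisField.card p E.e E.he.ne') (S1054.result _ (by simp)) f
  exact ⟨e⟩

theorem evenE8_of (link : BoxLink) (mov : BoxMov) (two : E8.BoxTwo) : EvenE8 := by
  intro big red G _ _ S H g c E
  obtain ⟨U, _, _, τ, α, β, R, R', D, h, -⟩ := link big red G S H g c (mov big red G S H g E)
  obtain ⟨e⟩ := exists_equiv E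
  exact (two _).of_equiv e U τ α β R R' h.toCore

/-- the two cases -/
theorem boxE8_of (fr : BoxFrame) (h1 : OddE8) (h2 : EvenE8) : BoxE8 := by
  intro big red G _ _ S H g c h
  obtain ⟨p, _, ⟨E⟩⟩ := fr.e8 S h
  by_cases hp : p = 2
  · subst hp
    exact (h2 big red G S H g c E).elim
  · exact h1 big red G S H g c p hp E

end Cfsg.Agent.Cam.E8O
end

-- part: Cam/E8/OBasic
section
/-!
# S3690, the row `E₈`, odd characteristic: tables and basic tools (helper70)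

* `dd2`, `dd3`, `dd5`, `dd6`, `par3` : dimensions of fixed spaces on the adjoint module;
* `tp8`, `pu_of`, `pure16` : commuting elements of prime order are toral; pure `2`-groups;
* `ext8` : automorphisms of the finite group keep the dimensions;
* `artinK` : Artin's formula over `kb p`.
-/

set_option autoImplicit false
set_option linter.unusedVariables false

namespace Cfsg.Agent.Cam.E8O

open Cfsg Cfsg.Lie Subgroup Module
open Cfsg.Agent.Cam.Spor Cfsg.Agent.Cam.Ex Cfsg.Agent.Cam.Ex.S2 Cfsg.Agent.Cam.Odd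
open Cfsg.Agent.DS.Nt (dd ad Fx Tp)
open Cfsg.Agent.KFacts.RgdChevCoord (TT)

variable {p : ℕ} [Fact p.Prime]

theorem typ8 : DS.Ex.Typ chevE8 := Or.inr (Or.inr (Or.inr rfl))

theorem cast_ne {N : ℕ} (h : ¬ p ∣ N) : (N : ZMod p) ≠ 0 := fun e => h ((ZMod.natCast_eq_zero_iff N p).1 e)

theorem tabK {N : ℕ} {ds : List ℕ} {T : List (List ℕ)} (h : E8A.Inf.chk N [] ds T = true) (hN : ¬ p ∣ N) {y : Y8 p}
    (hy : y ^ N = 1) : (ds.map fun d => dd p (y ^ d)) ∈ T := by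
  have hN0 : N ≠ 0 := by
    rintro rfl
    exact hN (dvd_zero p)
  obtain ⟨ζ, hζ⟩ := E8A.Inf.exists_root (F := ZMod p) (cast_ne hN)
  obtain ⟨n, h1, h2, -⟩ := E8A.Inf.exists_pk (F := ZMod p) (cast_ne hN) hζ (g := y) hy (P := E8A.Inf.ok N [] ds T) h
  rw [E8A.Inf.ok, List.all_nil, Bool.not_true, Bool.false_or, List.contains_iff_mem] at h1
  have h3 : ∀ d, dd p (y ^ d) = E8A.Inf.pw N n d 0 := fun d => by
    rw [← h2 d 0 (Nat.pos_of_ne_zero hN0), pow_zero]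
    rfl
  simpa only [h3] using h1

theorem dd_one : dd p (1 : Y8 p) = 248 := E8A.Inf.ev_one (F := kb p)

theorem eq_one_of_dd {y : Y8 p} (h : dd p y = 248) : y = 1 := E8A.Inf.eq_one_of_ev (F := kb p) h

theorem not_dvd_prime {r : ℕ} (hr : r.Prime) (h : p ≠ r) : ¬ p ∣ r := fun e =>
  h ((Nat.prime_dvd_prime_iff_eq Fact.out hr).1 e)

theorem dd2 (hp : p ≠ 2) {y : Y8 p} (hy : y ^ 2 = 1) (h1 : y ≠ 1) : dd p y = 120 ∨ dd p y = 136 := by
  have h := tabK E8A.Inf.chk_T2 (not_dvd_prime Nat.prime_two hp) hy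
  have h' : dd p y ≠ 248 := fun e => h1 (eq_one_of_dd e)
  simp only [E8A.Inf.T2, List.map, pow_one, List.mem_cons, List.cons.injEq, and_true, List.not_mem_nil, or_false] at h
  omega

theorem dd3 (hp : p ≠ 3) {y : Y8 p} (hy : y ^ 3 = 1) (h1 : y ≠ 1) :
    dd p y = 80 ∨ dd p y = 86 ∨ dd p y = 92 ∨ dd p y = 134 := by
  have h := tabK E8A.Inf.chk_T3 (not_dvd_prime Nat.prime_three hp) hy
  have h' : dd p y ≠ 248 := fun e => h1 (eq_one_of_dd e)
  simp only [E8A.Inf.T3, List.map, pow_one, List.mem_cons, List.cons.injEq, and_true, List.not_mem_nil, or_false] at h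
  omega

theorem dd5 (hp : p ≠ 5) {y : Y8 p} (hy : y ^ 5 = 1) (h1 : y ≠ 1) : T5 (dd p y) := by
  have h := tabK E8A.Inf.chk_T5 (not_dvd_prime Nat.prime_five hp) hy
  have h' : dd p y ≠ 248 := fun e => h1 (eq_one_of_dd e)
  simp only [E8A.Inf.T5, List.map, pow_one, List.mem_cons, List.cons.injEq, and_true, List.not_mem_nil, or_false] at h
  unfold T5
  omega

/-- the product of commuting elements of orders `2` and `3` -/
theorem dd6' (h2 : p ≠ 2) (h3 : p ≠ 3) {x t : Y8 p} (hx : x ^ 2 = 1) (ht : t ^ 3 = 1) (hc : x * t = t * x) :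
    [dd p (x * t), dd p t⁻¹, dd p x] ∈ E8A.Inf.T6 := by
  have hc' : Commute x t := hc
  have h6 : ¬ p ∣ 6 := fun e => by
    rcases (Nat.Prime.dvd_mul (Fact.out : p.Prime) (m := 2) (n := 3)).1 e with e | e
    exacts [not_dvd_prime Nat.prime_two h2 e, not_dvd_prime Nat.prime_three h3 e]
  have h := tabK E8A.Inf.chk_T6 h6 (y := x * t) (by
    rw [hc'.mul_pow, show 6 = 2 * 3 from rfl, pow_mul, hx, one_pow, one_mul, mul_comm, pow_mul, ht, one_pow])
  have e2 : (x * t) ^ 2 = t⁻¹ := by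
    rw [hc'.mul_pow, hx, one_mul, eq_inv_iff_mul_eq_one, ← pow_succ, ht]
  have e3 : (x * t) ^ 3 = x := by
    rw [hc'.mul_pow, ht, mul_one, pow_succ, hx, one_mul]
  simpa only [List.map, pow_one, e2, e3] using h

theorem dd_inv (y : Y8 p) : dd p y⁻¹ = dd p y := by
  have h : ∀ z : Y8 p, Module.End.eigenspace (ad chevE8 p z) 1 ≤ Module.End.eigenspace (ad chevE8 p z⁻¹) 1 := by
    intro z v hv
    rw [Module.End.mem_eigenspace_iff, one_smul] at hv ⊢
    conv_lhs => rw [← hv, ← DS.Nt.ad_mul, inv_mul_cancel, DS.Nt.ad_one]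
  have h1 := h y⁻¹
  rw [inv_inv] at h1
  exact congrArg (fun W : Submodule (kb p) (chevE8.Idx → kb p) => finrank (kb p) W) (le_antisymm h1 (h y))

/-- class 2B times class 3A or 3B -/
theorem dd6 (h2 : p ≠ 2) (h3 : p ≠ 3) {x t : Y8 p} (hx : x ^ 2 = 1) (ht : t ^ 3 = 1) (hc : x * t = t * x)
    (hd : dd p x = 120) : (dd p t = 80 → dd p (x * t) = 40 ∨ dd p (x * t) = 64) ∧
      (dd p t = 86 → dd p (x * t) = 42 ∨ dd p (x * t) = 54) := by
  have h := dd6' h2 h3 hx ht hc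
  rw [dd_inv, hd] at h
  simp only [E8A.Inf.T6, List.mem_cons, List.cons.injEq, and_true, List.not_mem_nil, or_false] at h
  omega

/-- the parallelogram law; `q3 80 = q3 134 = 2`, `q3 92 = 1`, `q3 86 = q3 248 = 0` -/
theorem par3 (hp : p ≠ 3) {x y : Y8 p} (hx : x ^ 3 = 1) (hy : y ^ 3 = 1) (hc : x * y = y * x) :
    E8A.Two.q3 (dd p (x * y)) + E8A.Two.q3 (dd p (x * y⁻¹)) = 2 * E8A.Two.q3 (dd p x) + 2 * E8A.Two.q3 (dd p y) :=
  E8A.Two.par3K (F := ZMod p) (by exact_mod_cast cast_ne (not_dvd_prime Nat.prime_three hp)) hx hy hc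

/-- the centralizers of the elements of prime order of the torus are connected -/
theorem mem_DZ8 {r : ℕ} (hr : r.Prime) (hrp : r ≠ p) {t c : Y8 p} (ht : t ∈ TT chevE8 (kb p)) (htr : t ^ r = 1)
    (hc : c * t = t * c) : c ∈ DS.Nt.DZ tE8 p {t} := by
  rcases (DS.Nt.DZ_one tE8 typ8 hr hrp ht htr).2 with h | ⟨h, -⟩ | ⟨h, -⟩
  · exact h c hc
  · exact absurd (congrArg ChevalleyDatum.rank h) (by decide)
  · exact absurd (congrArg ChevalleyDatum.rank h) (by decide)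

/-- an element of prime order `r ≠ p` and a commuting `r`-element are toral -/
theorem tp8 {r : ℕ} (hr : r.Prime) (hrp : r ≠ p) {x y : Y8 p} (hx : x ^ r = 1) (hy : ∃ n : ℕ, y ^ r ^ n = 1)
    (hc : x * y = y * x) : Tp p x y := by
  obtain ⟨g, hg⟩ := DS.Nt.exists_conj_T tE8 hr hrp (x := x) (n := 1) (by rw [pow_one, hx])
  obtain ⟨n, hn⟩ := hy
  have h1 : (g * x * g⁻¹) ^ r = 1 := by rw [conj_pow, hx, mul_one, mul_inv_cancel]
  refine DS.Nt.Tp.of_conj (c := g) (DS.Nt.tp_of_mem_DZ (hp := tE8) hr hrp hg ⟨1, by rw [pow_one, h1]⟩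
    (mem_DZ8 hr hrp hg h1 ?_) ⟨n, by rw [conj_pow, hn, mul_one, mul_inv_cancel]⟩)
  rw [conj_mul, conj_mul, hc]

theorem comm_of_sq {G : Type*} [Group G] {P : Subgroup G} (h : ∀ x ∈ P, x ^ 2 = 1) : ∀ x ∈ P, ∀ y ∈ P, x * y = y * x := by
  intro x hx y hy
  have h1 : ∀ z ∈ P, z⁻¹ = z := fun z hz => by rw [inv_eq_iff_mul_eq_one, ← pow_two, h z hz]
  rw [← h1 _ (mul_mem hx hy), mul_inv_rev, h1 x hx, h1 y hy]

/-- elementary abelian groups -/
theorem ea_of {r : ℕ} (hr : r.Prime) (hrp : r ≠ p) {P : Subgroup (Y8 p)} (hf : Finite P) (h1 : ∀ x ∈ P, x ^ r = 1)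
    (h2 : ∀ x ∈ P, ∀ y ∈ P, x * y = y * x) : DS.Nt.EA p r P :=
  ⟨hr, hrp, hf, h2, h1, fun x hx y hy => tp8 hr hrp (h1 x hx) ⟨1, by rw [pow_one, h1 y hy]⟩ (h2 x hx y hy)⟩

/-- pure groups of involutions of class 2B -/
theorem pu_of (hp : p ≠ 2) {P : Subgroup (Y8 p)} (hf : Finite P) (h1 : ∀ x ∈ P, x ^ 2 = 1)
    (h2 : ∀ x ∈ P, x ≠ 1 → dd p x = 120) : DS.Nt.P8.Pu P :=
  ⟨ea_of Nat.prime_two hp.symm hf h1 (comm_of_sq h1), h2⟩

/-- a toral `r`-group with a fixed space of dimension `8` is centralized by no perfect group -/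
theorem perf_eq_bot {r : ℕ} (hr : r.Prime) {Q : Subgroup (Y8 p)} (hQ : ∀ x ∈ Q, ∃ n : ℕ, x ^ r ^ n = 1)
    (hT : DS.Ex.Toral p Q) (h8 : finrank (kb p) (Fx p (Q : Set (Y8 p))) = 8) {J : Subgroup (Y8 p)} (hJ : ⁅J, J⁆ = J)
    (hc : Q ≤ centralizer (J : Set (Y8 p))) : J = ⊥ := by
  obtain ⟨g, hg⟩ := hT
  have h1 := DS.Nt.Ps_empty tE8 hg h8
  have h2 := chi_perf tE8 hr (Q := DS.Nt.cS g Q) (fun t ht => ⟨DS.Nt.cS_sub hg ht, by
      obtain ⟨a, ha, rfl⟩ := ht
      obtain ⟨n, hn⟩ := hQ a ha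
      exact ⟨n, by rw [conj_pow, hn, mul_one, mul_inv_cancel]⟩⟩) (J := J.map (MulAut.conj g).toMonoidHom)
    (by rw [← map_commutator, hJ]) (by
      rintro _ ⟨j, hj, rfl⟩
      exact mem_centralizer_iff.2 fun t ht =>
        (DS.Nt.cS_comm (fun a ha => mem_centralizer_iff.1 (hc ha) j hj) t ht).symm)
  have h3 : DS.Nt.Mz tE8 p (DS.Nt.cS g Q) ≤ ⊥ := DS.Nt.Mz_le fun a ha => (h1 a ha).elim
  exact (map_eq_bot_iff_of_injective _ (MulAut.conj g).injective).1 (eq_bot_iff.2 (le_trans h2 h3))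

/-- no perfect group centralizes a pure group of order `16` -/
theorem pure16 (hp : p ≠ 2) {Q : Subgroup (Y8 p)} (hc : Nat.card Q = 16) (h1 : ∀ x ∈ Q, x ^ 2 = 1)
    (h2 : ∀ x ∈ Q, x ≠ 1 → dd p x = 120) {J : Subgroup (Y8 p)} (hJ : ⁅J, J⁆ = J)
    (hQ : Q ≤ centralizer (J : Set (Y8 p))) : J = ⊥ := by
  have h := pu_of hp (Nat.finite_of_card_ne_zero (by omega)) h1 h2
  have h3 := h.fx
  rw [hc] at h3
  exact perf_eq_bot Nat.prime_two (fun x hx => ⟨1, by rw [pow_one, h1 x hx]⟩) (DS.Nt.P8.toral16 h hc)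
    (by change finrank (H469.Exc.KK p) _ = 8; omega) hJ hQ

/-- automorphisms of the finite group are semilinear -/
theorem ext8 {L : Type} [Group L] (E : Fr8 p L) (θ : MulAut L) : (∀ x : L, dd p (E.ι (θ x)) = dd p (E.ι x)) ∧
    ∀ S : Set L, finrank (kb p) (Fx p (E.ι '' (θ '' S))) = finrank (kb p) (Fx p (E.ι '' S)) := by
  obtain ⟨y, m, h⟩ := FExt.exists_ext E H129.TorusChar.invC_E8 BpExc.FamInst.inv_E8 one_ne_zero (Or.inl rfl)
    (fun F _ => S1054.result _ (by simp)) (fun _ => H79.DiagSymm.eq_one_E8) θ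
  exact ⟨(Ext.of_ext h).1, (Ext.of_ext h).2.2⟩

section artin

open Cfsg.Agent.R2.T1.Art Cfsg.Agent.H657 IsLocalRing
open Cfsg.Agent.H952.F4 (ev)

/-- **Artin's formula** over `kb p`; values of `om`: `R2.T1.Art.om_one`, `om_prime`, `om_six`, `om_fifteen`, `om_comp`;
`H952.F4.ev (σ x) c` is `DS.NT.ev σ x c` by `rfl` -/
theorem artinK {W : Type} [AddCommGroup W] [Module (kb p) W] [FiniteDimensional (kb p) W] {T : Type} [Group T]
    [Fintype T] (hcard : ¬ p ∣ Nat.card T) (σ : T →* Module.End (kb p) W) :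
    (Fintype.card T : ℚ) * (finrank (kb p) (fx σ Set.univ) : ℚ) = ∑ x : T, om σ x := by
  classical
  have hfx : fx σ Set.univ = Representation.invariants σ := by
    ext v
    rw [Representation.mem_invariants]
    exact ⟨fun h g => h g trivial, fun h g _ => h g⟩
  rw [hfx]
  obtain ⟨M, hM⟩ := Blocks.ExistsModular.exists_isPModular (Fact.out : p.Prime)
  obtain ⟨V, hV⟩ := exists_above hM
  have hch : CharP (ResidueField V) p := hV.charP hM
  have hac : IsAlgClosed (ResidueField V) := Above.isAlgClosed V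
  obtain ⟨f⟩ : Nonempty (kb p →+* ResidueField V) := by
    let _ : Algebra (ZMod p) (ResidueField V) := ZMod.algebra _ p
    exact ⟨(IsAlgClosed.lift (R := ZMod p) (S := kb p) (M := ResidueField V)).toRingHom⟩
  have hT : (Fintype.card T : kb p) ≠ 0 := by
    intro h
    rw [CharP.cast_eq_zero_iff (kb p) p, ← Nat.card_eq_fintype_card] at h
    exact hcard h
  have hT' : (Fintype.card T : ResidueField V) ≠ 0 := by
    intro h
    rw [CharP.cast_eq_zero_iff (ResidueField V) p, ← Nat.card_eq_fintype_card] at h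
    exact hcard h
  let b := Module.finBasis (kb p) W
  let m := finrank (kb p) W
  let R : T →* Matrix (Fin m) (Fin m) (kb p) :=
    ((LinearMap.toMatrixAlgEquiv b : (W →ₗ[kb p] W) ≃ₐ[kb p] Matrix (Fin m) (Fin m) (kb p)) :
      (W →ₗ[kb p] W) →* _).comp σ
  let R' : T →* Matrix (Fin m) (Fin m) (ResidueField V) :=
    MonoidHom.comp (RingHom.toMonoidHom (f.mapMatrix (m := Fin m))) R
  let σ1 : Representation (kb p) T (Fin m → kb p) :=
    ((Matrix.toLinAlgEquiv' : Matrix (Fin m) (Fin m) (kb p) ≃ₐ[kb p] _) : Matrix (Fin m) (Fin m) (kb p) →* _).comp R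
  let σ2 : Representation (ResidueField V) T (Fin m → ResidueField V) :=
    ((Matrix.toLinAlgEquiv' : Matrix (Fin m) (Fin m) (ResidueField V) ≃ₐ[ResidueField V] _) :
      Matrix (Fin m) (Fin m) (ResidueField V) →* _).comp R'
  have e1 : ∀ g, σ1 g = b.equivFun.conj (σ g) := by
    intro g
    show Matrix.toLin' (LinearMap.toMatrix b b (σ g)) = _
    refine LinearMap.ext fun v => ?_
    rw [Matrix.toLin'_apply, LinearEquiv.conj_apply_apply]
    have h1 := LinearMap.toMatrix_mulVec_repr b b (σ g) (b.equivFun.symm v)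
    have h2 : (b.repr (b.equivFun.symm v) : Fin m → kb p) = v := b.equivFun.apply_symm_apply v
    rw [h2] at h1
    exact h1
  have hev1 : ∀ g μ, ev (σ1 g) μ = ev (σ g) μ := by
    intro g μ
    rw [e1]
    have h1 : Module.End.eigenspace (b.equivFun.conj (σ g)) μ =
        (Module.End.eigenspace (σ g) μ).map (b.equivFun : W →ₗ[kb p] _) := by
      ext v
      rw [Module.End.mem_eigenspace_iff, Submodule.mem_map]
      constructor
      · intro h
        refine ⟨b.equivFun.symm v, ?_, b.equivFun.apply_symm_apply v⟩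
        rw [Module.End.mem_eigenspace_iff]
        apply b.equivFun.injective
        rw [map_smul, b.equivFun.apply_symm_apply, ← h, LinearEquiv.conj_apply_apply]
      · rintro ⟨w, hw, rfl⟩
        rw [Module.End.mem_eigenspace_iff] at hw
        show b.equivFun.conj (σ g) (b.equivFun w) = μ • b.equivFun w
        rw [LinearEquiv.conj_apply_apply, b.equivFun.symm_apply_apply, hw, map_smul]
    rw [ev, h1, LinearEquiv.finrank_map_eq]
    rfl
  have hinv1 : finrank (kb p) ↥σ1.invariants = finrank (kb p) ↥(Representation.invariants σ) := by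
    have h1 : σ1.invariants = (Representation.invariants σ).map (b.equivFun : W →ₗ[kb p] _) := by
      ext v
      rw [Representation.mem_invariants, Submodule.mem_map]
      constructor
      · intro h
        refine ⟨b.equivFun.symm v, ?_, b.equivFun.apply_symm_apply v⟩
        rw [Representation.mem_invariants]
        intro g
        apply b.equivFun.injective
        rw [b.equivFun.apply_symm_apply]
        have h2 := h g
        rwa [e1, LinearEquiv.conj_apply_apply] at h2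
      · rintro ⟨w, hw, rfl⟩ g
        rw [Representation.mem_invariants] at hw
        rw [e1]
        show b.equivFun.conj (σ g) (b.equivFun w) = b.equivFun w
        rw [LinearEquiv.conj_apply_apply, b.equivFun.symm_apply_apply, hw g]
    rw [h1, LinearEquiv.finrank_map_eq]
  have hσ1 : ∀ g, σ1 g = Matrix.toLin' (R g) := fun g => rfl
  have hσ2 : ∀ g, σ2 g = Matrix.toLin' (R' g) := fun g => rfl
  have hinv2 : finrank (ResidueField V) ↥σ2.invariants = finrank (kb p) ↥σ1.invariants := by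
    rw [finrank_inv_rank hT R σ1 hσ1, finrank_inv_rank hT' R' σ2 hσ2]
    have h1 : ∑ g, R' g = (∑ g, R g).map f := by
      have h2 : (∑ g, R g).map f = f.mapMatrix (∑ g, R g) := rfl
      rw [h2, map_sum]
      rfl
    rw [h1, H593.RobinsonRank.rank_map]
  have hev2 : ∀ g, ev (σ2 g) 1 = ev (σ1 g) 1 := by
    intro g
    have h1 := H815.F4Chg.ev_map f (R g) 1
    rw [map_one] at h1
    exact h1
  have hom : ∀ x, om σ x = om σ2 x := by
    intro x
    unfold om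
    congr 1
    refine Finset.sum_congr rfl fun a _ => ?_
    rw [hev2, hev1]
  rw [Finset.sum_congr rfl fun x _ => hom x, ← artin_res hM hV hcard σ2, hinv2, hinv1]

end artin

end Cfsg.Agent.Cam.E8O
end

private theorem dce_e2ce9df9f186 : _root_.True := by
  try have : _root_.True := by simp only [_root_.Cfsg.Agent.E8A.Inf.T6.eq_1]
  exact _root_.True.intro
end

-- part: Cam/E8/OAsmC_mg
section
prune_inst 0x80010000000000000000400000000000000000000000000800000000020020000000040000000000000000000000000000000001000000000000000000000000000000000000000000000000000000000000000000000000000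
set_option linter.all false
open scoped Cfsg.Agent.FastGrp

-- part: Cam/E8/OAsmA
section
/-!
# S3690, the row `E₈`, odd characteristic: no involutions of class 2A in `T`, `A`, `B` (helper70)
-/

set_option autoImplicit false
set_option linter.unusedVariables false
set_option linter.unusedSectionVars false

namespace Cfsg.Agent.Cam.E8O.Asm

open Cfsg Cfsg.Lie Subgroup Module
open Cfsg.Agent.Cam.Spor Cfsg.Agent.Cam.Ex Cfsg.Agent.Cam.Ex.S2 Cfsg.Agent.Cam.Odd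
open Cfsg.Agent.H402.PSL2Cls (PSL)
open Cfsg.Agent.DS.Nt (dd ad Fx Tp)
open Cfsg.Agent.Nodes.RGDFoldSL (hS)

section cz

variable {k Y : Type} [Field k] [Group Y] {ψ : SL k →* Y}

theorem cz_mul {a b : Y} (ha : Cz ψ a) (hb : Cz ψ b) : Cz ψ (a * b) := fun g => by
  rw [mul_assoc, hb g, ← mul_assoc, ha g, mul_assoc]

theorem neg_center : (hS (-1) : SL k) ∈ center (SL k) := by
  have h : (-1 : k) ≠ 0 := neg_ne_zero.2 one_ne_zero
  exact mem_center_iff'.2 ⟨hS01 h, hS10 h, by rw [hS00 h, hS11 h, inv_neg, inv_one]⟩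

theorem cz_inv {a : Y} (ha : Cz ψ a) : Cz ψ a⁻¹ := fun g => (show Commute a (ψ g) from ha g).inv_left.eq

end cz

section tet

variable {U : Type} [Group U] {x₁ x₂ t : U}

theorem tet_o2 (h : Tet x₁ x₂ t) : orderOf x₂ = 2 := by rw [← h.c1, ord_conj, h.o1]

theorem tet_o3 (h : Tet x₁ x₂ t) : orderOf (x₁ * x₂) = 2 := by rw [← h.c2, ord_conj, tet_o2 h]

theorem mul_self_of {G : Type} [Group G] {u : G} (h : orderOf u = 2) : u * u = 1 := by rw [← pow_two, sq_of h]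

/-- the four-group -/
def V4 (h : Tet x₁ x₂ t) : Subgroup U where
  carrier := {1, x₁, x₂, x₁ * x₂}
  one_mem' := Or.inl rfl
  mul_mem' := by
    have h1 := mul_self_of h.o1
    have h2 := mul_self_of (tet_o2 h)
    have h3 := mul_self_of (tet_o3 h)
    have h4 : x₁ * (x₁ * x₂) = x₂ := by rw [← mul_assoc, h1, one_mul]
    have h5 : x₂ * (x₁ * x₂) = x₁ := by rw [h.comm, ← mul_assoc, h2, one_mul]
    have h6 : x₁ * x₂ * x₁ = x₂ := by rw [h.comm, mul_assoc, h1, mul_one]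
    have h7 : x₁ * x₂ * x₂ = x₁ := by rw [mul_assoc, h2, mul_one]
    rintro a b (rfl | rfl | rfl | rfl) (rfl | rfl | rfl | rfl) <;>
      simp only [one_mul, mul_one, h1, h2, h3, h4, h5, h6, h7, ← h.comm, Set.mem_insert_iff, Set.mem_singleton_iff,
        true_or, or_true]
  inv_mem' := by
    rintro a (rfl | rfl | rfl | rfl)
    · exact Or.inl inv_one
    · exact Or.inr (Or.inl (inv_eq_of_mul_eq_one_right (mul_self_of h.o1)))
    · exact Or.inr (Or.inr (Or.inl (inv_eq_of_mul_eq_one_right (mul_self_of (tet_o2 h)))))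
    · exact Or.inr (Or.inr (Or.inr (inv_eq_of_mul_eq_one_right (mul_self_of (tet_o3 h)))))

theorem card_V4 (h : Tet x₁ x₂ t) : Nat.card (V4 h) = 4 := by
  have h1 := ne_of h.o1
  have h2 := ne_of (tet_o2 h)
  have h3 := ne_of (tet_o3 h)
  have h4 : x₁ ≠ x₁ * x₂ := fun e => h2 (by simpa using e)
  have h5 : x₂ ≠ x₁ * x₂ := fun e => h1 (by simpa using e)
  change Nat.card ({1, x₁, x₂, x₁ * x₂} : Set U) = 4
  rw [Nat.card_coe_set_eq, Set.ncard_insert_of_notMem (by simp [h1.symm, h2.symm, h3.symm]),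
    Set.ncard_insert_of_notMem (by simp [h.ne, h4]), Set.ncard_pair h5]

theorem ord_V4 (h : Tet x₁ x₂ t) {a : U} (ha : a ∈ ({1, x₁, x₂, x₁ * x₂} : Set U)) : a = 1 ∨ orderOf a = 2 := by
  rcases ha with rfl | rfl | rfl | rfl
  exacts [Or.inl rfl, Or.inr h.o1, Or.inr (tet_o2 h), Or.inr (tet_o3 h)]

theorem conj_V4 (h : Tet x₁ x₂ t) {a : U} (ha : a ∈ ({1, x₁, x₂, x₁ * x₂} : Set U)) :
    a = 1 ∨ ∃ g, a = g * x₁ * g⁻¹ := by
  rcases ha with rfl | rfl | rfl | rfl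
  · exact Or.inl rfl
  · exact Or.inr ⟨1, by group⟩
  · exact Or.inr ⟨t, h.c1.symm⟩
  · exact Or.inr ⟨t * t, by rw [← h.c2, ← h.c1]; group⟩

end tet

variable {p : ℕ} [Fact p.Prime] {L : Type} [Group L] [Finite L] {U : Type} [Group U] [Finite U]

/-- a simple subgroup of `PSL₂(k)`: every involution lies in a four-group of conjugates -/
theorem three_conj (h2 : p ≠ 2) (hs : IsSimpleGroup U) (hn : ¬ IsMulCommutative U) {f : U →* PSL (kb p)}
    (hf : Function.Injective f) {u : U} (hu : orderOf u = 2) :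
    ∃ g g' : U, g * u * g⁻¹ ≠ u ∧ g * u * g⁻¹ * u = u * (g * u * g⁻¹) ∧ g * u * g⁻¹ * u = g' * u * g'⁻¹ := by
  obtain ⟨h1, x₁, x₂, t, ht⟩ : (∀ u v : U, orderOf u = 2 → orderOf v = 2 → IsConj u v) ∧ ∃ x₁ x₂ t : U, Tet x₁ x₂ t := by
    rcases Grp.con_of_inj p h2 hs hn f hf with h | ⟨h, -⟩
    all_goals
      obtain ⟨h1, -, x₁, x₂, t, ht, -⟩ := h
      exact ⟨h1, x₁, x₂, t, ht⟩
  obtain ⟨c, hc⟩ := isConj_iff.1 (h1 x₁ u ht.o1 hu)
  have h3 := ht.map (f := (MulAut.conj c).toMonoidHom) (MulAut.conj c).injective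
  have e : (MulAut.conj c).toMonoidHom x₁ = u := hc
  rw [e] at h3
  refine ⟨(MulAut.conj c).toMonoidHom t, (MulAut.conj c).toMonoidHom t * (MulAut.conj c).toMonoidHom t, ?_, ?_, ?_⟩
  · rw [h3.c1]
    exact h3.ne.symm
  · rw [h3.c1, h3.comm]
  · rw [h3.c1, ← h3.comm, ← h3.c2, ← h3.c1]
    group

theorem ord_ι (E : Fr8 p L) (x : L) : orderOf (E.ι x) = orderOf x := orderOf_injective _ (by exact E.inj) x

theorem ι_comm (E : Fr8 p L) {x y : L} (h : x * y = y * x) : E.ι x * E.ι y = E.ι y * E.ι x := map_comm _ h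

theorem dd2L (E : Fr8 p L) (h2 : p ≠ 2) {x : L} (hx : orderOf x = 2) : dd p (E.ι x) = 120 ∨ dd p (E.ι x) = 136 :=
  dd2 h2 (map_sq _ (sq_of hx)) (map_ne E.inj (ne_of hx))

/-- `q8` in `L` -/
theorem q8L (E : Fr8 p L) {x : L} {ψ : SL (kb p) →* Y8 p} (h : JA p (E.ι x) ψ) {y : L} (hy : orderOf y = 2)
    (hne : y ≠ x) (hc : y * x = x * y) : Cz ψ (E.ι y) ↔ dd p (E.ι (y * x)) ≠ dd p (E.ι y) := by
  rw [map_mul]
  exact h.q8 _ (by rw [ord_ι, hy]) (fun e => hne (E.inj e)) (ι_comm E hc)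

/-- an element commuting with a perfect group that acts non-trivially on the root `SL₂` -/
theorem czL (E : Fr8 p L) {x : L} {ψ : SL (kb p) →* Y8 p} (h : JA p (E.ι x) ψ) {J : Subgroup L} (hJ : ⁅J, J⁆ = J)
    (hx : ∀ j ∈ J, j * x = x * j) (hn : ¬ ∀ j ∈ J, Cz ψ (E.ι j)) {n : L} (h1 : n * x = x * n)
    (h3 : ∀ j ∈ J, n * j = j * n) : Cz ψ (E.ι n) := by
  obtain ⟨s, hs⟩ := h.inn _ (ι_comm E h1)
  refine h.ck.cz_of_perfect (R := J.map E.ι) (by rw [← map_commutator, hJ]) ?_ (fun h4 => hn fun j hj => h4 _ ⟨j, hj, rfl⟩)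
    hs ?_
  · rintro _ ⟨j, hj, rfl⟩
    exact h.inn _ (ι_comm E (hx j hj))
  · rintro _ ⟨j, hj, rfl⟩
    exact ι_comm E (h3 j hj)

variable {τ α β : U →* L} {R R' D : Subgroup L}

/-- an element normalizing `T R` and centralizing a non-trivial element of `T` normalizes `R` -/
theorem norm_R (c : Core τ α β R R') {s : L} (hs : s ∈ normalizer ((τ.range ⊔ R : Subgroup L) : Set L)) {u : U}
    (hu : u ≠ 1) (hc : s * τ u = τ u * s) : ∀ n ∈ R, s * n * s⁻¹ ∈ R := by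
  have hcm : ∀ x ∈ τ.range, ∀ r ∈ R, x * r = r * x := by
    rintro _ ⟨v, rfl⟩ r hr
    exact c.pair.comm v r hr
  have hT : ∀ y ∈ τ.range ⊔ R, ∀ x ∈ τ.range, y * x * y⁻¹ ∈ τ.range := by
    intro y hy x hx
    obtain ⟨a, ha, r, hr, rfl⟩ := mem_sup_of_comm hcm hy
    have e : a * r * x * (a * r)⁻¹ = a * x * a⁻¹ := by
      rw [mul_assoc a r x, ← hcm x hx r hr]
      group
    rw [e]
    exact mul_mem (mul_mem ha hx) (inv_mem ha)
  -- `s⁻¹ T s ≤ T`
  have h1 : τ.range ⊓ τ.range.comap (MulAut.conj s⁻¹).toMonoidHom = τ.range := by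
    refine (eq_bot_or_eq (range_simple c.simple c.pair.inj) inf_le_left fun a ha n hn => ?_).resolve_left fun e => ?_
    · refine ⟨τ.range.mul_mem (τ.range.mul_mem ha hn.1) (τ.range.inv_mem ha), ?_⟩
      have h2 := hT _ (conj_mem_of_norm (inv_mem hs) (mem_sup_left ha)) _ hn.2
      change s⁻¹ * (a * n * a⁻¹) * s⁻¹⁻¹ ∈ τ.range
      convert h2 using 1
      change _ = s⁻¹ * a * s⁻¹⁻¹ * (s⁻¹ * n * s⁻¹⁻¹) * (s⁻¹ * a * s⁻¹⁻¹)⁻¹
      group
    · have h2 : τ u ∈ τ.range ⊓ τ.range.comap (MulAut.conj s⁻¹).toMonoidHom := by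
        refine ⟨⟨u, rfl⟩, ⟨u, ?_⟩⟩
        change τ u = s⁻¹ * τ u * s⁻¹⁻¹
        rw [mul_assoc, inv_inv, ← hc, inv_mul_cancel_left]
      rw [e, mem_bot] at h2
      exact map_ne c.pair.inj hu h2
  intro n hn
  obtain ⟨_, ⟨v, rfl⟩, r, hr, e⟩ := mem_sup_of_comm hcm (conj_mem_of_norm hs (mem_sup_right hn))
  have h3 : v = 1 := eq_one_of_comm c.simple c.noncomm fun w => c.pair.inj (by
    have h4 : s⁻¹ * τ w * s⁻¹⁻¹ ∈ τ.range := (h1.ge ⟨w, rfl⟩).2
    have h5 := hcm _ h4 n hn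
    have h6 : τ v = s * n * s⁻¹ * r⁻¹ := by rw [e]; group
    have h7 := c.pair.comm w r⁻¹ (inv_mem hr)
    rw [map_mul, map_mul, h6]
    calc s * n * s⁻¹ * r⁻¹ * τ w = s * (n * (s⁻¹ * τ w * s⁻¹⁻¹)) * s⁻¹ * r⁻¹ := by
          rw [mul_assoc _ r⁻¹, ← h7]; group
      _ = _ := by rw [← h5]; group)
  rw [e, h3, map_one, one_mul]
  exact hr

/-- **O1**: no involution of class 2A in `T` -/
theorem tau2 (j : BoxJ) (h2 : p ≠ 2) (E : Fr8 p L) (c : Core8 τ α β R R' D) {u : U} (hu : orderOf u = 2) :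
    dd p (E.ι (τ u)) = 120 := by
  have co := c.toCore
  have hx : orderOf (τ u) = 2 := by rw [co.pair.orderOf_eq, hu]
  refine (dd2L E h2 hx).resolve_right fun hd => ?_
  obtain ⟨ψ, hj, hxn⟩ := j p h2 L E (τ u) hx hd
  have hz : Cz ψ (E.ι (τ u)) := fun g => by
    rw [← hj.ctr, ← map_mul, ← map_mul, mem_center_iff.1 neg_center g]
  have hXx : ∀ s : L, E.ι s ∈ ψ.range → s * τ u = τ u * s := by
    rintro s ⟨g, hg⟩
    apply E.inj
    rw [map_mul, map_mul, ← hg, hz g]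
  by_cases hR : ∀ r ∈ R, Cz ψ (E.ι r)
  · -- `R` centralizes the root `SL₂`
    have hX : ψ.range.comap E.ι ≤ centralizer (R : Set L) := by
      rintro s ⟨g, hg⟩
      refine mem_centralizer_iff.2 fun r hr => E.inj ?_
      rw [map_mul, map_mul, ← hg, hR r hr g]
    have hN : ∀ s, E.ι s ∈ ψ.range → ∀ n ∈ τ.range, s * n * s⁻¹ ∈ τ.range := fun s hs n hn =>
      conj_mem_of_norm (co.pair.cnorm (hX hs)) hn
    obtain ⟨n, hn, hnx, hnc⟩ : ∃ n ∈ τ.range, n * τ u = τ u * n ∧ ¬ Cz ψ (E.ι n) := by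
      obtain ⟨g, hg1, hg2⟩ := Grp.boxGrp.zs U co.simple co.noncomm u hu
      by_cases h3 : Cz ψ (E.ι (τ (g * u * g⁻¹)))
      · rw [map_conj', map_conj'] at h3
        have h4 := hj.far (E.ι (τ g)) (fun e => hg1 (co.pair.inj (E.inj (by rw [map_conj', map_conj', e])))) h3
        obtain ⟨w, ⟨s, hs⟩, hw⟩ := hxn.ex
        have h5 : Cz ψ (E.ι (τ g * w * (τ g)⁻¹)) := by
          rw [map_conj', ← hs]
          exact h4 s
        refine ⟨w⁻¹ * (τ g * w * (τ g)⁻¹), ?_, ?_, fun h6 => hw ?_⟩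
        · have h6 := hN w⁻¹ (by rw [map_inv]; exact inv_mem ⟨s, hs⟩) _ ⟨g, rfl⟩
          have h7 := mul_mem h6 (inv_mem (⟨g, rfl⟩ : τ g ∈ τ.range))
          convert h7 using 1
          group
        · have h6 : τ g * w * (τ g)⁻¹ * τ u = τ u * (τ g * w * (τ g)⁻¹) := by
            apply E.inj
            rw [map_mul E.ι _ (τ u), map_mul E.ι (τ u), ← hj.ctr]
            exact h5 _
          have h7 : w⁻¹ * τ u = τ u * w⁻¹ := hXx _ (by rw [map_inv]; exact inv_mem ⟨s, hs⟩)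
          rw [mul_assoc, h6, ← mul_assoc, h7, mul_assoc]
        · have h7 := cz_inv (cz_mul h6 (cz_inv h5))
          rwa [map_mul, mul_inv_cancel_right, map_inv, inv_inv] at h7
      · exact ⟨_, ⟨_, rfl⟩, map_comm τ hg2.symm, h3⟩
    obtain ⟨-, _, ⟨v, rfl⟩, _, ⟨v', rfl⟩, hv, hv', hne⟩ := hxn.nrm τ.range hN n hn hnx hnc
    refine hne (map_comm τ (P.comm_of co hX (Q := {u}) (by rintro _ rfl _ rfl; rfl) (fun d hd y hy => ?_) hv hv'))
    obtain ⟨s, hs⟩ := hj.inn (E.ι (α d)) (ι_comm E (mem_centralizer_singleton_iff.1 (co.alpha_mem_cent (hd u rfl))))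
    obtain ⟨g, hg⟩ := hy
    exact ⟨s * g * s⁻¹, by rw [map_conj' E.ι, ← hg, hs g]⟩
  · have hRx : ∀ r ∈ R, r * τ u = τ u * r := fun r hr => (co.pair.comm u r hr).symm
    by_cases hf : ∃ f : U →* PSL (kb p), Function.Injective f
    · obtain ⟨f, hf⟩ := hf
      obtain ⟨g, g', h3, h4, h5⟩ := three_conj h2 co.simple co.noncomm hf hu
      have h6 := czL E hj co.pair.perfect hRx hR (map_comm τ h4) (co.pair.comm _)
      rw [q8L E hj (by rw [co.pair.orderOf_eq, ord_conj, hu]) (fun e => h3 (co.pair.inj e)) (map_comm τ h4),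
        ← map_mul, h5, map_conj', map_conj' τ, dd_conjL, dd_conjL] at h6
      exact h6 rfl
    · let D₀ : Subgroup L := sSup {A | ∃ φ : U →* L, Function.Injective φ ∧ (∀ v, φ v ∈ D) ∧ A = φ.range}
      have hD : D₀ ≤ D := sSup_le (by
        rintro _ ⟨φ, -, h3, rfl⟩ _ ⟨v, rfl⟩
        exact h3 v)
      have hC : ∀ s : L, E.ι s ∈ ψ.range → s ∈ centralizer (D₀ : Set L) := by
        rintro s ⟨g, hg⟩
        have h3 : D₀ ≤ centralizer {s} := sSup_le (by
          rintro _ ⟨φ, h4, h3, rfl⟩ _ ⟨v, rfl⟩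
          have h5 : Cz ψ (E.ι (φ v)) := by
            by_contra h6
            exact hf (Grp.exists_inj co.simple ψ (E.ι.comp φ) hj.ck
              (fun w => hj.inn _ (ι_comm E (hRx _ (c.le (h3 w))))) ⟨v, h6⟩)
          refine mem_centralizer_singleton_iff.2 (E.inj ?_)
          rw [map_mul, map_mul, ← hg, h5 g])
        exact mem_centralizer_iff.2 fun d hd => mem_centralizer_singleton_iff.1 (h3 hd)
      have hle : ∀ θ : MulAut L, D.map θ.toMonoidHom = D → D₀.map θ.toMonoidHom ≤ D₀ := fun θ hθ => by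
        rw [map_le_iff_le_comap]
        refine sSup_le ?_
        rintro _ ⟨φ, h4, h3, rfl⟩ _ ⟨v, rfl⟩
        exact le_sSup (s := {A | ∃ φ : U →* L, Function.Injective φ ∧ (∀ v, φ v ∈ D) ∧ A = φ.range})
          ⟨θ.toMonoidHom.comp φ, θ.injective.comp h4, fun w => hθ ▸ ⟨φ w, h3 w, rfl⟩, rfl⟩ ⟨v, rfl⟩
      have hmax := c.max8 (normalizer (D₀ : Set L)) (fun e => by
          have h3 : D₀.Normal := normalizer_eq_top_iff.1 e
          have := E.simple
          rcases h3.eq_bot_or_eq_top with h4 | h4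
          · obtain ⟨φ, h5, h6⟩ := c.cpy
            have h7 : φ u ∈ D₀ := le_sSup (s := {A | ∃ φ : U →* L, Function.Injective φ ∧ (∀ v, φ v ∈ D) ∧ A = φ.range})
              ⟨φ, h5, h6, rfl⟩ ⟨u, rfl⟩
            rw [h4, mem_bot] at h7
            exact map_ne h5 (ne_of hu) h7
          · exact ne_of hu (co.pair.eq_one_of_mem co.simple co.noncomm (c.le (hD (h4 ▸ mem_top _)))))
        (fun θ h3 _ => by
          have h4 : D₀.map θ.toMonoidHom = D₀ := Subgroup.eq_of_le_of_card_ge (hle θ h3)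
            (by rw [card_map_of_injective θ.injective])
          ext y
          obtain ⟨y, rfl⟩ := θ.surjective y
          rw [mem_map_equiv', ← mem_normalizer_equiv θ, h4])
      push Not at hR
      obtain ⟨r, hr, hr'⟩ := hR
      exact ne_of hu (co.pair.eq_one_of_mem co.simple co.noncomm (hxn.nrm R (fun s hs => norm_R co
        (hmax (centralizer_le_normalizer _ (hC s hs))) (ne_of hu) (hXx s hs)) r hr (hRx r hr) hr').1)

theorem alpha_eq (E : Fr8 p L) (c : Core τ α β R R') :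
    ∃ ψ : U →* U, Function.Injective ψ ∧ ∀ u, dd p (E.ι (α u)) = dd p (E.ι (τ (ψ u))) := by
  obtain ⟨θ, ψ, h1, h3⟩ := exists_cmp c
  exact ⟨ψ, h1, fun u => by rw [← h3, (ext8 E θ).1]⟩

theorem alpha2 (j : BoxJ) (h2 : p ≠ 2) (E : Fr8 p L) (c : Core8 τ α β R R' D) {u : U} (hu : orderOf u = 2) :
    dd p (E.ι (α u)) = 120 := by
  obtain ⟨ψ, h1, h3⟩ := alpha_eq E c.toCore
  rw [h3, tau2 j h2 E c (by rw [orderOf_injective ψ h1, hu])]

/-- **O2**: no involution of class 2A in `B` -/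
theorem beta2 (j : BoxJ) (h2 : p ≠ 2) (E : Fr8 p L) (c : Core8 τ α β R R' D) {u : U} (hu : orderOf u = 2) :
    dd p (E.ι (β u)) = 120 := by
  have co := c.toCore
  have hx : orderOf (β u) = 2 := by rw [orderOf_injective β co.binj, hu]
  refine (dd2L E h2 hx).resolve_right fun hd => ?_
  obtain ⟨ψ, hj, -⟩ := j p h2 L E (β u) hx hd
  have h3 : ¬ Cz ψ (E.ι (α u)) := by
    rw [q8L E hj (by rw [co.pair'.orderOf_eq, hu]) (fun e => ne_of hu (alpha_eq_beta co e).1) (co.ab u u), ← co.eq,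
      tau2 j h2 E c hu, alpha2 j h2 E c hu]
    exact fun h => h rfl
  obtain ⟨f, hf⟩ := Grp.exists_inj co.simple ψ (E.ι.comp α) hj.ck (fun w => hj.inn _ (ι_comm E (co.ab w u))) ⟨u, h3⟩
  obtain ⟨g, g', h4, h5, h6⟩ := three_conj h2 co.simple co.noncomm hf hu
  have h7 := czL E hj (range_perfect co.simple co.noncomm α) (by rintro _ ⟨w, rfl⟩; exact co.ab w u)
    (fun h => h3 (h _ ⟨u, rfl⟩)) (map_comm β h5) (by rintro _ ⟨w, rfl⟩; exact (co.ab w _).symm)
  rw [q8L E hj (by rw [orderOf_injective β co.binj, ord_conj, hu]) (fun e => h4 (co.binj e)) (map_comm β h5),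
    ← map_mul, h6, map_conj', map_conj' β, dd_conjL, dd_conjL] at h7
  exact h7 rfl

/-- the mixed products are of class 2B -/
theorem mix2 (j : BoxJ) (h2 : p ≠ 2) (E : Fr8 p L) {a : U →* L} {x₁ x₂ t : U} (ht : Tet x₁ x₂ t) {y : L}
    (ha : ∀ u, orderOf u = 2 → dd p (E.ι (a u)) = 120) (hy : orderOf y = 2) (hd : dd p (E.ι y) = 120)
    (hc : ∀ u, a u * y = y * a u) (hne : ∀ u, a u ≠ y) : dd p (E.ι (a x₁ * y)) = 120 := by
  have ho : ∀ u, orderOf u = 2 → orderOf (a u) = 2 := fun u hu => by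
    have := Fact.mk Nat.prime_two
    refine orderOf_eq_prime (map_sq _ (sq_of hu)) fun e => ?_
    have h3 := ha u hu
    rw [e, map_one, dd_one] at h3
    omega
  have hz := ord_mul (ho _ ht.o1) hy (hne _) (hc _)
  refine (dd2L E h2 hz).resolve_right fun h3 => ?_
  obtain ⟨ψ, hj, -⟩ := j p h2 L E _ hz h3
  have hcj : ∀ g, dd p (E.ι (a (g * x₁ * g⁻¹) * y)) = 136 := fun g => by
    rw [← h3, ← dd_conjL E (a g) (a x₁ * y), map_conj', mul_assoc (a g * a x₁), ← map_inv, hc, map_inv]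
    congr 2
    group
  have key : ∀ u, orderOf u = 2 → u * x₁ = x₁ * u →
      (Cz ψ (E.ι (a u)) ↔ dd p (E.ι (a (u * x₁) * y)) ≠ 120) := fun u hu h4 => by
    rw [q8L E hj (ho u hu) (fun e => by
        have h5 := ha u hu
        rw [e, h3] at h5
        omega) (by rw [← mul_assoc, ← map_mul, h4, map_mul, mul_assoc, mul_assoc, hc]), ← mul_assoc, ← map_mul, ha u hu]
  have h4 : Cz ψ (E.ι (a x₂)) := by
    rw [key _ (tet_o2 ht) ht.comm.symm, ← ht.comm, ← ht.c2, ← ht.c1, show t * (t * x₁ * t⁻¹) * t⁻¹ =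
      t * t * x₁ * (t * t)⁻¹ by group, hcj]
    omega
  have h6 : x₁ * x₂ * x₁ = x₂ := by rw [ht.comm, mul_assoc, mul_self_of ht.o1, mul_one]
  have h5 : Cz ψ (E.ι (a (x₁ * x₂))) := by
    rw [key _ (tet_o3 ht) (by rw [mul_assoc, ← ht.comm]), h6, ← ht.c1, hcj]
    omega
  have h7 := cz_mul h5 h4
  rw [← map_mul, ← map_mul, mul_assoc, mul_self_of (tet_o2 ht), mul_one, key _ ht.o1 rfl, mul_self_of ht.o1, map_one,
    one_mul] at h7
  exact h7 hd

end Cfsg.Agent.Cam.E8O.Asm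
end

-- part: Cam/E8/OAsmB
section
/-!
# S3690, the row `E₈`, odd characteristic: the component is `A₅` and has no fixed vector (helper70)
-/

set_option autoImplicit false
set_option linter.unusedVariables false
set_option linter.unusedSectionVars false

namespace Cfsg.Agent.Cam.E8O.Asm

open Cfsg Cfsg.Lie Subgroup Module
open Cfsg.Agent.Cam.Spor Cfsg.Agent.Cam.Ex Cfsg.Agent.Cam.Ex.S2 Cfsg.Agent.Cam.Odd
open Cfsg.Agent.H402.PSL2Cls (PSL)
open Cfsg.Agent.DS.NT (ev)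
open Cfsg.Agent.DS.Nt (dd ad Fx Tp)

variable {p : ℕ} [Fact p.Prime] {L : Type} [Group L] [Finite L] {U : Type} [Group U] [Finite U]

section prod

variable {V : Type} [Group V] {a : U →* L} {b : V →* L}

/-- the product of two commuting homomorphisms -/
def pr (a : U →* L) (b : V →* L) (h : ∀ u v, a u * b v = b v * a u) : U × V →* L := a.noncommCoprod b h

theorem pr_apply (h : ∀ u v, a u * b v = b v * a u) (u : U) (v : V) : pr a b h (u, v) = a u * b v := rfl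

theorem pr_l (h : ∀ u v, a u * b v = b v * a u) (u : U) : pr a b h (u, 1) = a u := by rw [pr_apply, map_one, mul_one]

theorem pr_r (h : ∀ u v, a u * b v = b v * a u) (v : V) : pr a b h (1, v) = b v := by rw [pr_apply, map_one, one_mul]

theorem eq_one_of_eq (hs : IsSimpleGroup U) (hn : ¬ IsMulCommutative U) (ha : Function.Injective a) {u : U} {y : L}
    (hc : ∀ w, a w * y = y * a w) (e : a u = y) : u = 1 :=
  eq_one_of_comm hs hn fun w => ha (by rw [map_mul, map_mul, e, hc])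

theorem pr_inj (hs : IsSimpleGroup U) (hn : ¬ IsMulCommutative U) (ha : Function.Injective a)
    (hb : Function.Injective b) (h : ∀ u v, a u * b v = b v * a u) : Function.Injective (pr a b h) := by
  rw [injective_iff_map_eq_one]
  rintro ⟨u, v⟩ e
  rw [pr_apply] at e
  have h1 : u = 1 := eq_one_of_eq hs hn ha (fun w => h w v⁻¹) (by rw [map_inv]; exact eq_inv_of_mul_eq_one_left e)
  rw [h1, map_one, one_mul] at e
  rw [h1, (map_eq_one_iff b hb).1 e]
  rfl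

end prod

/-- two commuting copies whose involutions are of class 2B -/
theorem pt_of (j : BoxJ) (h2 : p ≠ 2) (E : Fr8 p L) (hs : IsSimpleGroup U) (hn : ¬ IsMulCommutative U) {a b : U →* L}
    (ha : Function.Injective a) (hb : Function.Injective b) (h : ∀ u v, a u * b v = b v * a u)
    (da : ∀ u, orderOf u = 2 → dd p (E.ι (a u)) = 120) (db : ∀ u, orderOf u = 2 → dd p (E.ι (b u)) = 120)
    {x₁ x₂ t : U} (ht : Tet x₁ x₂ t) : PT p (E.ι.comp (pr a b h)) x₁ x₂ t := by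
  refine ⟨E.inj.comp (pr_inj hs hn ha hb h), ht, fun u hu v hv hne => ?_⟩
  change dd p (E.ι (pr a b h (u, v))) = 120
  rcases ord_V4 ht hv with rfl | hv'
  · rw [pr_l]
    exact da u ((ord_V4 ht hu).resolve_left fun e => hne (by rw [e]; rfl))
  rcases conj_V4 ht hu with rfl | ⟨g, rfl⟩
  · rw [pr_r]
    exact db v hv'
  have h3 := mix2 j h2 E ht da (y := b v) (by rw [orderOf_injective b hb, hv']) (db v hv') (fun w => h w v) fun w e => by
    have h4 := eq_one_of_eq hs hn ha (fun w => h w v) e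
    rw [h4, map_one] at e
    exact map_ne hb (ne_of hv') e.symm
  rw [pr_apply, ← h3, ← dd_conjL E (a g) (a x₁ * b v), map_conj', mul_assoc (a g * a x₁), ← map_inv, h, map_inv]
  congr 2
  group

/-- no perfect group centralizes a pure group `V × V` -/
theorem pt_cent (h2 : p ≠ 2) {μ : U × U →* Y8 p} {x₁ x₂ t : U} (h : PT p μ x₁ x₂ t) {J : Subgroup (Y8 p)}
    (hJ : ⁅J, J⁆ = J) (hc : ∀ g, ∀ y ∈ J, y * μ g = μ g * y) : J = ⊥ := by
  refine pure16 h2 (Q := ((V4 h.tet).prod (V4 h.tet)).map μ) ?_ ?_ ?_ hJ ?_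
  · rw [card_map_of_injective h.inj, Nat.card_congr (prodEquiv _ _).toEquiv, Nat.card_prod, card_V4]
  · rintro _ ⟨⟨u, v⟩, ⟨hu, hv⟩, rfl⟩
    have h1 : ∀ w ∈ V4 h.tet, w ^ 2 = 1 := fun w hw => by
      rcases ord_V4 h.tet hw with rfl | h3
      exacts [one_pow 2, sq_of h3]
    rw [← map_pow, Prod.pow_mk, h1 u hu, h1 v hv]
    exact map_one μ
  · rintro _ ⟨⟨u, v⟩, ⟨hu, hv⟩, rfl⟩ h1
    exact h.pure u hu v hv fun e => h1 (by rw [e, map_one])
  · rintro _ ⟨g, -, rfl⟩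
    exact mem_centralizer_iff.2 (hc g)

variable {τ α β : U →* L} {R R' D : Subgroup L}

theorem rank2 (B : Boxes) (h2 : p ≠ 2) (E : Fr8 p L) (c : Core8 τ α β R R' D) : PRankLE 2 2 U := by
  by_contra h
  have h' := h
  unfold PRankLE at h'
  push Not at h'
  obtain ⟨A, h1, h3, h4⟩ := h'
  have := Fact.mk Nat.prime_two
  have hA : IsPGroup 2 A := fun x => ⟨1, Subtype.ext (by rw [pow_one]; exact h3 x x.2)⟩
  obtain ⟨n, hn⟩ := hA.exists_card_eq
  have h5 : 2 ^ 3 ∣ Nat.card A := by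
    rw [hn] at h4 ⊢
    exact pow_dvd_pow 2 ((Nat.pow_lt_pow_iff_right (by norm_num)).1 h4)
  obtain ⟨K, hK⟩ := Sylow.exists_subgroup_card_pow_prime 2 h5
  obtain ⟨φ, h6, h7⟩ := c.pair.copy
  have hi : Function.Injective ((E.ι.comp τ).comp A.subtype) := (E.inj.comp c.pair.inj).comp A.subtype_injective
  refine h (B.p3 p h2 (K.map ((E.ι.comp τ).comp A.subtype)) (by rw [card_map_of_injective hi, hK]; rfl) ?_ ?_ U c.simple
    c.noncomm (E.ι.comp φ) (E.inj.comp h6) ?_)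
  · rintro _ ⟨x, -, rfl⟩
    exact map_sq _ (Subtype.ext (h3 x x.2))
  · rintro _ ⟨x, -, rfl⟩ h8
    exact tau2 B.j h2 E c (orderOf_eq_prime (h3 x x.2) fun e => h8 (by rw [show x = 1 from Subtype.ext e, map_one]))
  · rintro u _ ⟨x, -, rfl⟩
    exact ι_comm E (c.pair.comm _ _ (h7 u)).symm

/-- the product map of a core -/
noncomputable def mu (E : Fr8 p L) (c : Core τ α β R R') : U × U →* Y8 p := E.ι.comp (pr α β c.ab)

theorem mu_apply (E : Fr8 p L) (c : Core τ α β R R') (u v : U) : mu E c (u, v) = E.ι (α u * β v) := rfl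

theorem mu_a (E : Fr8 p L) (c : Core τ α β R R') (u : U) : mu E c (u, 1) = E.ι (α u) := congrArg E.ι (pr_l _ u)

theorem mu_b (E : Fr8 p L) (c : Core τ α β R R') (u : U) : mu E c (1, u) = E.ι (β u) := congrArg E.ι (pr_r _ u)

theorem mu_t (E : Fr8 p L) (c : Core τ α β R R') (u : U) : mu E c (u, u) = E.ι (τ u) := by rw [mu_apply, c.eq]

theorem pt_mu (B : Boxes) (h2 : p ≠ 2) (E : Fr8 p L) (c : Core8 τ α β R R' D) {x₁ x₂ t : U} (ht : Tet x₁ x₂ t) :
    PT p (mu E c.toCore) x₁ x₂ t :=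
  pt_of B.j h2 E c.simple c.noncomm c.pair'.inj c.toCore.binj c.toCore.ab (fun _ => alpha2 B.j h2 E c)
    (fun _ => beta2 B.j h2 E c) ht

theorem cube_of {G H : Type} [Group G] [Group H] (f : G →* H) {t : G} (h : orderOf t = 3) : f t ^ 3 = 1 := by
  rw [← map_pow, ← h, pow_orderOf_eq_one, map_one]

theorem ne_one_of {G : Type} [Group G] {t : G} {r : ℕ} (h : orderOf t = r) (hr : r ≠ 1) : t ≠ 1 := fun e =>
  hr (by rw [← h, e, orderOf_one])

/-- **O3, O4**: the characteristic is not three, the classes of the elements of order three -/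
theorem tet_dd (B : Boxes) (h2 : p ≠ 2) (E : Fr8 p L) (c : Core8 τ α β R R' D) {x₁ x₂ t : U} (ht : Tet x₁ x₂ t) :
    p ≠ 3 ∧ dd p (E.ι (τ t)) = 80 ∧ dd p (E.ι (α t)) = 80 ∧ dd p (E.ι (β t)) = 86 ∧
      finrank (kb p) (Fx p {E.ι (α x₁), E.ι (β t)}) ≤ 44 := by
  have co := c.toCore
  obtain ⟨ψ, h1, h3⟩ := alpha_eq E co
  obtain ⟨a1, a2, a3⟩ := B.e16 p h2 U _ _ _ _ (pt_mu B h2 E c ht)
  obtain ⟨b1, -, b3⟩ := B.e16 p h2 U _ _ _ _ (pt_mu B h2 E c (ht.map h1))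
  rw [mu_t, ← h3] at b1 b3
  rw [mu_a] at a2
  have hp3 : p ≠ 3 := fun e => by
    have := a2 e
    omega
  obtain ⟨a4, a5, a6⟩ := a3 hp3
  rw [mu_a, mu_b] at a6
  have h4 := par3 hp3 (cube_of (E.ι.comp α) ht.o3) (cube_of (E.ι.comp β) ht.o3) (ι_comm E (co.ab t t))
  rw [mu_apply, map_inv, map_mul, map_inv] at a5
  rw [mu_apply, map_mul] at a4
  change E8A.Two.q3 (dd p (E.ι (α t) * E.ι (β t))) + E8A.Two.q3 (dd p (E.ι (α t) * (E.ι (β t))⁻¹)) =
    2 * E8A.Two.q3 (dd p (E.ι (α t))) + 2 * E8A.Two.q3 (dd p (E.ι (β t))) at h4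
  rw [a4, a5, (b3 hp3).1] at h4
  have h5 : dd p (E.ι (β t)) = 86 := by
    rcases dd3 hp3 (cube_of (E.ι.comp β) ht.o3) (map_ne E.inj (map_ne co.binj (ne_one_of ht.o3 (by norm_num)))) with
      h | h | h | h
    all_goals
      change dd p (E.ι (β t)) = _ at h
      rw [h] at h4
      first | exact h | exact absurd h4 (by decide)
  refine ⟨hp3, by rw [co.eq, map_mul, a4], (b3 hp3).1, h5, ?_⟩
  omega

theorem five_le (h2 : p ≠ 2) (h3 : p ≠ 3) : 5 ≤ p := by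
  have h := (Fact.out : p.Prime)
  have h4 := h.two_le
  by_contra h5
  have h6 : p = 4 := by omega
  exact absurd (h6 ▸ h) (by norm_num)

/-- a tetrahedral subgroup with a real element of order three -/
theorem exists_real (B : Boxes) (h2 : p ≠ 2) (E : Fr8 p L) (c : Core8 τ α β R R' D) :
    ∃ x₁ x₂ t g : U, Tet x₁ x₂ t ∧ g * t * g⁻¹ = t⁻¹ := by
  obtain ⟨x₁, x₂, t, ht, ⟨g, hg⟩ | ⟨P, h1, h3, h4⟩⟩ := B.tet U c.simple c.noncomm (rank2 B h2 E c)
  · exact ⟨x₁, x₂, t, g, ht, hg⟩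
  exfalso
  obtain ⟨hp3, h5, -⟩ := tet_dd B h2 E c ht
  have hi : Function.Injective (E.ι.comp τ) := E.inj.comp c.pair.inj
  have h6 : ∀ x ∈ P, x ≠ 1 → ∃ g s : U, x = g * s * g⁻¹ ∧ (s = t ∨ s = t⁻¹) := fun x hx h7 => by
    rcases h4 x hx h7 with h | h
    all_goals
      obtain ⟨g, hg⟩ := isConj_iff.1 h.symm
      exact ⟨g, _, hg.symm, by simp⟩
  have h7 := DS.Nt.pure_dvd tE8 (r := 3) (E := P.map (E.ι.comp τ)) ⟨Nat.prime_three, hp3.symm,
    Finite.of_surjective _ (MonoidHom.subgroupMap_surjective _ P), by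
      rintro _ ⟨x, hx, rfl⟩ _ ⟨y, hy, rfl⟩
      exact map_comm _ (h3 x hx y hy), by
      rintro _ ⟨x, hx, rfl⟩
      by_cases h8 : x = 1
      · rw [h8, map_one, one_pow]
      · obtain ⟨g, s, rfl, rfl | rfl⟩ := h6 x hx h8
        · exact cube_of _ (by rw [ord_conj, ht.o3])
        · exact cube_of _ (by rw [ord_conj, orderOf_inv, ht.o3])⟩ (d := 80) (by
      rintro _ ⟨x, hx, rfl⟩ h8
      obtain ⟨g, s, rfl, rfl | rfl⟩ := h6 x hx fun e => h8 (by rw [e, map_one])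
      · rw [map_conj', DS.Nt.dd_conj]
        exact h5
      · rw [map_conj', DS.Nt.dd_conj, map_inv, dd_inv]
        exact h5)
  rw [card_map_of_injective hi, show chevE8.nroots = 240 from rfl] at h7
  exact absurd ((Int.natCast_dvd_natCast.2 h1).trans h7) (by norm_num)

/-- one automorphism maps the pair `(T, R)` to the pair `(A, R')` -/
theorem pair_conj (B : Boxes) (h2 : p ≠ 2) (E : Fr8 p L) (c : Core8 τ α β R R' D) :
    ∃ θ : MulAut L, τ.range.map θ.toMonoidHom = α.range ∧ R.map θ.toMonoidHom = R' := by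
  refine c.two.resolve_right ?_
  rintro ⟨θ, hθ⟩
  obtain ⟨x₁, x₂, t, -, ht, -⟩ := exists_real B h2 E c
  obtain ⟨φ, h1, h3⟩ := c.cpy
  have h4 := pt_of B.j h2 E c.simple c.noncomm (b := θ.toMonoidHom.comp τ) c.pair.inj (θ.injective.comp c.pair.inj)
    (fun u v => c.pair.comm u _ (hθ v).1) (fun _ => tau2 B.j h2 E c)
    (fun u hu => ((ext8 E θ).1 _).trans (tau2 B.j h2 E c hu)) ht
  have h5 := pt_cent h2 h4 (range_perfect c.simple c.noncomm (E.ι.comp φ)) (by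
    rintro ⟨u, v⟩ _ ⟨w, rfl⟩
    refine ι_comm E ?_
    change φ w * (τ u * θ (τ v)) = τ u * θ (τ v) * φ w
    rw [← mul_assoc, ← c.pair.comm u _ (c.le (h3 w)), mul_assoc, (hθ v).2 _ (h3 w), mul_assoc])
  have h6 : (E.ι.comp φ) x₁ ∈ (E.ι.comp φ).range := ⟨x₁, rfl⟩
  rw [h5, mem_bot] at h6
  exact map_ne E.inj (map_ne h1 (ne_of ht.o1)) h6

/-- **O5, O6**: the component is `A₅`, `p ≥ 7` -/
theorem alt5 (B : Boxes) (h2 : p ≠ 2) (E : Fr8 p L) (c : Core8 τ α β R R' D) : 7 ≤ p ∧ Nonempty (U ≃* Al 5) := by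
  have co := c.toCore
  obtain ⟨x₁, x₂, t, g, ht, hg⟩ := exists_real B h2 E c
  obtain ⟨hp3, -, -, h3, h4⟩ := tet_dd B h2 E c ht
  have h5 := five_le h2 hp3
  obtain ⟨⟨f, hf⟩, h6⟩ := (B.a2 p h5 (E.ι (β t)) (E.ι (β g)) (cube_of (E.ι.comp β) ht.o3) h3
    (by rw [← map_conj', ← map_conj', hg, map_inv, map_inv]) U co.simple co.noncomm (E.ι.comp α)
    (fun u => ι_comm E (co.ab u t)) (fun u => ι_comm E (co.ab u g))).resolve_right fun h => by
      have h7 : 46 ≤ finrank (kb p) (Fx p {E.ι (α x₁), E.ι (β t)}) := h x₁ (sq_of ht.o1)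
      omega
  obtain ⟨θ, hT, hR⟩ := pair_conj B h2 E c
  obtain ⟨e⟩ := exists_equiv E
  have hp : ¬ p ∣ Nat.card U := by
    refine B.ml (GaloisField p E.e) p h5 U _ _ _ _ _ (co.map e) ?_
    rw [← map_centralizer_equiv]
    rintro _ ⟨s, hs, rfl⟩ hsp _ ⟨x, rfl⟩ hx1 hx2 hc
    have := Fact.mk Nat.prime_two
    have hs' : θ s ∈ centralizer (R' : Set L) := by
      rw [← hR, ← map_centralizer_equiv]
      exact ⟨s, hs, rfl⟩
    obtain ⟨x', hx'⟩ : θ (τ x) ∈ α.range := hT ▸ ⟨τ x, ⟨x, rfl⟩, rfl⟩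
    have ho : orderOf x' = 2 := by
      rw [← co.pair'.orderOf_eq, hx', MulEquiv.orderOf_eq, ← e.orderOf_eq]
      exact orderOf_eq_prime hx2 hx1
    have h7 := h6 (E.ι (θ s)) (ι_comm E (mem_centralizer_iff.1 hs' _ (co.bmem t)).symm)
      (ι_comm E (mem_centralizer_iff.1 hs' _ (co.bmem g)).symm) (by
        rw [← map_pow, ← map_pow, e.injective (show e (s ^ p) = e 1 by rw [map_pow, map_one]; exact hsp), map_one,
          map_one]) (fun u => by
        obtain ⟨v, hv⟩ := conj_mem_of_norm (co.pair'.cnorm hs') (⟨u, rfl⟩ : α u ∈ α.range)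
        exact ⟨v, by rw [MonoidHom.comp_apply, hv, map_conj']; rfl⟩) x' ho (ι_comm E (by
        rw [hx', ← map_mul, ← map_mul, e.injective (show e (s * τ x) = e (τ x * s) by rw [map_mul, map_mul]; exact hc)]))
    have h8 : θ s = 1 := co.pair'.cfaith _ hs' fun u => E.inj (by rw [map_mul, map_mul]; exact h7 u)
    rw [(map_eq_one_iff θ θ.injective).1 h8, map_one]
    exact one_mem _
  obtain ⟨F, _, _, _, H, ⟨e'⟩⟩ := Grp.descend p f hf
  have hs := co.simple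
  rcases Grp.dick p H e'.symm.isSimpleGroup (fun h => co.noncomm ⟨⟨fun a b => e'.injective (by
    rw [map_mul, map_mul]; exact h.is_comm.comm _ _)⟩⟩) with ⟨⟨e5⟩⟩ | ⟨K, _, _, _, ⟨eK⟩⟩
  · refine ⟨?_, ⟨e'.trans e5⟩⟩
    by_contra h7
    have h8 : p = 5 ∨ p = 6 := by omega
    rcases h8 with rfl | rfl
    · refine hp ?_
      rw [Nat.card_congr (e'.trans e5).toEquiv, Nat.card_eq_fintype_card]
      decide +kernel
    · exact absurd (Fact.out : Nat.Prime 6) (by norm_num)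
  · obtain ⟨u, -, -, hu, -⟩ := ((Grp.con_psl p h2).congr (e'.trans eK)).2.1 h5
    exact absurd (hu ▸ _root_.orderOf_dvd_natCard u) hp

theorem al5_conj3 : ∀ s t : Al 5, s ^ 3 = 1 → s ≠ 1 → t ^ 3 = 1 → t ≠ 1 → ∃ g : Al 5, g * s * g⁻¹ = t := by
  have key : ∀ s : Al 5, s ^ 3 = 1 → s ≠ 1 → (s : Equiv.Perm (Fin 5)).IsThreeCycle := fun s h3 h1 => by
    have : Fact (Nat.Prime 3) := ⟨Nat.prime_three⟩
    have ho : orderOf (s : Equiv.Perm (Fin 5)) = 3 := (Subgroup.orderOf_coe s).trans (orderOf_eq_prime h3 h1)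
    have hc := Equiv.Perm.isCycle_of_prime_order' (ho ▸ Nat.prime_three) (by rw [ho]; decide)
    exact _root_.card_support_eq_three_iff.1 (hc.orderOf.symm.trans ho)
  intro s t h1 h2 h3 h4
  exact isConj_iff.1 (alternatingGroup.isThreeCycle_isConj (by rw [Nat.card_fin]) (key s h1 h2) (key t h3 h4))

theorem conj3 (h : Nonempty (U ≃* Al 5)) {s t : U} (hs : orderOf s = 3) (ht : orderOf t = 3) :
    ∃ g, g * s * g⁻¹ = t := by
  obtain ⟨e⟩ := h
  obtain ⟨g, hg⟩ := al5_conj3 (e s) (e t) (cube_of e.toMonoidHom hs) (map_ne (f := e.toMonoidHom) e.injective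
    (ne_one_of hs (by norm_num))) (cube_of e.toMonoidHom ht) (map_ne (f := e.toMonoidHom) e.injective
    (ne_one_of ht (by norm_num)))
  refine ⟨e.symm g, e.injective ?_⟩
  rw [map_mul, map_mul, map_inv, e.apply_symm_apply, hg]

theorem three_dd (B : Boxes) (h2 : p ≠ 2) (E : Fr8 p L) (c : Core8 τ α β R R' D) {s : U} (hs : orderOf s = 3) :
    dd p (E.ι (τ s)) = 80 ∧ dd p (E.ι (α s)) = 80 ∧ dd p (E.ι (β s)) = 86 := by
  obtain ⟨x₁, x₂, t, -, ht, -⟩ := exists_real B h2 E c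
  obtain ⟨-, h3, h4, h5, -⟩ := tet_dd B h2 E c ht
  obtain ⟨g, rfl⟩ := conj3 (alt5 B h2 E c).2 ht.o3 hs
  rw [map_conj' τ, map_conj' α, map_conj' β, dd_conjL, dd_conjL, dd_conjL]
  exact ⟨h3, h4, h5⟩

theorem fr248 : finrank (kb p) (chevE8.Idx → kb p) = 248 := DS.Nt.P8.fr248

theorem fx_l {V : Type} [Group V] (E : Fr8 p L) {a : U →* L} {b : V →* L} (h : ∀ u v, a u * b v = b v * a u) :
    fx ((ad chevE8 p).comp (E.ι.comp (pr a b h))) {g | g.2 = 1} = Fx p (E.ι '' Set.range a) := by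
  ext m
  rw [mem_fx, DS.Nt.mem_Fx]
  constructor
  · rintro h1 _ ⟨_, ⟨u, rfl⟩, rfl⟩
    rw [← pr_l h]
    exact h1 (u, 1) rfl
  · rintro h1 ⟨u, v⟩ (rfl : v = 1)
    change ad chevE8 p (E.ι (pr a b h (u, 1))) m = m
    rw [pr_l]
    exact h1 _ ⟨_, ⟨u, rfl⟩, rfl⟩

/-- **O7**: `A` has no fixed vector; `B` and an element of order five of `A` have one -/
theorem no_fix (B : Boxes) (h2 : p ≠ 2) (E : Fr8 p L) (c : Core8 τ α β R R' D) :
    Fx p (E.ι '' Set.range α) = ⊥ ∧ ∀ y, orderOf y = 5 → ∃ v, v ≠ 0 ∧ ad chevE8 p (E.ι (α y)) v = v ∧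
      ∀ u, ad chevE8 p (E.ι (β u)) v = v := by
  have co := c.toCore
  obtain ⟨h7, h5⟩ := alt5 B h2 E c
  have hp3 : p ≠ 3 := by omega
  have hp5 : p ≠ 5 := by omega
  have e0 : ∀ g, ev ((ad chevE8 p).comp (mu E co)) g 1 = dd p (mu E co g) := fun _ => rfl
  obtain ⟨h3, h4⟩ := B.a5 p h7 _ U h5 ((ad chevE8 p).comp (mu E co)) fr248 (fun x hx => by
      rw [e0, e0, e0, mu_a, mu_b, mu_t]
      exact ⟨alpha2 B.j h2 E c hx, beta2 B.j h2 E c hx, tau2 B.j h2 E c hx⟩) (fun t ht => by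
      rw [e0, e0, e0, mu_a, mu_b, mu_t]
      obtain ⟨k1, k2, k3⟩ := three_dd B h2 E c ht
      exact ⟨k2, k3, k1⟩) (fun x t hx ht => by
      obtain ⟨-, k2, k3⟩ := three_dd B h2 E c ht
      rw [e0, e0, mu_apply, mu_apply, co.ab t x, map_mul, map_mul]
      exact ⟨(dd6 h2 hp3 (map_sq _ (map_sq _ (sq_of hx))) (cube_of (E.ι.comp α) ht) (ι_comm E (co.ab t x).symm)
          (beta2 B.j h2 E c hx)).1 k2,
        (dd6 h2 hp3 (map_sq _ (map_sq _ (sq_of hx))) (cube_of (E.ι.comp β) ht) (ι_comm E (co.ab x t))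
          (alpha2 B.j h2 E c hx)).2 k3⟩) (fun y hy => by
      have k1 : y ^ 5 = 1 := by rw [← hy, pow_orderOf_eq_one]
      have k2 := ne_one_of hy (by norm_num)
      rw [e0, e0, mu_a, mu_b]
      exact ⟨dd5 hp5 (by rw [← map_pow, ← map_pow, k1, map_one, map_one]) (map_ne E.inj (map_ne co.pair'.inj k2)),
        dd5 hp5 (by rw [← map_pow, ← map_pow, k1, map_one, map_one]) (map_ne E.inj (map_ne co.binj k2))⟩) (by
      have k1 : fx ((ad chevE8 p).comp (mu E co)) {g | g.1 = g.2} = Fx p (E.ι '' Set.range τ) := by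
        ext m
        rw [mem_fx, DS.Nt.mem_Fx]
        constructor
        · rintro h _ ⟨_, ⟨u, rfl⟩, rfl⟩
          rw [← mu_t E co]
          exact h (u, u) rfl
        · rintro h ⟨u, v⟩ (rfl : u = v)
          rw [MonoidHom.comp_apply, mu_t]
          exact h _ ⟨_, ⟨u, rfl⟩, rfl⟩
      obtain ⟨θ, hθ⟩ := co.aconj
      have k2 : Set.range α = θ '' Set.range τ := congrArg (fun X : Subgroup L => (X : Set L)) hθ
      rw [k1, mu, fx_l, k2, (ext8 E θ).2])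
  rw [mu, fx_l] at h3
  refine ⟨h3, fun y hy => ?_⟩
  obtain ⟨v, hv, h0⟩ := (Submodule.ne_bot_iff _).1 (h4 y hy)
  refine ⟨v, h0, ?_, fun u => ?_⟩
  · rw [← mu_a E co]
    exact hv (y, 1) (Or.inr rfl)
  · rw [← mu_b E co]
    exact hv (1, u) (Or.inl rfl)

end Cfsg.Agent.Cam.E8O.Asm
end

-- part: Cam/Ex/URank
section
/-!
# Exceptional rows: `BoxU.rank` (helper65)

A direct power `U ^ n` of a non-abelian simple group inside the ambient group gives a toral subgroup `r ^ n`, `r ≠ p`.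
-/

set_option autoImplicit false
set_option linter.unusedVariables false
set_option linter.unusedSectionVars false

namespace Cfsg.Agent.Cam.Ex.Urk

open CoxeterSystem Cfsg Cfsg.Lie Subgroup
open Cfsg.Agent.ChevalleyStructure.CoxeterGeom Cfsg.Agent.ChevalleyStructure.CoxeterGeomTypes
open Cfsg.Agent.Tits.Roots Cfsg.Agent.Nodes.BNOf Cfsg.Agent.Nodes.RGDChev Cfsg.Agent.KFacts.RgdChevCoord
open Cfsg.Agent.H129.TorusChar Cfsg.Agent.Cam.Ex.S2
open scoped commutatorElement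

variable {D : ChevalleyDatum} {l : ℕ} {M : CoxeterMatrix (Fin l)} {p : ℕ} [Fact p.Prime]

theorem cj_comm {G : Type*} [Group G] {z a b : G} (h : a * b = b * a) :
    z * a * z⁻¹ * (z * b * z⁻¹) = z * b * z⁻¹ * (z * a * z⁻¹) := by
  rw [conj_mul, conj_mul, h]

/-- a toral set of elements of order `r` and an element of order `r` of a perfect group centralizing it -/
theorem tor_perf (hp : IsType D l M) {r : ℕ} (hr : r.Prime) (hrp : r ≠ p) {Z : Set (YY D p)} (hfin : Z.Finite)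
    {z : YY D p} (hZ : ∀ t ∈ Z, z * t * z⁻¹ ∈ TT D (kb p) ∧ t ^ r = 1) {J : Subgroup (YY D p)} (hJ : ⁅J, J⁆ = J)
    (hc : ∀ j ∈ J, ∀ t ∈ Z, j * t = t * j) {x : YY D p} (hx : x ∈ J) (hxr : x ^ r = 1) :
    ∃ g : YY D p, (∀ t ∈ Z, g * t * g⁻¹ ∈ TT D (kb p)) ∧ g * x * g⁻¹ ∈ TT D (kb p) := by
  have hsq : ∀ y : YY D p, y ^ r = 1 → (z * y * z⁻¹) ^ r ^ 1 = 1 := fun y hy => by
    rw [pow_one, conj_pow, hy, mul_one, mul_inv_cancel]
  have hT : (fun t => z * t * z⁻¹) '' Z ⊆ TT D (kb p) := by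
    rintro _ ⟨t, ht, rfl⟩
    exact (hZ t ht).1
  have h1 := chi_perf hp hr (Q := (fun t => z * t * z⁻¹) '' Z) (by
    rintro _ ⟨t, ht, rfl⟩
    exact ⟨(hZ t ht).1, 1, hsq t (hZ t ht).2⟩) (J := J.map (MulAut.conj z).toMonoidHom)
    (by rw [← map_commutator, hJ]) (by
    rintro _ ⟨j, hj, rfl⟩
    rw [mem_centralizer_iff]
    rintro _ ⟨t, ht, rfl⟩
    exact cj_comm (hc j hj t ht).symm)
  have hQ : IsPGroup r (closure (insert (z * x * z⁻¹) ((fun t => z * t * z⁻¹) '' Z))) := DS.Nt.isPGroup_of_comm (by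
    rintro a (rfl | ⟨a, ha, rfl⟩) b (rfl | ⟨b, hb, rfl⟩)
    · rfl
    · exact cj_comm (hc x hx b hb)
    · exact cj_comm (hc x hx a ha).symm
    · exact T_comm hp (hZ a ha).1 (hZ b hb).1) (by
    rintro a (rfl | ⟨a, ha, rfl⟩)
    · exact ⟨1, hsq x hxr⟩
    · exact ⟨1, hsq a (hZ a ha).2⟩)
  obtain ⟨g, hg⟩ := DS.Nt.toral_step (n := 1) hr hrp (hfin.image _) hT (DS.Nt.Mz_le_DZ (h1 ⟨x, hx, rfl⟩))
    (hsq x hxr) hQ le_rfl
  refine ⟨g * z, fun t ht => ?_, ?_⟩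
  · have h3 := hg _ (_root_.Subgroup.subset_closure (Or.inr ⟨t, ht, rfl⟩))
    rwa [show g * (z * t * z⁻¹) * g⁻¹ = g * z * t * (g * z)⁻¹ by group] at h3
  · have h3 := hg _ (_root_.Subgroup.subset_closure (Or.inl rfl))
    rwa [show g * (z * x * z⁻¹) * g⁻¹ = g * z * x * (g * z)⁻¹ by group] at h3

/-- a finite non-abelian simple group is perfect and has an element of prime order `r ≠ p` -/
theorem exists_elt (p : ℕ) [Fact p.Prime] (U : Type) [Group U] [Finite U] [IsSimpleGroup U] (hU : ¬ IsMulCommutative U) :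
    ⁅(⊤ : Subgroup U), (⊤ : Subgroup U)⁆ = ⊤ ∧ ∃ r : ℕ, r.Prime ∧ r ≠ p ∧ ∃ u : U, orderOf u = r := by
  have h0 : ∀ H : Subgroup U, center U = H → H ≠ ⊤ := fun H e h => hU ⟨⟨fun a b => by
    have : b ∈ center U := by rw [e, h]; trivial
    exact mem_center_iff.1 this a⟩⟩
  refine ⟨((inferInstance : (commutator U).Normal).eq_bot_or_eq_top).resolve_left fun h => h0 _ rfl ?_, ?_⟩
  · rw [eq_top_iff]
    intro a _
    refine mem_center_iff.2 fun b => ?_
    have h1 : ⁅b, a⁆ ∈ commutator U := commutator_mem_commutator trivial trivial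
    rw [h, mem_bot] at h1
    exact commutatorElement_eq_one_iff_mul_comm.1 h1
  by_contra hcon
  have hP : IsPGroup p U := by
    obtain ⟨n, hn⟩ : ∃ n, Nat.card U = p ^ n := ⟨_, Nat.eq_prime_pow_of_unique_prime_dvd Nat.card_pos.ne' fun {r} hr hd => by
      by_contra hne
      have := Fact.mk hr
      exact hcon ⟨r, hr, hne, exists_prime_orderOf_dvd_card' r hd⟩⟩
    exact IsPGroup.of_card hn
  have h1 := hP.center_nontrivial
  rcases (inferInstance : (center U).Normal).eq_bot_or_eq_top with h | h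
  · rw [h] at h1
    exact not_nontrivial _ h1
  · exact h0 _ h rfl

/-- the rank bounds the number of commuting simple factors -/
theorem le_rank (hp : IsType D l M) {U : Type} [Group U] [Finite U] [IsSimpleGroup U] (hU : ¬ IsMulCommutative U)
    {n : ℕ} (f : (Fin n → U) →* YY D p) (hf : Function.Injective f) : n ≤ l := by
  classical
  obtain ⟨hperf, r, hr, hrp, u, hu⟩ := exists_elt p U hU
  have hur : ∀ i : Fin n, f (Pi.mulSingle i u) ^ r = 1 := fun i => by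
    rw [← map_pow, ← Pi.mulSingle_pow, ← hu, pow_orderOf_eq_one, Pi.mulSingle_one, map_one]
  obtain ⟨g, hg⟩ : ∃ g : YY D p, ∀ i ∈ (Finset.univ : Finset (Fin n)), g * f (Pi.mulSingle i u) * g⁻¹ ∈ TT D (kb p) := by
    induction (Finset.univ : Finset (Fin n)) using Finset.induction_on with
    | empty => exact ⟨1, fun i hi => absurd hi (Finset.notMem_empty i)⟩
    | insert j s hj ih =>
      obtain ⟨z, hz⟩ := ih
      obtain ⟨g, h1, h2⟩ := tor_perf hp hr hrp (Z := (fun i => f (Pi.mulSingle i u)) '' (s : Set (Fin n)))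
        (s.finite_toSet.image _) (z := z) (by rintro _ ⟨i, hi, rfl⟩; exact ⟨hz i hi, hur i⟩)
        (J := (⊤ : Subgroup U).map (f.comp (MonoidHom.mulSingle (fun _ => U) j))) (by rw [← map_commutator, hperf])
        (by
          rintro _ ⟨v, -, rfl⟩ _ ⟨i, hi, rfl⟩
          exact ((Pi.mulSingle_commute (f := fun _ => U) (i := j) (j := i) (fun e => hj (e ▸ hi)) v u).map f).eq)
        (x := f (Pi.mulSingle j u)) ⟨u, trivial, rfl⟩ (hur j)
      refine ⟨g, fun i hi => ?_⟩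
      rcases Finset.mem_insert.1 hi with rfl | hi
      · exact h2
      · exact h1 _ ⟨i, hi, rfl⟩
  have hK : pi Set.univ (fun _ : Fin n => zpowers u) ≤ (TT D (kb p)).comap ((MulAut.conj g).toMonoidHom.comp f) := by
    refine pi_le_iff.2 fun i => ?_
    rw [MonoidHom.map_zpowers, zpowers_le]
    exact hg i (Finset.mem_univ i)
  obtain ⟨ζ, hζ⟩ := exists_zeta p (m := r) ((Nat.coprime_primes hr Fact.out).2 hrp)
  have : NeZero r := ⟨hr.ne_zero⟩
  have h1 : ∀ y : Fin n → zpowers u, g * f (fun i => y i) * g⁻¹ ∈ TT D (kb p) := fun y => hK fun i _ => (y i).2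
  have h2 : ∀ y : Fin n → zpowers u, ∃ φ : Lat l →+ ZMod r, Chi hp ζ (g * f (fun i => y i) * g⁻¹) φ := fun y =>
    chi_ex hp hζ hr.pos (h1 y) (by
      have h3 : (fun i => (y i : U)) ^ r = 1 := funext fun i => by
        obtain ⟨k, hk⟩ := (y i).2
        rw [Pi.pow_apply, ← hk, ← zpow_natCast, ← zpow_mul, mul_comm, zpow_mul, zpow_natCast, ← hu,
          pow_orderOf_eq_one, one_zpow, Pi.one_apply]
      rw [conj_pow, ← map_pow, h3, map_one, mul_one, mul_inv_cancel])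
  choose φ hφ using h2
  have h3 := Nat.card_le_card_of_injective (fun (y : Fin n → zpowers u) (i : Fin l) => φ y (sr i)) fun y y' e => by
    have h4 := cX_inj hp (h1 y) (h1 y') fun i => by
      rw [cX_sr, cX_sr, (hφ y).2 _ (rt_sr hp i), (hφ y').2 _ (rt_sr hp i), show φ y (sr i) = φ y' (sr i) from congrFun e i]
    have h5 := hf (mul_left_cancel (mul_right_cancel h4))
    exact funext fun i => Subtype.ext (congrFun h5 i)
  rw [Nat.card_fun, Nat.card_fun, Nat.card_zpowers, hu, Nat.card_zmod, Nat.card_eq_fintype_card,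
    Nat.card_eq_fintype_card, Fintype.card_fin, Fintype.card_fin] at h3
  exact (Nat.pow_le_pow_iff_right hr.one_lt).1 h3

end Cfsg.Agent.Cam.Ex.Urk
end

-- part: Cam/E8/Mov
section
/-!
# S3690: no component of `g⁻¹ X g` moves a component of `X` (helper81)

Eight commuting copies of `A₅` give eight orthogonal roots of `E₈`; no element of the Weyl group permutes five of
them cyclically and fixes the other three.
-/

set_option autoImplicit false
set_option linter.unusedVariables false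
set_option linter.unusedSectionVars false

namespace Cfsg.Agent.Cam.E8.Mov

open CoxeterSystem Cfsg Cfsg.Lie Subgroup
open Cfsg.Agent.ChevalleyStructure.CoxeterGeom Cfsg.Agent.ChevalleyStructure.CoxeterGeomTypes
open Cfsg.Agent.Tits.Roots Cfsg.Agent.Nodes.BNOf Cfsg.Agent.Nodes.RGDChev Cfsg.Agent.KFacts.RgdChevCoord
open Cfsg.Agent.H129.TorusChar Cfsg.Agent.Cam.Ex Cfsg.Agent.Cam.Ex.S2
open scoped commutatorElement

theorem n4 : ∀ i j, CoxeterMatrix.E₈ i j ≠ 4 := by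
  intro i j; fin_cases i <;> fin_cases j <;> decide

theorem n6 : ∀ i j, CoxeterMatrix.E₈ i j ≠ 6 := by
  intro i j; fin_cases i <;> fin_cases j <;> decide

theorem eq_sum_sr (x : Lat 8) : x = ∑ k, x k • (sr k : Lat 8) := by
  funext j
  simp [Finset.sum_apply, sr, Pi.single_apply]

/-- the pairing with a root as an additive map -/
noncomputable def cph {c : Lat 8} (hc : Rt tE8 c) : Lat 8 →+ ℤ :=
  AddMonoidHom.mk' (fun a => cp tE8 a c) fun a b => cp_add a b hc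

theorem cph_apply {c : Lat 8} (hc : Rt tE8 c) (a : Lat 8) : cph hc a = cp tE8 a c := rfl

theorem hom_sum {K : Type} [CommRing K] (φ : Lat 8 →+ K) (x : Lat 8) : φ x = ∑ k, (x k : K) * φ (sr k) := by
  conv_lhs => rw [eq_sum_sr x]
  rw [map_sum]
  exact Finset.sum_congr rfl fun k _ => by rw [map_zsmul, zsmul_eq_mul]

/-- two roots that are congruent modulo `r ≥ 3` are equal -/
theorem eq_of_dvd {a b : Lat 8} (ha : Rt tE8 a) (hb : Rt tE8 b) {r : ℤ} (h3 : 3 ≤ r) (h : ∀ k, r ∣ (b - a) k) :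
    b = a := by
  have h1 : ∀ k, r ∣ cp tE8 b (sr k) - cp tE8 a (sr k) := fun k => by
    rw [← P.cp_sub _ _ (rt_sr tE8 k), ← cph_apply (rt_sr tE8 k), hom_sum]
    exact Finset.dvd_sum fun j _ => Dvd.dvd.mul_right (h j) _
  have h2 : cp tE8 (b - a) b - cp tE8 (b - a) a = ∑ k, (b - a) k * (cp tE8 b (sr k) - cp tE8 a (sr k)) := by
    rw [← cph_apply hb, ← cph_apply ha, hom_sum, hom_sum (cph ha), ← Finset.sum_sub_distrib]
    refine Finset.sum_congr rfl fun k _ => ?_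
    rw [cph_apply, cph_apply, RE.cp_symm n4 n6 (rt_sr tE8 k) hb, RE.cp_symm n4 n6 (rt_sr tE8 k) ha, Int.cast_id]
    ring
  have h4 : r * r ∣ cp tE8 (b - a) b - cp tE8 (b - a) a := by
    rw [h2]
    exact Finset.dvd_sum fun k _ => mul_dvd_mul (h k) (h1 k)
  rw [P.cp_sub _ _ hb, P.cp_sub _ _ ha, cp_self hb, cp_self ha, RE.cp_symm n4 n6 ha hb] at h4
  have h9 : 9 ≤ r * r := by nlinarith only [h3]
  rcases RE.cp_cases n4 n6 hb ha with e | e | e | e | e
  · exact e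
  all_goals exfalso
  · rw [e, cp_neg _ ha, cp_self ha] at h4
    have := Int.le_of_dvd (by norm_num) h4
    omega
  all_goals
    rw [e] at h4
    have := Int.le_of_dvd (by norm_num) h4
    omega

/-- the five-cycle -/
def cy : Fin 8 → Fin 8 := ![1, 2, 3, 4, 0, 5, 6, 7]

theorem cy_inj : Function.Injective cy := by decide

theorem cy_surj : Function.Surjective cy := by decide

private noncomputable def _root_.Cfsg.Agent.LsF.f965058_0 : {f // @Cfsg.Agent.Cam.E8.Mov.cy = f} := ⟨_, by first | (delta Cfsg.Agent.Cam.E8.Mov.cy; rewrite [Cfsg.Agent.LsF.vecCons_eq]; exact rfl) | exact rfl⟩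
theorem no_code : ∀ z z' z'' : Fin 8 → ZMod 2, (∀ i, z' (cy i) = z i) → (∀ i, z'' (cy i) = z' i) →
    ∑ i, (z i).val = 4 → ∑ i, z i * z' i = 0 → ∑ i, z i * z'' i = 0 → False := by
  have key : ∀ z : Fin 8 → ZMod 2, ∑ i, (z i).val = 4 → ∑ i, z (cy i) * z i = 0 →
      ∑ i, z (cy (cy i)) * z i = 0 → False := by (refine of_decide_eq_true ?_; (try (rewrite [Cfsg.Agent.LsF.sumF_pat, Cfsg.Agent.LsF.sumF_pat, Cfsg.Agent.LsF.piFintype_pat, Cfsg.Agent.LsF.f965058_0.2, Cfsg.Agent.LsF.nadd_pat, Cfsg.Agent.LsF.zadd_pat, Cfsg.Agent.LsF.zmul_pat, Cfsg.Agent.LsF.zdecEq_eq, Cfsg.Agent.LsF.zval_eq, Cfsg.Agent.LsF.zFintype_eq, Cfsg.Agent.LsF.dForall_eq, Cfsg.Agent.LsF.nACM_eq, Cfsg.Agent.LsF.zACM_pat, Cfsg.Agent.LsF.instDecEq_eq, Cfsg.Agent.LsF.dAllP_eq, Cfsg.Agent.LsF.decide_eq])); decide +kernel)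
  have hsum : ∀ f : Fin 8 → ZMod 2, ∑ i, f (cy i) = ∑ i, f i := fun f =>
    (Equiv.ofBijective cy ⟨cy_inj, cy_surj⟩).sum_comp f
  intro z z' z'' h1 h2 h3 h4 h5
  refine key z h3 ?_ ?_
  · rw [← h4, ← hsum fun i => z i * z' i]
    exact Finset.sum_congr rfl fun i _ => by rw [h1]
  · rw [← h5, ← hsum fun i => z i * z'' i, ← hsum fun i => z (cy i) * z'' (cy i)]
    exact Finset.sum_congr rfl fun i _ => by rw [h2, h1]

/-- the combinatorial statement -/
theorem comb {r : ℕ} (hr : r.Prime) (h3 : 3 ≤ r) (φ : Fin 8 → (Lat 8 →+ ZMod r))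
    (w : Fin 8 → CoxeterMatrix.E₈.Group) (hw : ∀ i, w i ∈ WW tE8 {a | Rt tE8 a ∧ ∀ j, j ≠ i → φ j a = 0})
    (hneg : ∀ i, _root_.Cfsg.Agent.Cam.Ex.Neg tE8 (w i) (φ i)) (h0 : ∀ i, φ i ≠ 0) (s : CoxeterMatrix.E₈.Group)
    (hs : ∀ i a, φ (cy i) (wa tE8 s a) = φ i a) : False := by
  classical
  have := Fact.mk hr
  have h2 : (2 : ZMod r) ≠ 0 := fun h0 => by
    have := Nat.le_of_dvd two_pos ((ZMod.natCast_eq_zero_iff 2 r).1 (by exact_mod_cast h0))
    omega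
  let K : (Lat 8 →+ ZMod r) → Subgroup CoxeterMatrix.E₈.Group := fun ψ =>
    { carrier := {v | ∀ a, ψ (wa tE8 v a) = ψ a}
      one_mem' := fun a => by rw [wa_one]
      mul_mem' := fun {v v'} hv hv' a => by rw [wa_mul, hv, hv']
      inv_mem' := fun {v} hv a => by rw [← hv, wa_wa_inv] }
  have hK : ∀ (S : Set (Lat 8)) (ψ : Lat 8 →+ ZMod r), (∀ a ∈ S, Rt tE8 a) → (∀ a ∈ S, ψ a = 0) → WW tE8 S ≤ K ψ :=
    fun S ψ h1 h4 => P.WW_ind h1 fun c hc v hv a => by rw [hv, map_sub, map_zsmul, h4 c hc, smul_zero, sub_zero]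
  have hfix : ∀ i j, j ≠ i → ∀ a, φ j (wa tE8 (w i) a) = φ j a := fun i j hj =>
    hK _ (φ j) (fun a ha => ha.1) (fun a ha => ha.2 j hj) (hw i)
  have hα : ∀ i, ∃ a, Rt tE8 a ∧ (∀ j, j ≠ i → φ j a = 0) ∧ φ i a ≠ 0 := fun i => by
    by_contra hc
    push Not at hc
    refine h0 i (AddMonoidHom.ext fun a => ?_)
    have h4 := hK _ (φ i) (fun a ha => ha.1) (fun a ha => hc a ha.1 ha.2) (hw i) a
    rw [hneg i a] at h4
    have h5 : (2 : ZMod r) * φ i a = 0 := by linear_combination -h4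
    exact (mul_eq_zero.1 h5).resolve_left h2
  choose α hα1 hα2 hα3 using hα
  -- the matrices
  let Pm : Matrix (Fin 8) (Fin 8) (ZMod r) := fun i k => φ i (sr k)
  let A : Matrix (Fin 8) (Fin 8) ℤ := fun k j => α j k
  have hPA : Pm * A.map (Int.castRingHom (ZMod r)) = Matrix.diagonal fun i => φ i (α i) := by
    ext i j
    have h4 : (Pm * A.map (Int.castRingHom (ZMod r))) i j = φ i (α j) := by
      rw [Matrix.mul_apply, hom_sum (φ i) (α j)]
      exact Finset.sum_congr rfl fun k _ => mul_comm _ _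
    rw [h4]
    by_cases h : i = j
    · rw [h, Matrix.diagonal_apply_eq]
    · rw [Matrix.diagonal_apply_ne _ h, hα2 j i h]
  have hdet : Pm.det * (A.map (Int.castRingHom (ZMod r))).det ≠ 0 := by
    rw [← Matrix.det_mul, hPA, Matrix.det_diagonal]
    exact Finset.prod_ne_zero_iff.2 fun i _ => hα3 i
  have hA : A.det ≠ 0 := fun h => by
    refine right_ne_zero_of_mul hdet ?_
    rw [← RingHom.mapMatrix_apply, ← RingHom.map_det, h, map_zero]
  have hker : ∀ x : Lat 8, (∀ i, φ i x = 0) → ∀ k, (r : ℤ) ∣ x k := fun x hx k => by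
    have h4 : Pm.mulVec (fun k => (x k : ZMod r)) = 0 := by
      funext i
      rw [Pi.zero_apply, ← hx i, hom_sum (φ i) x, Matrix.mulVec, dotProduct]
      exact Finset.sum_congr rfl fun k _ => mul_comm _ _
    have h5 := Matrix.eq_zero_of_mulVec_eq_zero (left_ne_zero_of_mul hdet) h4
    exact (ZMod.intCast_zmod_eq_zero_iff_dvd _ _).1 (congrFun h5 k)
  have h3' : (3 : ℤ) ≤ r := by exact_mod_cast h3
  -- orthogonality
  have horth : ∀ i b, Rt tE8 b → (∀ j, j ≠ i → φ j b = 0) → ∀ j, j ≠ i → cp tE8 (α j) b = 0 := by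
    intro i b hb hb' j hj
    have e1 : wa tE8 (w i) b = -b := eq_of_dvd hb.neg' (hb.wa' _) h3' (hker _ fun k => by
      rw [map_sub, map_neg]
      by_cases h : k = i
      · rw [h, hneg i b, sub_self]
      · rw [hfix i k h, hb' k h, neg_zero, sub_zero])
    have e2 : wa tE8 (w i) (α j) = α j := eq_of_dvd (hα1 j) ((hα1 j).wa' _) h3' (hker _ fun k => by
      rw [map_sub]
      by_cases h : k = i
      · rw [h, hneg i, hα2 j i hj.symm, neg_zero, sub_zero]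
      · rw [hfix i k h, sub_self])
    have h4 := cp_wa (w i) (α j) hb
    rw [e1, e2, cp_neg_right _ hb] at h4
    omega
  -- Parseval
  have hpar : ∀ c, Rt tE8 c → ∀ x, 2 * cp tE8 x c = ∑ i, cp tE8 x (α i) * cp tE8 (α i) c := by
    intro c hc x
    let f : Lat 8 →+ ℤ := AddMonoidHom.mk' (fun x => 2 * cp tE8 x c - ∑ i, cp tE8 x (α i) * cp tE8 (α i) c)
      fun a b => by
        simp only [cp_add a b hc, cp_add a b (hα1 _), add_mul, Finset.sum_add_distrib]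
        ring
    have hf : ∀ j, f (α j) = 0 := fun j => by
      change 2 * cp tE8 (α j) c - ∑ i, cp tE8 (α j) (α i) * cp tE8 (α i) c = 0
      rw [Finset.sum_eq_single j (fun i _ hi => by rw [horth i (α i) (hα1 i) (hα2 i) j hi.symm, zero_mul])
        (fun h => absurd (Finset.mem_univ j) h), cp_self (hα1 j), sub_self]
    have h4 : Matrix.vecMul (fun k => f (sr k)) A = 0 := by
      funext j
      rw [Pi.zero_apply, ← hf j, hom_sum f (α j), Matrix.vecMul, dotProduct]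
      exact Finset.sum_congr rfl fun k _ => mul_comm _ _
    have h5 := Matrix.eq_zero_of_vecMul_eq_zero hA h4
    have h6 : f x = 0 := by
      rw [hom_sum f x]
      exact Finset.sum_eq_zero fun k _ => by rw [show f (sr k) = 0 from congrFun h5 k, mul_zero]
    exact sub_eq_zero.1 h6
  -- the action of `s`
  have hsα : ∀ i, wa tE8 s (α i) = α (cy i) ∨ wa tE8 s (α i) = -α (cy i) := fun i => by
    have hb := (hα1 i).wa' s
    have h4 := horth (cy i) _ hb (fun j hj => by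
      obtain ⟨k, rfl⟩ := cy_surj j
      rw [hs, hα2 i k fun e => hj (by rw [e])])
    have h5 := hpar _ hb (wa tE8 s (α i))
    rw [Finset.sum_eq_single (cy i) (fun j _ hj => by rw [h4 j hj, mul_zero])
      (fun h => absurd (Finset.mem_univ _) h), cp_self hb, RE.cp_symm n4 n6 (hα1 _) hb] at h5
    rcases RE.cp_cases n4 n6 hb (hα1 (cy i)) with e | e | e | e | e
    · exact Or.inl e
    · exact Or.inr e
    all_goals
      rw [e] at h5
      omega
  have hz : ∀ c, Rt tE8 c → ∀ i, ((cp tE8 (wa tE8 s c) (α (cy i)) : ℤ) : ZMod 2) = (cp tE8 c (α i) : ℤ) := by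
    intro c hc i
    rw [← cp_wa s c (hα1 i)]
    rcases hsα i with e | e
    · rw [e]
    · rw [e, cp_neg_right _ (hα1 _), Int.cast_neg, ZMod.neg_eq_self_mod_two]
  have hev : ∀ c c', Rt tE8 c → Rt tE8 c' →
      ∑ i, ((cp tE8 c (α i) : ℤ) : ZMod 2) * ((cp tE8 c' (α i) : ℤ) : ZMod 2) = 0 := by
    intro c c' hc hc'
    have h4 := congrArg (Int.cast : ℤ → ZMod 2) (hpar c' hc' c)
    push_cast at h4
    rw [show (2 : ZMod 2) = 0 from rfl, zero_mul] at h4
    rw [h4]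
    exact Finset.sum_congr rfl fun i _ => by rw [RE.cp_symm n4 n6 hc' (hα1 i)]
  -- a root that is not one of the `± α i`
  obtain ⟨c, hc, hc'⟩ : ∃ c, Rt tE8 c ∧ ∀ i, c ≠ α i ∧ c ≠ -α i := by
    by_contra hc
    push Not at hc
    have h4 : cp tE8 (sr 0) (sr 2) = -1 := by
      have := finite_WW tE8
      rw [show cp tE8 (sr 0) (sr 2) = _ from Nodes.Coroot.cpr_sr _ _ (sr 0) 2]
      decide +kernel
    have h5 : ∀ i j, cp tE8 (α i) (α j) = 0 ∨ cp tE8 (α i) (α j) = 2 := fun i j => by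
      by_cases h : i = j
      · exact Or.inr (by rw [h, cp_self (hα1 j)])
      · exact Or.inl (horth j _ (hα1 j) (hα2 j) i h)
    obtain ⟨i, hi⟩ := hc _ (rt_sr tE8 0)
    obtain ⟨j, hj⟩ := hc _ (rt_sr tE8 2)
    have h6 := h5 i j
    by_cases e1 : (sr 0 : Lat 8) = α i <;> by_cases e2 : (sr 2 : Lat 8) = α j
    · rw [e1, e2] at h4
      omega
    · rw [e1, hj e2, cp_neg_right _ (hα1 j)] at h4
      omega
    · rw [hi e1, e2, cp_neg _ (hα1 j)] at h4
      omega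
    · rw [hi e1, hj e2, cp_neg_right _ (hα1 j), cp_neg _ (hα1 j)] at h4
      omega
  refine no_code (fun i => (cp tE8 c (α i) : ℤ)) (fun i => (cp tE8 (wa tE8 s c) (α i) : ℤ))
    (fun i => (cp tE8 (wa tE8 s (wa tE8 s c)) (α i) : ℤ)) (hz c hc) (hz _ (hc.wa' s)) ?_
    (hev _ _ hc (hc.wa' s)) (hev _ _ hc ((hc.wa' s).wa' s))
  have h4 := hpar c hc c
  rw [cp_self hc] at h4
  have h5 : ((∑ i, (((cp tE8 c (α i) : ℤ) : ZMod 2)).val : ℕ) : ℤ) = 4 := by
    push_cast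
    rw [show (4 : ℤ) = 2 * 2 from rfl, h4]
    refine Finset.sum_congr rfl fun i _ => ?_
    rw [RE.cp_symm n4 n6 (hα1 i) hc]
    rcases RE.cp_cases n4 n6 hc (hα1 i) with e | e | e | e | e
    · exact absurd e (hc' i).1
    · exact absurd e (hc' i).2
    all_goals
      rw [e]
      decide
  exact_mod_cast h5

/-- the statement in the algebraic group -/
theorem alg {p : ℕ} [Fact p.Prime] {U : Type} [Group U] (hperf : ⁅(⊤ : Subgroup U), (⊤ : Subgroup U)⁆ = ⊤)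
    (f : Fin 8 → (U →* YY chevE8 p)) (hinj : ∀ i, Function.Injective (f i))
    (hc : ∀ i j, i ≠ j → ∀ x y, f i x * f j y = f j y * f i x) {r : ℕ} (hr : r.Prime) (h3 : 3 ≤ r) (hrp : r ≠ p)
    {u v : U} (hu : orderOf u = r) (hv : v * u * v⁻¹ = u⁻¹) {n : YY chevE8 p}
    (hn : ∀ i, n * f i u * n⁻¹ = f (cy i) u) : False := by
  classical
  have hur : ∀ i, f i u ^ r = 1 := fun i => by rw [← map_pow, ← hu, pow_orderOf_eq_one, map_one]
  have hJ : ∀ i, ⁅(⊤ : Subgroup U).map (f i), (⊤ : Subgroup U).map (f i)⁆ = (⊤ : Subgroup U).map (f i) := fun i => by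
    rw [← map_commutator, hperf]
  obtain ⟨g, hg⟩ : ∃ g : YY chevE8 p, ∀ i ∈ (Finset.univ : Finset (Fin 8)), g * f i u * g⁻¹ ∈ TT chevE8 (kb p) := by
    induction (Finset.univ : Finset (Fin 8)) using Finset.induction_on with
    | empty => exact ⟨1, fun i hi => absurd hi (Finset.notMem_empty i)⟩
    | insert j s hj ih =>
      obtain ⟨z, hz⟩ := ih
      obtain ⟨g, h1, h2⟩ := Urk.tor_perf tE8 hr hrp (Z := (fun i => f i u) '' (s : Set (Fin 8)))
        (s.finite_toSet.image _) (z := z) (by rintro _ ⟨i, hi, rfl⟩; exact ⟨hz i hi, hur i⟩) (hJ j)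
        (by
          rintro _ ⟨v, -, rfl⟩ _ ⟨i, hi, rfl⟩
          exact hc j i (fun e => hj (e ▸ hi)) v u)
        (x := f j u) ⟨u, trivial, rfl⟩ (hur j)
      refine ⟨g, fun i hi => ?_⟩
      rcases Finset.mem_insert.1 hi with rfl | hi
      · exact h2
      · exact h1 _ ⟨i, hi, rfl⟩
  obtain ⟨ζ, hζ⟩ := exists_zeta p (m := r) ((Nat.coprime_primes hr Fact.out).2 hrp)
  have : NeZero r := ⟨hr.ne_zero⟩
  let t : Fin 8 → YY chevE8 p := fun i => g * f i u * g⁻¹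
  have ht : ∀ i, t i ∈ TT chevE8 (kb p) := fun i => hg i (Finset.mem_univ i)
  have htr : ∀ i, t i ^ r = 1 := fun i => by
    change (g * f i u * g⁻¹) ^ r = 1
    rw [conj_pow, hur, mul_one, mul_inv_cancel]
  choose φ hφ using fun i => chi_ex tE8 hζ hr.pos (ht i) (htr i)
  have h0 : ∀ i, φ i ≠ 0 := fun i => (hφ i).ne_zero hζ boxChi fun h => by
    have h1 : f i u = 1 := by
      have h2 : g * f i u * g⁻¹ = 1 := h
      calc f i u = g⁻¹ * (g * f i u * g⁻¹) * g := by group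
        _ = 1 := by rw [h2]; group
    have h2 : u = 1 := hinj i (h1.trans (map_one _).symm)
    rw [h2, orderOf_one] at hu
    omega
  have hw : ∀ i, ∃ w ∈ WW tE8 {a | Rt tE8 a ∧ ∀ j, j ≠ i → φ j a = 0}, _root_.Cfsg.Agent.Cam.Ex.Neg tE8 w (φ i) := by
    intro i
    let Q : Set (YY chevE8 p) := t '' {j | j ≠ i}
    have hQ : ∀ s ∈ Q, s ∈ TT chevE8 (kb p) := by
      rintro _ ⟨j, -, rfl⟩
      exact ht j
    have h1 := chi_perf tE8 hr (Q := Q) (by
      rintro _ ⟨j, -, rfl⟩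
      exact ⟨ht j, 1, by rw [pow_one, htr]⟩) (J := ((⊤ : Subgroup U).map (f i)).map (MulAut.conj g).toMonoidHom)
      (by rw [← map_commutator, hJ]) (by
      rintro _ ⟨_, ⟨x, -, rfl⟩, rfl⟩
      rw [mem_centralizer_iff]
      rintro _ ⟨j, hj, rfl⟩
      exact Urk.cj_comm (hc j i hj u x))
    obtain ⟨w, hw, hw'⟩ := chi_conj tE8 hQ (y := g * f i v * g⁻¹)
      (mem_sup_left (h1 ⟨_, ⟨v, trivial, rfl⟩, rfl⟩))
    have e : g * f i v * g⁻¹ * t i * (g * f i v * g⁻¹)⁻¹ = (t i)⁻¹ := by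
      calc _ = g * (f i v * f i u * (f i v)⁻¹) * g⁻¹ := by simp only [t]; group
        _ = _ := by rw [← map_inv, ← map_mul, ← map_mul, hv, map_inv]; simp only [t]; group
    have e' : PsiS tE8 Q = {a | Rt tE8 a ∧ ∀ j, j ≠ i → φ j a = 0} := by
      ext a
      refine and_congr_right fun ha => ⟨fun h j hj => ?_, ?_⟩
      · have h2 := h _ ⟨j, hj, rfl⟩
        rwa [(hφ j).2 a ha, zeta_eq_one hζ] at h2
      · rintro h _ ⟨j, hj, rfl⟩
        rw [(hφ j).2 a ha, zeta_eq_one hζ]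
        exact h j hj
    refine ⟨w, e' ▸ hw, fun a => ?_⟩
    have h2 := hw' (t i) (ht i) (by rw [e]; exact inv_mem (ht i))
    rw [e] at h2
    have h4 := Chi.of_conj hζ (hφ i) ((hφ i).inv hζ) h2 a
    rw [AddMonoidHom.neg_apply] at h4
    rw [← h4, neg_neg]
  choose w hw hneg using hw
  obtain ⟨s, hs⟩ := exists_weyl (hp := tE8) boxChi (g * n * g⁻¹)
  refine comb hr h3 φ w hw hneg h0 s fun i a => ?_
  have e : g * n * g⁻¹ * t i * (g * n * g⁻¹)⁻¹ = t (cy i) := by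
    simp only [t]
    rw [← hn i]
    group
  have h2 := hs (t i) (ht i) (by rw [e]; exact ht _)
  rw [e] at h2
  exact Chi.of_conj hζ (hφ i) (hφ (cy i)) h2 a

section conf

open Cfsg.Agent.Cam.Rd Cfsg.Agent.Cam.Spor

variable {G : Type} [Group G] [Finite G] {S H : Subgroup G} {g : G} {𝒯 : Set (Subgroup G)}

/-- a family of commuting copies -/
theorem exists_pi {T : Subgroup G} (hs : IsSimpleGroup T) (hn : ¬ IsMulCommutative T) {n : ℕ}
    (Y : Fin n → Subgroup G) (hYS : ∀ i, Y i ≤ S) (hiso : ∀ i, Nonempty (T ≃* Y i))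
    (hcomm : ∀ i j, i ≠ j → ∀ x ∈ Y i, ∀ y ∈ Y j, x * y = y * x) :
    ∃ f : (Fin n → T) →* S, Function.Injective f :=
  let φ : Fin n → (T →* S) := fun i => (inclusion (hYS i)).comp (hiso i).some.toMonoidHom
  ⟨_, pi_inj hs hn φ (fun i => (inclusion_injective (hYS i)).comp (hiso i).some.injective)
    fun i j hij x y => Subtype.ext (hcomm _ _ hij _ ((hiso i).some x).2 _ ((hiso j).some y).2)⟩

/-- a non-abelian simple group of permutations of five points -/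
theorem range_eq_alt {U : Type} [Group U] [Finite U] (hs : IsSimpleGroup U) (hn : ¬ IsMulCommutative U)
    (φ : U →* Equiv.Perm (Fin 5)) (hφ : Function.Injective φ) : φ.range = alternatingGroup (Fin 5) := by
  have h1 : φ.range ≤ alternatingGroup (Fin 5) := by
    rw [← range_perfect hs hn φ, commutator_le]
    intro a _ b _
    rw [Equiv.Perm.mem_alternatingGroup, map_commutatorElement, commutatorElement_eq_one_iff_mul_comm, mul_comm]
  refine eq_of_le_of_card_ge h1 ?_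
  have h2 : 60 ≤ Nat.card U := by
    by_contra hlt
    have h3 := Cfsg.Agent.S0493.result (G := U) (fun h => hn IsCyclic.isMulCommutative) (by omega)
    omega
  rw [← Nat.card_congr (MonoidHom.ofInjective hφ).toEquiv]
  refine le_trans (le_of_eq ?_) h2
  rw [nat_card_alternatingGroup, Nat.card_eq_fintype_card, Fintype.card_fin]
  rfl

/-- **No mover.** -/
theorem no_mover (big : Big) (c : Cls S H g 𝒯) (h8 : IsoE8 S) :
    ∀ T₁ ∈ 𝒯, ∀ T₂ ∈ 𝒯, cj g T₂ ≤ normalizer (T₁ : Set G) := by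
  classical
  intro T₁ h₁ T₂ h₂
  by_contra h
  have hm : T₂ ∈ Mov g 𝒯 := ⟨h₂, fun h' => h (h' T₁ h₁)⟩
  obtain ⟨h5, h3⟩ := three_le big c ⟨T₂, hm⟩
  obtain ⟨p, _, ⟨E⟩⟩ := Cfsg.Agent.Cam.Ex.Frm.boxFrame.e8 S h8
  have hs := c.tsimple T₁ h₁
  have hn := c.tnoncomm T₁ h₁
  have : Fintype 𝒯 := Fintype.ofFinite _
  have : Fintype (Rd.Cen g 𝒯) := Fintype.ofFinite _
  obtain ⟨b⟩ : Nonempty (Fin 3 ↪ Rd.Cen g 𝒯) := Function.Embedding.nonempty_of_card_le (by
    rwa [Fintype.card_fin, ← Nat.card_eq_fintype_card, Nat.card_coe_set_eq])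
  -- there are five components
  have h6 : 𝒯.ncard = 5 := by
    by_contra h6
    obtain ⟨a⟩ : Nonempty (Fin 6 ↪ 𝒯) := Function.Embedding.nonempty_of_card_le (by
      rw [Fintype.card_fin, ← Nat.card_eq_fintype_card, Nat.card_coe_set_eq]
      omega)
    let Y : Fin 6 ⊕ Fin 3 → Subgroup G := Sum.elim (fun i => a i) fun j => cj g (b j)
    let ι : Fin 9 ≃ Fin 6 ⊕ Fin 3 := (finSumFinEquiv (m := 6) (n := 3)).symm
    have hYS : ∀ i, Y i ≤ S := by
      rintro (i | j)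
      · exact c.le_S _ (a i).2
      · exact T'_le_S c (b j).2.1
    have hiso : ∀ i, Nonempty (T₁ ≃* Y i) := by
      rintro (i | j)
      · exact iso_T c h₁ (a i).2
      · exact iso_T' c h₁ (b j).2.1
    have hcomm : ∀ i j, i ≠ j → ∀ x ∈ Y i, ∀ y ∈ Y j, x * y = y * x := by
      rintro (i | i) (j | j) hij x hx y hy
      · exact c.comm _ (a i).2 _ (a j).2 (fun e => hij (by rw [a.injective (Subtype.ext e)])) x hx y hy
      · exact mem_centralizer_iff.1 ((b j).2.2 _ (a i).2 hy) x hx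
      · exact (mem_centralizer_iff.1 ((b i).2.2 _ (a j).2 hx) y hy).symm
      · exact comm_T' c (b i).2.1 (b j).2.1 (fun e => hij (by rw [b.injective (Subtype.ext e)])) x hx y hy
    obtain ⟨f, hf⟩ := exists_pi hs hn (fun i => Y (ι i)) (fun i => hYS _) (fun i => hiso _)
      fun i j hij => hcomm _ _ fun e => hij (ι.injective e)
    have := Urk.le_rank tE8 hn (E.ι.comp f) (E.inj.comp hf)
    omega
  obtain ⟨e⟩ : Nonempty (𝒯 ≃ Fin 5) := ⟨Fintype.equivFinOfCardEq (by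
    rwa [← Nat.card_eq_fintype_card, Nat.card_coe_set_eq])⟩
  -- the mover acts as the alternating group
  let T₀ : Subgroup G := (e.symm 0 : 𝒯)
  have h₀ : T₀ ∈ 𝒯 := (e.symm 0).2
  have hs0 := c.tsimple T₀ h₀
  have hn0 := c.tnoncomm T₀ h₀
  obtain ⟨ε⟩ := iso_T' c h₀ h₂
  let φ₀ : T₀ →* Equiv.Perm 𝒯 := (_root_.Cfsg.Agent.Cam.Rd.act c).comp ((inclusion (T'_le_H c h₂)).comp ε.toMonoidHom)
  have hφ : ∀ t (T : 𝒯), (φ₀ t T : Subgroup G) = cj ((ε t : G))⁻¹ T := fun _ _ => rfl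
  have hinj : Function.Injective φ₀ := by
    rw [← MonoidHom.ker_eq_bot_iff]
    rcases hs0.eq_bot_or_eq_top_of_normal φ₀.ker inferInstance with h | h
    · exact h
    · exfalso
      refine hm.2 fun T hT y hy => ?_
      have h1 : φ₀ (ε.symm ⟨y, hy⟩) = 1 := by
        rw [← MonoidHom.mem_ker, h]
        exact mem_top _
      have h2 := hφ (ε.symm ⟨y, hy⟩) ⟨T, hT⟩
      rw [h1, MulEquiv.apply_symm_apply] at h2
      exact inv_mem_iff.1 (cj_eq_iff.1 h2.symm)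
  let φ : T₀ →* Equiv.Perm (Fin 5) := (e.permCongrHom).toMonoidHom.comp φ₀
  have hinj' : Function.Injective φ := (e.permCongrHom).injective.comp hinj
  have hr := range_eq_alt hs0 hn0 φ hinj'
  have hsur : ∀ σ : Equiv.Perm (Fin 5), Equiv.Perm.sign σ = 1 → ∃ t, φ t = σ := fun σ hσ => by
    have : σ ∈ φ.range := by
      rw [hr]
      exact hσ
    exact this
  obtain ⟨t, ht⟩ := hsur (finRotate 5) (by decide)
  obtain ⟨r, hrp, hr3, hne, u, v, hu, hv⟩ : ∃ r : ℕ, r.Prime ∧ 3 ≤ r ∧ r ≠ p ∧ ∃ u v : T₀, orderOf u = r ∧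
      v * u * v⁻¹ = u⁻¹ := by
    by_cases hp : p = 5
    · obtain ⟨u, hu⟩ := hsur (Equiv.swap (0 : Fin 5) 1 * Equiv.swap (1 : Fin 5) 2) (by decide)
      obtain ⟨v, hv⟩ := hsur (Equiv.swap (0 : Fin 5) 1 * Equiv.swap (3 : Fin 5) 4) (by decide)
      have : Fact (Nat.Prime 3) := ⟨Nat.prime_three⟩
      refine ⟨3, Nat.prime_three, le_rfl, by omega, u, v, ?_, hinj' ?_⟩
      · rw [← orderOf_injective φ hinj', hu]
        exact orderOf_eq_prime (by decide) (by decide)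
      · rw [map_mul, map_mul, map_inv, map_inv, hu, hv]
        decide
    · obtain ⟨v, hv⟩ := hsur (Equiv.swap (1 : Fin 5) 4 * Equiv.swap (2 : Fin 5) 3) (by decide)
      have : Fact (Nat.Prime 5) := ⟨Nat.prime_five⟩
      refine ⟨5, Nat.prime_five, by norm_num, Ne.symm hp, t, v, ?_, hinj' ?_⟩
      · rw [← orderOf_injective φ hinj', ht]
        exact orderOf_eq_prime (by decide) (by decide)
      · rw [map_mul, map_mul, map_inv, map_inv, ht, hv]
        decide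
  have ht5 : (ε t : G) ^ 5 = 1 := by
    have h1 : t ^ 5 = 1 := hinj' (by rw [map_pow, ht, map_one]; decide)
    rw [← coe_pow, ← map_pow, h1, map_one, coe_one]
  let n : S := ⟨ε t, T'_le_S c h₂ (ε t).2⟩
  -- the eight groups
  have hmem : ∀ (k : ℕ) (x : T₀), (ε t : G) ^ k * x * ((ε t : G) ^ k)⁻¹ ∈
      ((e.symm (((finRotate 5) ^ k) 0) : 𝒯) : Subgroup G) := by
    intro k x
    have h1 := hφ (t ^ k) (e.symm 0)
    have h2 : e (φ₀ (t ^ k) (e.symm 0)) = ((finRotate 5) ^ k) 0 := by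
      rw [← ht, ← map_pow]
      rfl
    rw [← h2, Equiv.symm_apply_apply, h1, map_pow, coe_pow]
    exact conj_mem_cj_inv x.2
  let f₁ : ℕ → (T₀ →* S) := fun k => (MulAut.conj (n ^ k)).toMonoidHom.comp (inclusion (c.le_S T₀ h₀))
  have hf₁ : ∀ k x, ((f₁ k x : S) : G) = (ε t : G) ^ k * x * ((ε t : G) ^ k)⁻¹ := fun k x => rfl
  let f₂ : Fin 3 → (T₀ →* S) := fun j =>
    (inclusion (T'_le_S c (b j).2.1)).comp (iso_T' c h₀ (b j).2.1).some.toMonoidHom
  have hf₂ : ∀ j x, ((f₂ j x : S) : G) ∈ cj g (b j) := fun j x => ((iso_T' c h₀ (b j).2.1).some x).2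
  have i₁ : ∀ k, Function.Injective (f₁ k) := fun k => (MulAut.conj (n ^ k)).injective.comp (inclusion_injective (c.le_S T₀ h₀))
  have i₂ : ∀ j, Function.Injective (f₂ j) := fun j =>
    (inclusion_injective (T'_le_S c (b j).2.1)).comp (iso_T' c h₀ (b j).2.1).some.injective
  have c₁ : ∀ k l : ℕ, ((finRotate 5) ^ k) 0 ≠ ((finRotate 5) ^ l) 0 → ∀ x y, f₁ k x * f₁ l y = f₁ l y * f₁ k x :=
    fun k l hkl x y => Subtype.ext (c.comm _ (e.symm _).2 _ (e.symm _).2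
      (fun h => hkl (e.symm.injective (Subtype.ext h))) _ (hmem k x) _ (hmem l y))
  have c₂ : ∀ k j x y, f₁ k x * f₂ j y = f₂ j y * f₁ k x := fun k j x y =>
    Subtype.ext (mem_centralizer_iff.1 ((b j).2.2 _ (e.symm _).2 (hf₂ j y)) _ (hmem k x))
  have c₃ : ∀ i j, i ≠ j → ∀ x y, f₂ i x * f₂ j y = f₂ j y * f₂ i x := fun i j hij x y =>
    Subtype.ext (comm_T' c (b i).2.1 (b j).2.1 (fun e => hij (b.injective (Subtype.ext e))) _ (hf₂ i x) _ (hf₂ j y))
  have n₁ : ∀ k x, n * f₁ k x * n⁻¹ = f₁ (k + 1) x := fun k x => by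
    change n * (n ^ k * _ * (n ^ k)⁻¹) * n⁻¹ = n ^ (k + 1) * _ * (n ^ (k + 1))⁻¹
    group
  have n₅ : f₁ 5 = f₁ 0 := by
    have : n ^ 5 = n ^ 0 := by
      rw [pow_zero]
      exact Subtype.ext ht5
    simp only [f₁, this]
  have n₂ : ∀ j x, n * f₂ j x * n⁻¹ = f₂ j x := fun j x => by
    rw [mul_inv_eq_iff_eq_mul]
    refine Subtype.ext (comm_T' c h₂ (b j).2.1 (fun e => hm.2 fun T hT => ?_) _ (ε t).2 _ (hf₂ j x))
    rw [e]
    exact ((b j).2.2 T hT).trans (centralizer_le_normalizer _)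
  let f : Fin 8 → (T₀ →* S) := ![f₁ 0, f₁ 1, f₁ 2, f₁ 3, f₁ 4, f₂ 0, f₂ 1, f₂ 2]
  refine alg (p := p) (U := T₀) (Urk.exists_elt p T₀ hn0).1 (fun i => E.ι.comp (f i)) (fun i => E.inj.comp ?_)
    (fun i j hij x y => ?_) hrp hr3 hne hu hv (n := E.ι n) fun i => ?_
  · fin_cases i
    exacts [i₁ 0, i₁ 1, i₁ 2, i₁ 3, i₁ 4, i₂ 0, i₂ 1, i₂ 2]
  · simp only [MonoidHom.comp_apply]
    rw [← map_mul, ← map_mul]
    congr 1
    have hf : ∀ i : Fin 8, (∃ k : ℕ, k < 5 ∧ (i : ℕ) = k ∧ f i = f₁ k) ∨ ∃ j : Fin 3, (i : ℕ) = 5 + j ∧ f i = f₂ j := by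
      intro i
      fin_cases i
      exacts [.inl ⟨0, by decide, rfl, rfl⟩, .inl ⟨1, by decide, rfl, rfl⟩, .inl ⟨2, by decide, rfl, rfl⟩,
        .inl ⟨3, by decide, rfl, rfl⟩, .inl ⟨4, by decide, rfl, rfl⟩, .inr ⟨0, rfl, rfl⟩, .inr ⟨1, rfl, rfl⟩, .inr ⟨2, rfl, rfl⟩]
    have hrot : ∀ k < 5, ∀ l < 5, k ≠ l → ((finRotate 5) ^ k) 0 ≠ ((finRotate 5) ^ l) 0 := by decide +kernel
    rcases hf i with ⟨k, hk, ek, e1⟩ | ⟨k, ek, e1⟩ <;> rcases hf j with ⟨l, hl, el, e2⟩ | ⟨l, el, e2⟩ <;> rw [e1, e2]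
    · exact c₁ k l (hrot k hk l hl fun e => hij (Fin.ext (by rw [ek, el, e]))) x y
    · exact c₂ k l x y
    · exact (c₂ l k y x).symm
    · exact c₃ k l (fun e => hij (Fin.ext (by rw [ek, el, e]))) x y
  · simp only [MonoidHom.comp_apply]
    rw [← map_inv, ← map_mul, ← map_mul]
    congr 1
    fin_cases i
    exacts [n₁ 0 u, n₁ 1 u, n₁ 2 u, n₁ 3 u, (n₁ 4 u).trans (by rw [n₅]; rfl), n₂ 0 u, n₂ 1 u, n₂ 2 u]

end conf

end Cfsg.Agent.Cam.E8.Mov
end

-- part: Cam/E8/OMov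
section
/-!
# S3690: `boxMov` (helper81)
-/

set_option autoImplicit false

namespace Cfsg.Agent.Cam.E8O.Mov

open Cfsg Cfsg.Lie

/-- no mover, in every characteristic -/
theorem noMov (big : Big) {G : Type} [Group G] [Finite G] {S H : Subgroup G} {g : G} {p : ℕ} [Fact p.Prime]
    (E : Fr8 p S) : NoMov S H g := by
  obtain ⟨e⟩ := exists_equiv E
  have := Fintype.ofFinite (GaloisField p E.e)
  exact fun 𝒯 c => E8.Mov.no_mover big c ⟨GaloisField p E.e, inferInstance, inferInstance, ⟨e⟩⟩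

theorem boxMov : BoxMov := fun big _ _ _ _ _ _ _ E => noMov big E

end Cfsg.Agent.Cam.E8O.Mov
end

-- part: Cam/E8/OAsmC
section
/-!
# S3690, the row `E₈`, odd characteristic: the end, `oddE8 : Boxes → OddE8` (helper70)
-/

set_option autoImplicit false
set_option linter.unusedVariables false
set_option linter.unusedSectionVars false

namespace Cfsg.Agent.Cam.E8O.Asm

open Cfsg Cfsg.Lie Subgroup Module
open Cfsg.Agent.Cam.Spor Cfsg.Agent.Cam.Ex Cfsg.Agent.Cam.Ex.S2 Cfsg.Agent.Cam.Odd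
open Cfsg.Agent.DS.NT (ev)
open Cfsg.Agent.DS.Nt (dd ad Fx Tp)

variable {p : ℕ} [Fact p.Prime] {L : Type} [Group L] [Finite L] {U : Type} [Group U] [Finite U]
  {τ α β : U →* L} {R R' D : Subgroup L}

theorem iso_a (B : Boxes) (h2 : p ≠ 2) (E : Fr8 p L) (c : Core8 τ α β R R' D) : Iso p (E.ι.comp α).range := by
  refine B.iso p (alt5 B h2 E c).1 _ (range_perfect c.simple c.noncomm _) ?_
  rw [← (no_fix B h2 E c).1, MonoidHom.coe_range, MonoidHom.coe_comp, Set.range_comp]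

theorem mem_cent (E : Fr8 p L) (c : Core τ α β R R') {z : L} (hz : z ∈ R') :
    E.ι z ∈ centralizer ((E.ι.comp α).range : Set (Y8 p)) := by
  rw [mem_centralizer_iff]
  rintro _ ⟨u, rfl⟩
  exact ι_comm E (c.pair'.comm u z hz)

/-- a group of order `r ^ n` without elements of order `r ^ 2` -/
theorem exp_of {G : Type} [Group G] [Finite G] {r n : ℕ} (hr : r.Prime) (h : Nat.card G = r ^ n)
    (h1 : ∀ x : G, orderOf x ≠ r ^ 2) (x : G) : x ^ r = 1 := by
  obtain ⟨k, -, hk⟩ := (Nat.dvd_prime_pow hr).1 (h ▸ _root_.orderOf_dvd_natCard x)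
  rcases k with _ | _ | k
  · rw [pow_zero, orderOf_eq_one_iff] at hk
    rw [hk, one_pow]
  · rw [zero_add, pow_one] at hk
    rw [← hk, pow_orderOf_eq_one]
  · refine absurd ?_ (h1 (x ^ r ^ k))
    rw [orderOf_pow_of_dvd (pow_ne_zero _ hr.ne_zero) (by rw [hk]; exact pow_dvd_pow _ (by omega)), hk,
      Nat.pow_div (by omega) hr.pos]
    congr 1
    omega

theorem not_25 (B : Boxes) (h2 : p ≠ 2) (E : Fr8 p L) (c : Core8 τ α β R R' D) : ¬ 25 ∣ Nat.card R' := by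
  intro h
  have := Fact.mk Nat.prime_five
  have hI := iso_a B h2 E c
  obtain ⟨K, hK⟩ := Sylow.exists_subgroup_card_pow_prime 5 (n := 2) h
  have hi : Function.Injective (E.ι.comp R'.subtype) := E.inj.comp R'.subtype_injective
  refine hI.five (K.map (E.ι.comp R'.subtype)) ?_ ?_ (by rw [card_map_of_injective hi, hK]; rfl)
  · rintro _ ⟨x, -, rfl⟩
    exact mem_cent E c.toCore x.2
  · rintro _ ⟨x, hx, rfl⟩
    have h3 := exp_of Nat.prime_five hK (fun y => by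
      rw [← orderOf_injective ((E.ι.comp R'.subtype).comp K.subtype) (hi.comp K.subtype_injective)]
      exact (hI.nine _ (mem_cent E c.toCore y.1.2)).2) ⟨x, hx⟩
    rw [← map_pow, show x ^ 5 = 1 from congrArg Subtype.val h3, map_one]

theorem q80 {d : ℕ} (h : d = 80 ∨ d = 86 ∨ d = 92 ∨ d = 134)
    (k : E8A.Two.q3 d + E8A.Two.q3 d = 2 * E8A.Two.q3 80 + 2 * E8A.Two.q3 80) : d = 92 := by
  rcases h with rfl | rfl | rfl | rfl <;> first | rfl | exact absurd k (by decide)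

theorem q86 {d : ℕ} (h : d = 80 ∨ d = 86 ∨ d = 92 ∨ d = 134)
    (k : E8A.Two.q3 d + E8A.Two.q3 d = 2 * E8A.Two.q3 80 + 2 * E8A.Two.q3 86) : d = 80 ∨ d = 134 := by
  rcases h with rfl | rfl | rfl | rfl <;> first | exact absurd k (by decide) | decide

theorem not_81 (B : Boxes) (h2 : p ≠ 2) (E : Fr8 p L) (c : Core8 τ α β R R' D) : ¬ 81 ∣ Nat.card R' := by
  intro h
  have co := c.toCore
  have := Fact.mk Nat.prime_three
  have hI := iso_a B h2 E c
  obtain ⟨h7, h5⟩ := alt5 B h2 E c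
  have hp3 : p ≠ 3 := by omega
  obtain ⟨K, hK⟩ := Sylow.exists_subgroup_card_pow_prime 3 (n := 4) h
  let b : K →* L := R'.subtype.comp K.subtype
  have hb : Function.Injective b := R'.subtype_injective.comp K.subtype_injective
  have hbR : ∀ z, b z ∈ R' := fun z => z.1.2
  have hc : ∀ u z, α u * b z = b z * α u := fun u z => co.pair'.comm u _ (hbR z)
  have h3 := exp_of Nat.prime_three hK fun y => by
    rw [← orderOf_injective b hb, ← ord_ι E]
    exact (hI.nine _ (mem_cent E co (hbR y))).1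
  have e0 : ∀ g, ev ((ad chevE8 p).comp (E.ι.comp (pr α b hc))) g 1 = dd p (E.ι (pr α b hc g)) := fun _ => rfl
  refine B.p81 p h7 _ U h5 K hK h3 ((ad chevE8 p).comp (E.ι.comp (pr α b hc))) fr248
    (by rw [fx_l, (no_fix B h2 E c).1]) (fun x hx => by rw [e0, pr_l, alpha2 B.j h2 E c hx])
    (fun t ht => by rw [e0, pr_l, (three_dd B h2 E c ht).2.1]) fun x t z hx ht hz => ?_
  have hz3 : orderOf z = 3 := orderOf_eq_prime (h3 z) hz
  have k1 := cube_of (E.ι.comp α) ht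
  have k2 := cube_of (E.ι.comp b) hz3
  have k3 := ι_comm E (hc t z)
  have k4 := par3 hp3 k1 k2 k3
  obtain ⟨g, hg⟩ := conj3 h5 ht (by rw [orderOf_inv, ht] : orderOf t⁻¹ = 3)
  have k5 : dd p (E.ι (α t) * (E.ι (b z))⁻¹) = dd p (E.ι (α t) * E.ι (b z)) := by
    have e1 : α g * (α t * b z) * (α g)⁻¹ = (α t * (b z)⁻¹)⁻¹ := by
      calc _ = α g * α t * (b z * α g⁻¹) := by rw [map_inv]; group
        _ = α (g * t * g⁻¹) * b z := by rw [← hc, map_mul, map_mul]; group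
        _ = _ := by rw [hg, hc, map_inv]; group
    rw [← map_inv, ← map_mul, ← map_mul, ← dd_conjL E (α g) (α t * b z), e1, map_inv, dd_inv]
  have k6 := dd3 hp3 (y := E.ι (α t) * E.ι (b z)) (by
    rw [(show Commute _ _ from k3).mul_pow]
    exact (congrArg₂ (· * ·) k1 k2).trans (mul_one 1)) (by
    rw [← map_mul, ← pr_apply hc]
    exact map_ne E.inj (map_ne (pr_inj co.simple co.noncomm co.pair'.inj hb hc) fun e => hz (congrArg Prod.snd e)))
  have k7 := dd6 h2 hp3 (map_sq _ (map_sq _ (sq_of hx))) k2 (ι_comm E (hc x z)) (alpha2 B.j h2 E c hx)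
  change E8A.Two.q3 (dd p (E.ι (α t) * E.ι (b z))) + E8A.Two.q3 (dd p (E.ι (α t) * (E.ι (b z))⁻¹)) =
    2 * E8A.Two.q3 (dd p (E.ι (α t))) + 2 * E8A.Two.q3 (dd p (E.ι (b z))) at k4
  rw [k5, (three_dd B h2 E c ht).2.1] at k4
  rw [e0, e0, e0, pr_r, pr_apply, pr_apply, map_mul, map_mul]
  have k8 := hI.prime _ (mem_cent E co (hbR z)) (by rw [ord_ι, orderOf_injective b hb, hz3]; exact Nat.prime_three)
  rw [ord_ι, orderOf_injective b hb, hz3] at k8
  rcases k8 with k8 | ⟨-, k8 | k8⟩ | ⟨k8, -⟩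
  · omega
  · exact Or.inl ⟨k8, q80 k6 (k8 ▸ k4), k7.1 k8⟩
  · exact Or.inr ⟨k8, q86 k6 (k8 ▸ k4), k7.2 k8⟩
  · omega

/-- multiplication by an involution of class 2A of `R'` changes the class -/
theorem flip (B : Boxes) (h2 : p ≠ 2) (E : Fr8 p L) (c : Core8 τ α β R R' D) {z n : L} (hz : z ∈ R') (hn : n ∈ R')
    (oz : orderOf z = 2) (on : orderOf n = 2) (hd : dd p (E.ι z) = 136) (hne : n ≠ z) (hc : n * z = z * n) :
    dd p (E.ι (n * z)) ≠ dd p (E.ι n) := by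
  obtain ⟨ψ, hj, -⟩ := B.j p h2 L E z oz hd
  rw [← q8L E hj on hne hc]
  refine czL E hj (range_perfect c.simple c.noncomm α) (by rintro _ ⟨u, rfl⟩; exact c.pair'.comm u z hz) (fun h => ?_) hc
    (by rintro _ ⟨u, rfl⟩; exact (c.pair'.comm u n hn).symm)
  obtain ⟨v, h0, hv⟩ := hj.vec
  refine h0 ((Submodule.eq_bot_iff _).1 (no_fix B h2 E c).1 v ((DS.Nt.mem_Fx p).2 ?_))
  rintro _ ⟨_, ⟨u, rfl⟩, rfl⟩
  exact hv _ (h _ ⟨u, rfl⟩)

theorem fix16 (B : Boxes) (h2 : p ≠ 2) (E : Fr8 p L) (c : Core8 τ α β R R' D) (N : Subgroup R') (y : R')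
    (hN : Nat.card N = 16) (h1 : ∀ n ∈ N, n ^ 2 = 1) (hy : orderOf y = 5) (h3 : ∀ n ∈ N, y * n * y⁻¹ ∈ N) :
    ∃ n ∈ N, n ≠ 1 ∧ y * n = n * y := by
  by_contra hcon
  push Not at hcon
  have := Fact.mk Nat.prime_two
  have hi : Function.Injective (E.ι.comp R'.subtype) := E.inj.comp R'.subtype_injective
  have ho : ∀ n ∈ N, n ≠ 1 → orderOf (n : L) = 2 := fun n hn h => by
    rw [orderOf_coe]
    exact orderOf_eq_prime (h1 n hn) h
  obtain ⟨z, hz, hz1, hd⟩ : ∃ z ∈ N, z ≠ 1 ∧ dd p (E.ι (z : L)) = 136 := by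
    by_contra h4
    push Not at h4
    refine (iso_a B h2 E c).sixteen (N.map (E.ι.comp R'.subtype)) ?_ ?_ ?_ (by rw [card_map_of_injective hi, hN])
    · rintro _ ⟨x, -, rfl⟩
      exact mem_cent E c.toCore x.2
    · rintro _ ⟨x, hx, rfl⟩
      exact map_sq _ (h1 x hx)
    · rintro _ ⟨x, hx, rfl⟩ h5
      have h6 : x ≠ 1 := fun e => h5 (by rw [e, map_one])
      exact (dd2L E h2 (ho x hx h6)).resolve_right (h4 x hx h6)
  have hcm := comm_of_sq h1
  obtain ⟨f, hf⟩ : ∃ f : R' → R', ∀ n, f n = y * n * y⁻¹ := ⟨_, fun _ => rfl⟩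
  have fm : ∀ a b, f (a * b) = f a * f b := fun a b => by rw [hf, hf, hf, conj_mul]
  have fN : ∀ n ∈ N, f n ∈ N := fun n hn => hf n ▸ h3 n hn
  have fd : ∀ n, dd p (E.ι (f n : L)) = dd p (E.ι (n : L)) := fun n => by
    rw [hf]
    exact dd_conjL E _ _
  have f1 : ∀ n, n ≠ 1 → f n ≠ 1 := fun n h => hf n ▸ conj_ne_one _ h
  have fne : ∀ n ∈ N, n ≠ 1 → f n ≠ n := fun n hn h e => hcon n hn h (mul_inv_eq_iff_eq_mul.1 (hf n ▸ e))
  have f5 : f (f (f (f (f z)))) = z := by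
    have h4 : y * y * y * y * y = 1 := by
      rw [← pow_orderOf_eq_one y, hy]
      simp only [pow_succ, pow_zero, one_mul]
    calc f (f (f (f (f z)))) = y * y * y * y * y * z * (y * y * y * y * y)⁻¹ := by
          rw [hf, hf, hf, hf, hf]
          simp only [mul_inv_rev, mul_assoc]
      _ = z := by rw [h4]; group
  have z1 := fN _ hz
  have z2 := fN _ z1
  have z3 := fN _ z2
  have z4 := fN _ z3
  have key : ∀ a ∈ N, ∀ n ∈ N, a ≠ 1 → n ≠ 1 → dd p (E.ι (a : L)) = 136 → n ≠ a →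
      dd p (E.ι ((n * a : R') : L)) ≠ dd p (E.ι (n : L)) := fun a ha n hn k1 k2 k3 k4 =>
    flip B h2 E c a.2 n.2 (ho a ha k1) (ho n hn k2) k3 (fun e => k4 (Subtype.ext e))
      (congrArg Subtype.val (hcm n hn a ha))
  have hinv : ∀ n ∈ N, n⁻¹ = n := fun n hn => by rw [inv_eq_iff_mul_eq_one, ← pow_two, h1 n hn]
  have hne : ∀ a ∈ N, ∀ n ∈ N, n ≠ a → n * a ≠ 1 := fun a ha n hn k e =>
    k ((eq_inv_of_mul_eq_one_left e).trans (hinv a ha))
  have m1 := hne _ z1 z hz (fne z hz hz1).symm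
  have d1 : dd p (E.ι ((z * f z : R') : L)) = 120 := (dd2L E h2 (ho _ (mul_mem hz z1) m1)).resolve_right fun e =>
    key _ z1 z hz (f1 z hz1) hz1 (by rw [fd, hd]) (fne z hz hz1).symm (by rw [e, hd])
  have d2 : dd p (E.ι ((z * f z * f (f z) : R') : L)) ≠ 120 := by
    rw [← d1]
    refine key _ z2 _ (mul_mem hz z1) (f1 _ (f1 z hz1)) m1 (by rw [fd, fd, hd]) fun e => ?_
    rw [e, fd, fd, hd] at d1
    omega
  have hP : z * f z * f (f z) * (f (f (f z)) * f (f (f (f z)))) = 1 := by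
    by_contra h4
    refine fne _ (mul_mem (mul_mem (mul_mem hz z1) z2) (mul_mem z3 z4)) h4 ?_
    rw [fm, fm, fm, fm, f5, ← mul_assoc, ← hcm z hz _ (mul_mem (mul_mem (mul_mem z1 z2) z3) z4)]
    simp only [mul_assoc]
  refine d2 ?_
  rw [eq_inv_of_mul_eq_one_left hP, hinv _ (mul_mem z3 z4), ← fm, ← fm, ← fm, fd, fd, fd, d1]

theorem perm5 : ∀ s y : Equiv.Perm (Fin 5), y ^ 5 = 1 → y ≠ 1 → s * y = y * s → s ^ 5 = 1 := by
  intro s y h5 h1 hc
  have : Fact (Nat.Prime 5) := ⟨Nat.prime_five⟩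
  have ho : orderOf y = 5 := orderOf_eq_prime h5 h1
  have hy := Equiv.Perm.isCycle_of_prime_order' (ho ▸ Nat.prime_five) (by rw [ho]; decide)
  have hs : y.support = Finset.univ := Finset.eq_univ_of_card _ (hy.orderOf.symm.trans ho)
  have hne : ∀ x, y x ≠ x := fun x => Equiv.Perm.mem_support.1 (hs ▸ Finset.mem_univ x)
  obtain ⟨k, hk⟩ := hy.exists_pow_eq (hne 0) (hne (s 0))
  have e : s = y ^ k := Equiv.ext fun x => by
    obtain ⟨j, rfl⟩ := hy.exists_pow_eq (hne 0) (hne x)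
    rw [← Equiv.Perm.mul_apply, (Commute.pow_right hc j).eq, Equiv.Perm.mul_apply, ← hk, ← Equiv.Perm.mul_apply,
      ← Equiv.Perm.mul_apply (y ^ k), pow_mul_comm]
  rw [e, ← pow_mul, mul_comm, pow_mul, h5, one_pow]

/-- an automorphism of `A₅` fixing an element of order five -/
theorem aut5 (h : Nonempty (U ≃* Al 5)) (σ : MulAut U) {y : U} (hy : orderOf y = 5) (h1 : σ y = y) : σ ^ 5 = 1 := by
  obtain ⟨e⟩ := h
  obtain ⟨s, hs⟩ := (S2119.result 5 (by norm_num) (by norm_num)).2 (MulAut.congr e σ)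
  have h3 : s * (e y : Equiv.Perm (Fin 5)) * s⁻¹ = e y := by
    rw [← MulAut.conjNormal_apply, hs, MulAut.congr_apply]
    simp [h1]
  have h4 := perm5 s (e y) (by rw [← coe_pow, ← map_pow, orderOf_dvd_iff_pow_eq_one.1 hy.dvd, map_one, coe_one])
    (fun k => ne_one_of hy (by norm_num) (e.injective (Subtype.ext (by rw [k, map_one, coe_one]))))
    (mul_inv_eq_iff_eq_mul.1 h3)
  apply (MulAut.congr e).injective
  rw [map_pow, ← hs, ← map_pow, h4, map_one, map_one]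

theorem not_alt5 (B : Boxes) (h2 : p ≠ 2) (E : Fr8 p L) (c : Core8 τ α β R R' D) : ¬ Nonempty (R' ≃* Al 5) := by
  rintro ⟨e'⟩
  have co := c.toCore
  obtain ⟨h7, ⟨e⟩⟩ := alt5 B h2 E c
  have h60 : Nat.card U = 60 := by
    rw [Nat.card_congr e.toEquiv, Nat.card_eq_fintype_card]
    (set_option synthInstance.maxSize 9000 in open scoped Cfsg.Agent.Lib.FastPerm in decide +kernel)
  have hB : β.range = R' := Subgroup.eq_of_le_of_card_ge (by rintro _ ⟨u, rfl⟩; exact co.bmem u) (by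
    rw [Nat.card_congr e'.toEquiv, ← Nat.card_congr (MonoidHom.ofInjective co.binj).toEquiv, Nat.card_congr e.toEquiv])
  have := Fact.mk Nat.prime_five
  obtain ⟨y, hy⟩ := exists_prime_orderOf_dvd_card' (G := U) 5 (by rw [h60]; norm_num)
  obtain ⟨v, h0, hv1, hv2⟩ := (no_fix B h2 E c).2 y hy
  obtain ⟨s, hs, hs5⟩ := B.vec p h7 L E (((zpowers y).prod ⊤).map (pr α β co.ab)) (fun h => by
      have h3 := (h.trans (card_map_dvd _ _)).trans (card_subgroup_dvd_card _)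
      rw [Nat.card_prod, h60] at h3
      have hp := (Fact.out : p.Prime)
      have h4 : p ∣ 2 ^ 4 * 3 ^ 2 * 5 ^ 2 := h3
      rcases (hp.dvd_mul).1 h4 with h5 | h5
      · rcases (hp.dvd_mul).1 h5 with h5 | h5
        all_goals
          have := Nat.le_of_dvd (by norm_num) (hp.dvd_of_dvd_pow h5)
          omega
      · have := Nat.le_of_dvd (by norm_num) (hp.dvd_of_dvd_pow h5)
        omega) (by
      refine (Submodule.ne_bot_iff _).2 ⟨v, (DS.Nt.mem_Fx p).2 ?_, h0⟩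
      rintro _ ⟨_, ⟨⟨a, b⟩, ⟨ha, -⟩, rfl⟩, rfl⟩
      obtain ⟨n, rfl⟩ := (Submonoid.mem_powers_iff _ _).1 (mem_powers_iff_mem_zpowers.2 ha)
      rw [pr_apply, map_mul, DS.Nt.ad_mul, hv2]
      induction n with
      | zero => rw [pow_zero, map_one, map_one, DS.Nt.ad_one]
      | succ n ih => rw [pow_succ, map_mul, map_mul, DS.Nt.ad_mul, hv1, ih (pow_mem (mem_zpowers y) n)])
  have hsR : s ∈ centralizer (R' : Set L) := by
    rw [← hB, mem_centralizer_iff]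
    rintro _ ⟨u, rfl⟩
    exact mem_centralizer_iff.1 hs _ ⟨(1, u), ⟨one_mem _, trivial⟩, pr_r _ u⟩
  have hsy : α y * s = s * α y := mem_centralizer_iff.1 hs _ ⟨(y, 1), ⟨mem_zpowers y, trivial⟩, pr_l _ y⟩
  let ε := MonoidHom.ofInjective co.pair'.inj
  let φ : centralizer (R' : Set L) →* MulAut U := ((MulAut.congr ε.symm).toMonoidHom.comp
    (normalizerMonoidHom α.range)).comp (inclusion co.pair'.cnorm)
  have hφ : ∀ (x : centralizer (R' : Set L)) (u : U), α (φ x u) = x * α u * (x : L)⁻¹ := fun x u => by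
    have h3 : ∀ w : α.range, α (ε.symm w) = w := fun w => MonoidHom.apply_ofInjective_symm co.pair'.inj w
    exact h3 _
  have h3 := aut5 ⟨e⟩ (φ ⟨s, hsR⟩) hy (co.pair'.inj (by rw [hφ, ← hsy, mul_inv_cancel_right]))
  refine hs5 (co.pair'.cfaith _ (pow_mem hsR 5) fun u => ?_)
  have h4 := hφ (⟨s, hsR⟩ ^ 5) u
  rw [map_pow, h3, MulAut.one_apply] at h4
  exact mul_inv_eq_iff_eq_mul.1 h4.symm

theorem alt6 (big : Big) (B : Boxes) (h2 : p ≠ 2) (E : Fr8 p L) (c : Core8 τ α β R R' D) : Nonempty (R' ≃* Al 6) := by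
  have co := c.toCore
  have hs := co.simple
  obtain ⟨u, hu⟩ := exists_ne (1 : U)
  refine (B.grp big R' ⟨⟨⟨β u, co.bmem u⟩, 1, fun e => map_ne co.binj hu (congrArg Subtype.val e)⟩⟩ ?_ ?_ ?_
    (not_25 B h2 E c) (not_81 B h2 E c) (fix16 B h2 E c)).resolve_left (not_alt5 B h2 E c)
  · apply map_injective R'.subtype_injective
    rw [map_commutator, ← MonoidHom.range_eq_map, range_subtype, co.pair'.perfect]
  · refine eq_bot_iff.2 fun z hz => Subtype.ext (co.pair'.cfaith _ (mem_centralizer_iff.2 fun r hr => ?_)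
      fun w => (co.pair'.comm w _ z.2).symm)
    exact congrArg Subtype.val (mem_center_iff.1 hz ⟨r, hr⟩)
  · intro r hr hd
    have := Fact.mk hr
    obtain ⟨z, hz⟩ := exists_prime_orderOf_dvd_card' r hd
    have h3 := (iso_a B h2 E c).prime _ (mem_cent E co z.2) (by rw [ord_ι, orderOf_coe, hz]; exact hr)
    rw [ord_ι, orderOf_coe, hz] at h3
    omega

/-- **The row `E₈` in odd characteristic.** -/
theorem oddE8 (B : Boxes) : OddE8 := by
  intro big red G _ _ S H g c p _ h2 E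
  obtain ⟨U, _, _, τ, α, β, R, R', D, h, hF⟩ := B.link big red G S H g c (Mov.noMov big E)
  exact hF (alt5 B h2 E h).2 (alt6 big B h2 E h)

end Cfsg.Agent.Cam.E8O.Asm
end

-- part: Cam/E8/OA2Lin
section
/-!
# `BoxA2`, the matrix part (helper63)

* `sq2` : the symmetric square `SL₂(k) →* SL₃(k)`; `exists_psi` : it maps onto the group of a symmetric matrix;
* `not_symm` : the group of a matrix which is not symmetric has no simple subgroup of even order;
* `lin` : simple groups acting on the image of `SL₃(k)` and commuting with a graph automorphism.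
-/

set_option autoImplicit false
set_option linter.unusedVariables false
set_option linter.unusedSimpArgs false

namespace Cfsg.Agent.Cam.E8O.A2

open Matrix Subgroup
open Cfsg.Agent.H428.OT.Lin Cfsg.Agent.Cam.Ex.SL3 Cfsg.Agent.Cam.Ex.S2
open Cfsg.Agent.H402.PSL2Cls (PSL)
open scoped commutatorElement

variable {k : Type} [Field k]

section sq

/-- the matrix of the symmetric square -/
def sqM (a b c d : k) : M3 k := !![a ^ 2, 2 * a * b, b ^ 2; a * c, a * d + b * c, b * d; c ^ 2, 2 * c * d, d ^ 2]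

theorem sqM_det (a b c d : k) : (sqM a b c d).det = (a * d - b * c) ^ 3 := by
  rw [det_fin_three]
  simp only [sqM, of_apply, cons_val', cons_val_zero, cons_val_one, cons_val_two, cons_val_fin_one, head_cons, tail_cons,
    head_fin_const, empty_val']
  ring

theorem sqM_mul (a b c d a' b' c' d' : k) : sqM a b c d * sqM a' b' c' d' =
    sqM (a * a' + b * c') (a * b' + b * d') (c * a' + d * c') (c * b' + d * d') := by
  ext i j
  (revert i j; simp only [sqM, mul_apply, Fin.sum_univ_three, _root_.Fin.forall_fin_succ, _root_.Matrix.of_apply, _root_.Matrix.cons_val', _root_.Matrix.cons_val_fin_one, Fin.isValue, _root_.Matrix.cons_val_zero, _root_.Matrix.cons_val_one, _root_.Matrix.cons_val, _root_.Matrix.cons_val_succ, _root_.forall_const]) <;> (repeat' with_reducible apply And.intro) <;> ring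

theorem sqM_sc {a : k} (h : a * a = 1) : sqM a 0 0 a = 1 := by
  ext i j
  (revert i j; simp only [sqM, pow_two, h, _root_.Fin.forall_fin_succ, _root_.MulZeroClass.mul_zero, _root_.add_zero, _root_.MulZeroClass.zero_mul, _root_.Matrix.of_apply, _root_.Matrix.cons_val', _root_.Matrix.cons_val_fin_one, Fin.isValue, _root_.Matrix.cons_val_zero, _root_.Matrix.cons_val_succ, _root_.IsEmpty.forall_iff, _root_.and_true, _root_.Matrix.one_apply_eq, Nat.reduceAdd, _root_.Fin.succ_zero_eq_one, _root_.ne_eq, _root_.zero_ne_one, _root_.not_false_eq_true, _root_.Matrix.one_apply_ne, _root_.Fin.succ_one_eq_two, Fin.reduceEq, _root_.and_self, _root_.Fin.succ_ne_zero, _root_.true_and])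

/-- the symmetric square -/
def sq2 : SL k →* S3 k := MonoidHom.mk'
  (fun A => ⟨sqM (A.1 0 0) (A.1 0 1) (A.1 1 0) (A.1 1 1), by rw [sqM_det, det_e, one_pow]⟩) fun A B => by
    apply slext
    show sqM _ _ _ _ = sqM _ _ _ _ * sqM _ _ _ _
    rw [sqM_mul, mul_e, mul_e, mul_e, mul_e]

theorem coe_sq2 (A : SL k) : (sq2 A : M3 k) = sqM (A.1 0 0) (A.1 0 1) (A.1 1 0) (A.1 1 1) := rfl

theorem sq2_ck : CK (sq2 (k := k)) := by
  intro A h
  have h1 : sqM (A.1 0 0) (A.1 0 1) (A.1 1 0) (A.1 1 1) = 1 := congrArg (fun X : S3 k => (X : M3 k)) h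
  have e02 : A.1 0 1 ^ 2 = 0 := congrFun (congrFun h1 0) 2
  have e20 : A.1 1 0 ^ 2 = 0 := congrFun (congrFun h1 2) 0
  have e00 : A.1 0 0 ^ 2 = 1 := congrFun (congrFun h1 0) 0
  have hb := pow_eq_zero_iff two_ne_zero |>.1 e02
  have hc := pow_eq_zero_iff two_ne_zero |>.1 e20
  have hd := det_e A
  rw [hb, zero_mul, sub_zero] at hd
  exact mem_center_iff'.2 ⟨hb, hc, by linear_combination A.1 1 1 * e00 - A.1 0 0 * hd⟩

theorem sq2_center {A : SL k} (h : A ∈ center (SL k)) : sq2 A = 1 := by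
  obtain ⟨h1, h2, h3⟩ := mem_center_iff'.1 h
  apply slext
  rw [coe_sq2, h1, h2, ← h3, sqM_sc (center_sq h), cone]

/-- the Gram matrix of `2 (x z - y ^ 2)` -/
def G0 (k : Type) [Field k] : M3 k := !![0, 0, 1; 0, -2, 0; 1, 0, 0]

theorem iso_vec [IsAlgClosed k] {x y z : k} (h : x * z = y ^ 2) : ∃ a c : k, a ^ 2 = x ∧ a * c = y ∧ c ^ 2 = z := by
  obtain ⟨a, ha⟩ := IsAlgClosed.exists_pow_nat_eq x two_pos
  obtain ⟨c, hc⟩ := IsAlgClosed.exists_pow_nat_eq z two_pos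
  have h1 : (a * c) ^ 2 = y ^ 2 := by rw [mul_pow, ha, hc, h]
  rcases sq_eq_sq_iff_eq_or_eq_neg.1 h1 with h2 | h2
  · exact ⟨a, c, ha, h2, hc⟩
  · exact ⟨a, -c, ha, by rw [mul_neg, h2, neg_neg], by rw [neg_sq, hc]⟩

theorem sq2_surj [IsAlgClosed k] (h2 : (2 : k) ≠ 0) {g : S3 k} (h : (g : M3 k)ᵀ * G0 k * g = G0 k) : ∃ A, sq2 A = g := by
  have e : ∀ i j, g.1 0 i * g.1 2 j + g.1 2 i * g.1 0 j - 2 * (g.1 1 i * g.1 1 j) = G0 k i j := by
    intro i j
    rw [← h]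
    simp only [G0, mul_apply, Fin.sum_univ_three, _root_.Fin.isValue, _root_.Matrix.transpose_apply, _root_.Matrix.of_apply, _root_.Matrix.cons_val', _root_.Matrix.cons_val_fin_one, _root_.Matrix.cons_val_zero, _root_.Matrix.cons_val_one, _root_.Matrix.cons_val, _root_.MulZeroClass.mul_zero, _root_.add_zero, _root_.mul_one, _root_.zero_add, _root_.mul_neg, _root_.neg_mul]
    ring
  have e00 : _ = (0 : k) := e 0 0
  have e22 : _ = (0 : k) := e 2 2
  have e02 : _ = (1 : k) := e 0 2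
  have e01 : _ = (0 : k) := e 0 1
  have e21 : _ = (0 : k) := e 2 1
  have hd : g.1.det = 1 := g.2
  rw [det_fin_three] at hd
  obtain ⟨a, c, a0, a1, a2⟩ := iso_vec (x := g.1 0 0) (y := g.1 1 0) (z := g.1 2 0)
    (mul_left_cancel₀ h2 (by linear_combination e00))
  have key : ∃ b d : k, b ^ 2 = g.1 0 2 ∧ b * d = g.1 1 2 ∧ d ^ 2 = g.1 2 2 ∧ a * d - b * c = 1 := by
    obtain ⟨b, d, b0, b1, b2⟩ := iso_vec (x := g.1 0 2) (y := g.1 1 2) (z := g.1 2 2)
      (mul_left_cancel₀ h2 (by linear_combination e22))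
    have h1 : (a * d - b * c) ^ 2 = 1 ^ 2 := by
      rw [← a0, ← a1, ← a2, ← b0, ← b1, ← b2] at e02
      linear_combination e02
    rcases sq_eq_sq_iff_eq_or_eq_neg.1 h1 with h3 | h3
    · exact ⟨b, d, b0, b1, b2, h3⟩
    · exact ⟨-b, -d, by rw [neg_sq, b0], by rw [neg_mul_neg, b1], by rw [neg_sq, b2], by linear_combination -h3⟩
  obtain ⟨b, d, b0, b1, b2, h1⟩ := key
  rw [← a0, ← a1, ← a2] at e01
  rw [← b0, ← b1, ← b2] at e21
  rw [← a0, ← a1, ← a2, ← b0, ← b1, ← b2] at hd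
  have e3 : -(c * d) * g.1 0 1 + (a * d + b * c) * g.1 1 1 - a * b * g.1 2 1 = 1 := by
    linear_combination hd - (-(c * d) * g.1 0 1 + (a * d + b * c) * g.1 1 1 - a * b * g.1 2 1) * h1
  refine ⟨⟨!![a, b; c, d], by rw [det_fin_two_of, h1]⟩, slext ?_⟩
  show sqM a b c d = g.1
  ext i j
  fin_cases i <;> fin_cases j
  · exact a0
  · show 2 * a * b = g.1 0 1
    linear_combination (-(a ^ 2)) * e21 - 2 * a * b * e3 - b ^ 2 * e01 + g.1 0 1 * (a * d - b * c + 1) * h1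
  · exact b0
  · exact a1
  · show a * d + b * c = g.1 1 1
    linear_combination (-(a * c)) * e21 - (a * d + b * c) * e3 - b * d * e01 + g.1 1 1 * (a * d - b * c + 1) * h1
  · exact b1
  · exact a2
  · show 2 * c * d = g.1 2 1
    linear_combination (-(c ^ 2)) * e21 - 2 * c * d * e3 - d ^ 2 * e01 + g.1 2 1 * (a * d - b * c + 1) * h1
  · exact b2

/-- the normal form of a symmetric matrix -/
theorem exists_nf [IsAlgClosed k] (h2 : (2 : k) ≠ 0) {G : M3 k} (hs : Gᵀ = G) (hd : G.det ≠ 0) :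
    ∃ P : GL (Fin 3) k, (P : M3 k)ᵀ * G * P = G0 k := by
  obtain ⟨B, e, h⟩ := exists_diag_of_symm h2 hs
  have h1 := congrArg det h
  rw [det_mul, det_mul, det_transpose, B.det_coe, one_mul, mul_one, det_diagonal, Fin.prod_univ_three] at h1
  rw [h1] at hd
  have e0 : e 0 ≠ 0 := left_ne_zero_of_mul (left_ne_zero_of_mul hd)
  have e1 : e 1 ≠ 0 := right_ne_zero_of_mul (left_ne_zero_of_mul hd)
  have e2 : e 2 ≠ 0 := right_ne_zero_of_mul hd
  obtain ⟨α, hα⟩ := IsAlgClosed.exists_pow_nat_eq ((2 * e 0)⁻¹) two_pos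
  obtain ⟨β, hβ⟩ := IsAlgClosed.exists_pow_nat_eq (-(2 * e 2)⁻¹) two_pos
  obtain ⟨t, ht⟩ := IsAlgClosed.exists_pow_nat_eq (-2 * (e 1)⁻¹) two_pos
  have a0 : e 0 * α ^ 2 = 2⁻¹ := by rw [hα]; field_simp
  have a2 : e 2 * β ^ 2 = -2⁻¹ := by rw [hβ]; field_simp
  have a1 : e 1 * t ^ 2 = -2 := by rw [ht]; field_simp
  have a3 : (2 : k) * 2⁻¹ = 1 := mul_inv_cancel₀ h2
  let N : M3 k := !![α, 0, α; 0, t, 0; β, 0, -β]
  have h3 : Nᵀ * diagonal e * N = G0 k := by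
    ext i j
    fin_cases i <;> fin_cases j <;> simp only [N, G0, mul_apply, Fin.sum_univ_three, diagonal_apply, _root_.Fin.zero_eta, _root_.Fin.isValue, _root_.Matrix.transpose_apply, _root_.Matrix.of_apply, _root_.Matrix.cons_val', _root_.Matrix.cons_val_zero, _root_.Matrix.cons_val_fin_one, _root_.mul_ite, _root_.MulZeroClass.mul_zero, _root_.Finset.sum_ite_eq', _root_.Finset.mem_univ, ↓ _root_.reduceIte, _root_.Matrix.cons_val_one, _root_.MulZeroClass.zero_mul, _root_.add_zero, _root_.Matrix.cons_val, _root_.Fin.mk_one, _root_.Fin.reduceFinMk, _root_.mul_neg, _root_.zero_add, _root_.neg_zero, _root_.neg_mul, _root_.neg_neg]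
    · linear_combination a0 + a2
    · linear_combination a0 - a2 + a3
    · linear_combination a1
    · linear_combination a0 - a2 + a3
    · linear_combination a0 + a2
  have h4 : ((B : M3 k)ᵀ * N)ᵀ * G * ((B : M3 k)ᵀ * N) = G0 k := by
    rw [← h3, ← h, transpose_mul, transpose_transpose]
    simp only [mul_assoc]
  have h5 : ((B : M3 k)ᵀ * N).det ≠ 0 := by
    intro h5
    have h6 := congrArg det h4
    rw [det_mul, h5, mul_zero, det_fin_three] at h6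
    simp [G0] at h6
    exact h2 h6.symm
  exact ⟨Matrix.GeneralLinearGroup.mkOfDetNeZero _ h5, h4⟩

/-- **The group of a symmetric matrix.** -/
theorem exists_psi [IsAlgClosed k] (h2 : (2 : k) ≠ 0) {G : M3 k} (hs : Gᵀ = G) (hd : G.det ≠ 0) :
    ∃ ψ : SL k →* S3 k, CK ψ ∧ (∀ A ∈ center (SL k), ψ A = 1) ∧ ∀ g : S3 k, (g : M3 k)ᵀ * G * g = G → ∃ A, ψ A = g := by
  obtain ⟨P, h⟩ := exists_nf h2 hs hd
  refine ⟨(cjS P).comp sq2, fun A hA => sq2_ck A ?_, fun A hA => ?_, fun g hg => ?_⟩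
  · have h1 : cjS P⁻¹ (cjS P (sq2 A)) = cjS P⁻¹ 1 := congrArg (cjS P⁻¹) hA
    rwa [← cjS_mul, inv_mul_cancel, cjS_one, map_one] at h1
  · rw [MonoidHom.comp_apply, sq2_center hA, map_one]
  · obtain ⟨A, hA⟩ := sq2_surj h2 (g := cjS P⁻¹ g) (by
      rw [coe_cjS, inv_inv, ← h, transpose_mul, transpose_mul]
      calc _ = (P : M3 k)ᵀ * ((g : M3 k)ᵀ * (((P : M3 k) * ((P⁻¹ : GL (Fin 3) k) : M3 k))ᵀ * G *
            ((P : M3 k) * ((P⁻¹ : GL (Fin 3) k) : M3 k))) * g) * P := by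
            rw [transpose_mul]; simp only [mul_assoc]
        _ = _ := by rw [gl_mul_inv, transpose_one, one_mul, mul_one, hg])
    exact ⟨A, by rw [MonoidHom.comp_apply, hA, ← cjS_mul, mul_inv_cancel, cjS_one]⟩

end sq

section two

theorem tr_of_pow (p : ℕ) [Fact p.Prime] [CharP k p] {j : SL k} (h : j ^ p = 1) : tr j = 2 := by
  have h1 : IsNilpotent (j.1 - 1) := ⟨p, by
    rw [sub_pow_char_of_commute _ (Commute.one_right _), one_pow, sub_eq_zero]
    exact congrArg Subtype.val h⟩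
  have h2 := (isNilpotent_trace_of_isNilpotent h1).eq_zero
  rw [trace_sub, trace_one, trace_fin_two, Fintype.card_fin] at h2
  rw [tr]
  push_cast at h2
  linear_combination h2

theorem center_of_unip (h2 : (2 : k) ≠ 0) {i j : SL k} (hj : tr j = 2) (hi : i * i ∈ center (SL k))
    (hi0 : i ∉ center (SL k)) (h : ⁅i, j⁆ ∈ center (SL k)) : j ∈ center (SL k) := by
  have hc := comm_of_tr hj h
  have c00 := congrArg (fun x : SL k => x.1 0 0) hc
  have c01 := congrArg (fun x : SL k => x.1 0 1) hc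
  have c10 := congrArg (fun x : SL k => x.1 1 0) hc
  obtain ⟨s1, s2, s3⟩ := mem_center_iff'.1 hi
  simp only [mul_e] at c00 c01 c10 s1 s2 s3
  have di := det_e i
  have dj := det_e j
  rw [tr] at hj
  have ht : i.1 0 0 + i.1 1 1 = 0 := by
    by_contra ht
    exact hi0 (mem_center_iff'.2 ⟨mul_left_cancel₀ ht (by linear_combination s1),
      mul_left_cancel₀ ht (by linear_combination s2), mul_left_cancel₀ ht (by linear_combination s3)⟩)
  have e1 : i.1 1 1 = -i.1 0 0 := by linear_combination ht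
  have e2 : j.1 1 1 = 2 - j.1 0 0 := by linear_combination hj
  rw [e1] at c01 c10 di
  rw [e2] at c01 c10 dj
  have d01 : i.1 0 0 * j.1 0 1 = i.1 0 1 * (j.1 0 0 - 1) := mul_left_cancel₀ h2 (by linear_combination c01)
  have d10 : i.1 0 0 * j.1 1 0 = i.1 1 0 * (j.1 0 0 - 1) := mul_left_cancel₀ h2 (by linear_combination -c10)
  have f01 : j.1 0 1 ^ 2 = 0 := by
    linear_combination (-(j.1 0 1) ^ 2) * di - (i.1 0 0 * j.1 0 1 + i.1 0 1 * (j.1 0 0 - 1)) * d01 +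
      (i.1 0 1) ^ 2 * dj + i.1 0 1 * j.1 0 1 * c00
  have f10 : j.1 1 0 ^ 2 = 0 := by
    linear_combination (-(j.1 1 0) ^ 2) * di - (i.1 0 0 * j.1 1 0 + i.1 1 0 * (j.1 0 0 - 1)) * d10 +
      (i.1 1 0) ^ 2 * dj - i.1 1 0 * j.1 1 0 * c00
  have g01 := pow_eq_zero_iff two_ne_zero |>.1 f01
  have g10 := pow_eq_zero_iff two_ne_zero |>.1 f10
  have f00 : (j.1 0 0 - 1) ^ 2 = 0 := by linear_combination -dj - j.1 1 0 * g01
  have g00 := pow_eq_zero_iff two_ne_zero |>.1 f00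
  exact mem_center_iff'.2 ⟨g01, g10, by linear_combination 2 * g00 - e2⟩

/-- unipotent elements of the image commuting with an involution -/
theorem eq_one_of_pow (p : ℕ) [Fact p.Prime] [CharP k p] (hp : p ≠ 2) {Y : Type} [Group Y] {ψ : SL k →* Y} (h : CK ψ)
    (hz : ∀ A ∈ center (SL k), ψ A = 1) {i j : SL k} (hj : ψ j ^ p = 1) (hi : ψ i * ψ i = 1) (hi0 : ψ i ≠ 1)
    (hc : ψ j * ψ i = ψ i * ψ j) : ψ j = 1 := by
  have h2 : (2 : k) ≠ 0 := fun e => hp ((Nat.prime_dvd_prime_iff_eq Fact.out Nat.prime_two).1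
    ((CharP.cast_eq_zero_iff k p 2).1 (by exact_mod_cast e)))
  have h1 : j ^ p ∈ center (SL k) := h _ (by rw [map_pow, hj])
  have h3 : ψ (j ^ p * j) = ψ j := by rw [map_mul, hz _ h1, one_mul]
  obtain ⟨m, hm⟩ := (Fact.out : p.Prime).odd_of_ne_two hp
  have h4 : (j ^ p * j) ^ p = 1 := by
    rw [← pow_succ, ← pow_mul, mul_comm, pow_mul, show p + 1 = 2 * (m + 1) by omega, pow_mul, pow_two,
      center_mul_self h1, one_pow]
  rw [← h3]
  exact hz _ (center_of_unip h2 (i := i) (tr_of_pow p h4) (h _ (by rw [map_mul, hi])) (fun e => hi0 (hz _ e))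
    (h.cmt (by rw [h3, hc])))

end two

section alt

theorem cramer (v y a n : Fin 3 → k) : ((v ⨯₃ y) ⬝ᵥ a) • n =
    ((n ⨯₃ y) ⬝ᵥ a) • v + ((v ⨯₃ n) ⬝ᵥ a) • y + ((v ⨯₃ y) ⬝ᵥ n) • a := by
  funext i
  (revert i; simp only [cross_apply, dotProduct, Fin.sum_univ_three, _root_.Fin.forall_fin_succ, _root_.Nat.succ_eq_add_one, Nat.reduceAdd, Fin.isValue, _root_.Matrix.cons_val_zero, _root_.Matrix.cons_val_one, _root_.Matrix.cons_val, _root_.Pi.smul_apply, _root_.smul_eq_mul, _root_.Pi.add_apply, _root_.Fin.succ_zero_eq_one, _root_.Fin.succ_one_eq_two, _root_.IsEmpty.forall_iff, _root_.and_true]) <;> (repeat' with_reducible apply And.intro) <;> ring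

theorem ext_vec {X Z : M3 k} (h : ∀ t, X *ᵥ t = Z *ᵥ t) : X = Z := by
  ext i j
  have h3 := congrFun (h (Pi.single j 1)) i
  rwa [mulVec_single_one, mulVec_single_one] at h3

/-- the fixed space of an involution is a line -/
theorem cross_of_invol (h2 : (2 : k) ≠ 0) {X : S3 k} (hX : X * X = 1) (h1 : X ≠ 1) {v y : Fin 3 → k}
    (hv : (X : M3 k) *ᵥ v = v) (hy : (X : M3 k) *ᵥ y = y) : v ⨯₃ y = 0 := by
  by_contra h
  obtain ⟨i, hi⟩ := Function.ne_iff.1 h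
  have h3 := cross_mulVec (X : M3 k) v y
  rw [X.det_coe, one_smul, hv, hy] at h3
  refine h1 (slext (ext_vec fun t => ?_))
  have h4 : (X : M3 k) *ᵥ (t - (X : M3 k) *ᵥ t) = -(t - (X : M3 k) *ᵥ t) := by
    rw [mulVec_sub, mulVec_mulVec, ← cmul, hX, cone, one_mulVec, neg_sub]
  have h5 : (v ⨯₃ y) ⬝ᵥ (t - (X : M3 k) *ᵥ t) = 0 := by rw [dotProduct_sub, dot_mulVec, h3, sub_self]
  have h6 := cramer v y (Pi.single i 1) (t - (X : M3 k) *ᵥ t)
  rw [h5, zero_smul, add_zero, dotProduct_single, mul_one] at h6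
  have h7 := congrArg (fun z => (X : M3 k) *ᵥ z) h6
  simp only [mulVec_add, mulVec_smul, hv, hy] at h7
  rw [← h6, h4, smul_neg, neg_eq_iff_add_eq_zero, ← two_smul k, smul_smul, smul_eq_zero] at h7
  rw [cone, one_mulVec]
  exact (sub_eq_zero.1 (h7.resolve_left (mul_ne_zero h2 hi))).symm

/-- an involution in a group with a fixed vector and a fixed functional is central -/
theorem comm_of_pair (h2 : (2 : k) ≠ 0) {R : Subgroup (S3 k)} {v w : Fin 3 → k} (hv : Fv R v) (hw : Fw R w)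
    (h1 : w ⬝ᵥ v ≠ 0) {X : S3 k} (hXR : X ∈ R) (hX : X * X = 1) {g : S3 k} (hg : g ∈ R) : g * X = X * g := by
  by_cases h0 : X = 1
  · rw [h0, mul_one, one_mul]
  have hv0 : v ≠ 0 := by
    rintro rfl
    exact h1 (dotProduct_zero _)
  have h3 : ∀ t, (X : M3 k) *ᵥ t = (2 * (w ⬝ᵥ t) * (w ⬝ᵥ v)⁻¹) • v - t := by
    intro t
    obtain ⟨s, hs⟩ := par hv0 (cross_of_invol h2 hX h0 (hv X hXR) (y := (X : M3 k) *ᵥ t + t) (by
      rw [mulVec_add, mulVec_mulVec, ← cmul, hX, cone, one_mulVec, add_comm]))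
    have h4 := congrArg (fun z => w ⬝ᵥ z) hs
    simp only [dotProduct_add, dotProduct_smul, smul_eq_mul] at h4
    rw [dot_mulVec, hw X hXR] at h4
    rw [eq_sub_iff_add_eq, hs]
    congr 1
    rw [eq_mul_inv_iff_mul_eq₀ h1]
    linear_combination -h4
  refine slext (ext_vec fun t => ?_)
  rw [cmul, cmul, ← mulVec_mulVec, ← mulVec_mulVec, h3, h3, mulVec_sub, mulVec_smul, hv g hg, dot_mulVec, hw g hg]

/-- **The group of a matrix which is not symmetric.** -/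
theorem not_symm (h2 : (2 : k) ≠ 0) {G : M3 k} (hs : Gᵀ ≠ G) (hd : G.det ≠ 0) {R : Subgroup (S3 k)} (hR : R ≤ ⁅R, R⁆)
    (h1 : ∀ g ∈ R, (g : M3 k)ᵀ * G * g = G) {X : S3 k} (hXR : X ∈ R) (hX : X * X = 1) {g : S3 k} (hg : g ∈ R) :
    g * X = X * g := by
  have h3 : G - Gᵀ = Xm ![G 1 2 - G 2 1, G 2 0 - G 0 2, G 0 1 - G 1 0] := by
    ext i j
    (revert i j; simp only [Xm, _root_.Fin.forall_fin_succ, _root_.Matrix.sub_apply, _root_.Matrix.transpose_apply, Fin.isValue, _root_.Matrix.cons_val, _root_.Matrix.cons_val_one, _root_.Matrix.cons_val_zero, _root_.neg_sub, _root_.Matrix.of_apply, _root_.Matrix.cons_val', _root_.Matrix.cons_val_fin_one, _root_.Matrix.cons_val_succ, _root_.Fin.succ_zero_eq_one, _root_.Fin.succ_one_eq_two, _root_.IsEmpty.forall_iff, _root_.and_true, _root_.sub_self, _root_.and_self])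
  obtain ⟨v, hv0, hv⟩ : ∃ v, v ≠ 0 ∧ Fv R v := by
    refine ⟨![G 1 2 - G 2 1, G 2 0 - G 0 2, G 0 1 - G 1 0], fun h4 => hs ?_, fun g hg => ?_⟩
    · rw [h4] at h3
      refine (sub_eq_zero.1 (h3.trans ?_)).symm
      ext i j
      (revert i j; simp only [Xm, _root_.Fin.forall_fin_succ, _root_.Pi.zero_apply, _root_.neg_zero, _root_.Matrix.of_apply, _root_.Matrix.cons_val', _root_.Matrix.cons_val_fin_one, _root_.Matrix.zero_apply, Fin.isValue, _root_.Matrix.cons_val_zero, _root_.Matrix.cons_val_succ, _root_.forall_const, _root_.and_self, _root_.implies_true])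
    · have h4 : (g : M3 k)ᵀ * (G - Gᵀ) * g = G - Gᵀ := by
        have h5 := congrArg transpose (h1 g hg)
        rw [transpose_mul, transpose_mul, transpose_transpose, ← mul_assoc] at h5
        rw [mul_sub, sub_mul, h1 g hg, h5]
      rw [h3, Xm_conj] at h4
      conv_lhs => rw [← Xm_inj h4]
      rw [mulVec_mulVec, mul_adjugate, g.det_coe, one_smul, one_mulVec]
  have hw : Fw R (G *ᵥ v) := fun g hg => by
    conv_lhs => rw [← hv g hg]
    rw [mulVec_mulVec, mulVec_mulVec, h1 g hg]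
  by_cases h4 : (G *ᵥ v) ⬝ᵥ v = 0
  · have h5 := eq_bot hR hv hv0 hw (fun h6 => hv0 (mulVec_inj hd (by rw [h6, mulVec_zero]))) h4
    rw [h5, mem_bot] at hg
    rw [hg, mul_one, one_mul]
  · exact comm_of_pair h2 hv hw h4 hXR hX hg

end alt

section main

theorem center_cube {z : S3 k} (h : z ∈ center (S3 k)) : z ^ 3 = 1 := by
  obtain ⟨r, hr, e⟩ := Matrix.SpecialLinearGroup.mem_center_iff.1 h
  apply slext
  rw [Fintype.card_fin] at hr
  show (z : M3 k) ^ 3 = 1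
  rw [← e, ← map_pow, hr, map_one]

theorem tau_center (H : GL (Fin 3) k) {z : S3 k} (h : z ∈ center (S3 k)) : cjS H (ti z) = z⁻¹ := by
  obtain ⟨r, hr, e⟩ := Matrix.SpecialLinearGroup.mem_center_iff.1 (inv_mem h)
  apply slext
  rw [coe_cjS, coe_ti, ← e, scalar_apply, diagonal_transpose, ← scalar_apply,
    ← (scalar_commute r (fun _ => Commute.all _ _) _).eq, mul_assoc, gl_mul_inv, mul_one]

theorem form_of_fix {H : GL (Fin 3) k} {g : S3 k} (h : cjS H (ti g) = g) :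
    (g : M3 k)ᵀ * ((H⁻¹ : GL (Fin 3) k) : M3 k) * g = ((H⁻¹ : GL (Fin 3) k) : M3 k) := by
  have h2 : (g : M3 k) = H * ((g⁻¹ : S3 k) : M3 k)ᵀ * ((H⁻¹ : GL (Fin 3) k) : M3 k) :=
    (congrArg (fun A : S3 k => (A : M3 k)) h).symm
  conv_lhs => rhs; rw [h2]
  rw [← mul_assoc, ← mul_assoc, mul_assoc _ ((H⁻¹ : GL (Fin 3) k) : M3 k), gl_inv_mul, mul_one, ← transpose_mul, ← cmul,
    inv_mul_cancel, cone, transpose_one, one_mul]

variable {Y : Type} [Group Y] {π : S3 k →* Y} (hker : π.ker ≤ center (S3 k)) {g : Y} {H : GL (Fin 3) k}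

variable (π H) in
/-- `C` is the representative of `c` -/
def Rp (C : S3 k) (c : Y) : Prop := cjS H (ti C) = C ∧ Ac π C c

theorem Rp.one : Rp π H 1 1 := ⟨by rw [map_one, map_one], Ac.one⟩

theorem Rp.mul {C C' : S3 k} {c c' : Y} (h : Rp π H C c) (h' : Rp π H C' c') : Rp π H (C * C') (c * c') :=
  ⟨by rw [map_mul, map_mul, h.1, h'.1], h.2.mul h'.2⟩

theorem Rp.inv {C : S3 k} {c : Y} (h : Rp π H C c) : Rp π H C⁻¹ c⁻¹ := ⟨by rw [map_inv, map_inv, h.1], h.2.inv⟩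

theorem Rp.pow {C : S3 k} {c : Y} (h : Rp π H C c) (n : ℕ) : Rp π H (C ^ n) (c ^ n) := by
  induction n with
  | zero => rw [pow_zero, pow_zero]; exact Rp.one
  | succ n ih => rw [pow_succ, pow_succ]; exact ih.mul h

include hker

theorem Rp.eq {C C' : S3 k} {c : Y} (h : Rp π H C c) (h' : Rp π H C' c) : C = C' := by
  have h1 := Ac.center hker h.2 h'.2
  have h2 := tau_center H h1
  rw [map_mul, map_mul, map_inv, map_inv, h.1, h'.1, eq_inv_iff_mul_eq_one] at h2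
  have h3 := center_cube h1
  rw [pow_succ, pow_two, h2, one_mul] at h3
  exact mul_inv_eq_one.1 h3

theorem exists_rp (hg : ActT π g H) {C : S3 k} {c : Y} (h : Ac π C c) (hc : c * g = g * c) : ∃ C', Rp π H C' c := by
  have h1 : cjS H (ti C) * C⁻¹ ∈ center (S3 k) := by
    refine Ac.center hker (fun X => ?_) h
    obtain ⟨X, rfl⟩ := ((cjS_surj H).comp ti_surj) X
    show π (cjS H (ti C) * cjS H (ti X) * (cjS H (ti C))⁻¹) = c * π (cjS H (ti X)) * c⁻¹
    rw [← map_inv, ← map_inv, ← map_mul, ← map_mul, ← map_mul, ← map_mul, ← hg, ← hg, h X]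
    calc g * (c * π X * c⁻¹) * g⁻¹ = (g * c) * π X * (g * c)⁻¹ := by group
      _ = _ := by rw [← hc]; group
  obtain ⟨z, hz, e⟩ : ∃ z ∈ center (S3 k), cjS H (ti C) = z * C := ⟨_, h1, by group⟩
  have h3 := center_cube hz
  refine ⟨z⁻¹ * C, ?_, fun X => ?_⟩
  · rw [map_mul, map_mul, tau_center H (inv_mem hz), inv_inv, e, ← mul_assoc]
    congr 1
    rw [eq_inv_iff_mul_eq_one, ← pow_three', h3]
  · rw [← h X]
    (with_reducible congr 1)
    rw [show z⁻¹ * C * X * (z⁻¹ * C)⁻¹ = z⁻¹ * (C * X * C⁻¹ * z) by group, mem_center_iff.1 hz, inv_mul_cancel_left]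

/-- **The matrix part of `BoxA2`.** -/
theorem lin [IsAlgClosed k] (p : ℕ) [Fact p.Prime] [CharP k p] (hp : p ≠ 2) (hg : ActT π g H) {U : Type} [Group U]
    (hs : IsSimpleGroup U) (hc : ¬ IsMulCommutative U) (hx : ∃ x : U, orderOf x = 2) (a : U →* Y)
    (hag : ∀ u, a u * g = g * a u) (hac : ∀ u, ∃ X, Ac π X (a u)) (hn : ¬ ∀ u X, a u * π X = π X * a u) :
    (∃ f : U →* PSL k, Function.Injective f) ∧ ∀ c : Y, (∃ C, Ac π C c) → c * g = g * c → c ^ p = 1 →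
      (∀ u, c * a u * c⁻¹ ∈ a.range) → ∀ x, orderOf x = 2 → c * a x = a x * c → ∀ u, c * a u = a u * c := by
  have h2 : (2 : k) ≠ 0 := fun e => hp ((Nat.prime_dvd_prime_iff_eq Fact.out Nat.prime_two).1
    ((CharP.cast_eq_zero_iff k p 2).1 (by exact_mod_cast e)))
  have h1 : ∀ u, ∃ X, Rp π H X (a u) := fun u => by
    obtain ⟨X, hX⟩ := hac u
    exact exists_rp hker hg hX (hag u)
  choose r hr using h1
  let ρ : U →* S3 k := MonoidHom.mk' r fun u v => (hr (u * v)).eq hker (by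
    rw [map_mul]
    exact (hr u).mul (hr v))
  have hρ : ∀ u, Rp π H (ρ u) (a u) := hr
  have hinj : Function.Injective ρ := by
    refine ρ.ker_eq_bot_iff.1 ((ρ.normal_ker.eq_bot_or_eq_top).resolve_right fun h => hn fun u X => ?_)
    have h3 : ρ u = 1 := show u ∈ ρ.ker by rw [h]; trivial
    have h4 := (hρ u).2 X
    rw [h3, one_mul, inv_one, mul_one, eq_mul_inv_iff_mul_eq] at h4
    exact h4.symm
  have hcen : ∀ x : U, (∀ u, u * x = x * u) → x = 1 := fun x h =>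
    mem_bot.1 (((inferInstance : (center U).Normal).eq_bot_or_eq_top.resolve_right fun e => hc ⟨⟨fun u v =>
      mem_center_iff.1 (show v ∈ center U by rw [e]; trivial) u⟩⟩) ▸ mem_center_iff.2 h)
  have hsq : ∀ x : U, orderOf x = 2 → ρ x * ρ x = 1 ∧ x ≠ 1 := fun x h => ⟨by
    rw [← map_mul, ← pow_two, ← h, pow_orderOf_eq_one, map_one], fun e => by
    rw [e, orderOf_one] at h
    exact absurd h (by decide)⟩
  have hd : ((H⁻¹ : GL (Fin 3) k) : M3 k).det ≠ 0 := det_ne H⁻¹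
  have hsym : ((H⁻¹ : GL (Fin 3) k) : M3 k)ᵀ = ((H⁻¹ : GL (Fin 3) k) : M3 k) := by
    by_contra hsym
    obtain ⟨x, hx⟩ := hx
    have h3 : ⁅(⊤ : Subgroup U), (⊤ : Subgroup U)⁆ = ⊤ :=
      (inferInstance : (⁅(⊤ : Subgroup U), (⊤ : Subgroup U)⁆).Normal).eq_bot_or_eq_top.resolve_left fun e =>
        hc ⟨⟨fun u v => commutatorElement_eq_one_iff_mul_comm.1
          (mem_bot.1 (e ▸ commutator_mem_commutator (mem_top u) (mem_top v)))⟩⟩
    refine (hsq x hx).2 (hcen x fun u => hinj ?_)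
    rw [map_mul, map_mul]
    exact not_symm h2 hsym hd (R := (⊤ : Subgroup U).map ρ) (by rw [← map_commutator, h3]) (by
      rintro _ ⟨v, -, rfl⟩
      exact form_of_fix (hρ v).1) ⟨x, trivial, rfl⟩ (hsq x hx).1 ⟨u, trivial, rfl⟩
  obtain ⟨ψ, k1, k2, k3⟩ := exists_psi h2 hsym hd
  have k4 : ∀ u, ∃ j, ψ j = ρ u := fun u => k3 _ (form_of_fix (hρ u).1)
  refine ⟨Cam.Odd.Grp.exists_inj hs ψ ρ k1 (fun u => ?_) ?_, ?_⟩
  · obtain ⟨j, hj⟩ := k4 u
    exact ⟨j, hj ▸ DS.Nt.JL.Inn.self j⟩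
  · obtain ⟨x, hx⟩ := hx
    refine ⟨x, fun h => (hsq x hx).2 (hcen x fun u => hinj ?_)⟩
    obtain ⟨j, hj⟩ := k4 u
    rw [map_mul, map_mul, ← hj, h j]
  · rintro c ⟨C, hC⟩ hcg hcp hcn x hx hcx u
    obtain ⟨C, hC⟩ := exists_rp hker hg hC hcg
    obtain ⟨j, rfl⟩ := k3 _ (form_of_fix hC.1)
    obtain ⟨i, hi⟩ := k4 x
    have h3 : ψ j = 1 := eq_one_of_pow p hp k1 k2 (i := i) ((hC.pow p).eq hker (hcp ▸ Rp.one)) (hi ▸ (hsq x hx).1)
      (fun e => (hsq x hx).2 (hinj (by rw [← hi, e, map_one])))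
      (by rw [hi]; exact (hC.mul (hρ x)).eq hker (hcx ▸ (hρ x).mul hC))
    obtain ⟨u', hu'⟩ := hcn u
    have h4 := ((hC.mul (hρ u)).mul hC.inv).eq hker (hu' ▸ hρ u')
    rw [h3, one_mul, inv_one, mul_one] at h4
    rw [← hinj h4, eq_mul_inv_iff_mul_eq] at hu'
    exact hu'.symm

end main

end Cfsg.Agent.Cam.E8O.A2
end

-- part: Cam/E8/OA2
section
/-!
# `BoxA2` (helper63)

* `gen` : the centralizer of a torus element of order three with a component `A₂`, simply laced types;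
* `om_of_dd` : the class 3B; `a2c` : its component `A₂`; `count` : involutions centralizing the component;
* `boxA2 : BoxA2`.
-/

set_option autoImplicit false
set_option linter.unusedVariables false
set_option linter.unusedSectionVars false

namespace Cfsg.Agent.Cam.E8O.A2

open CoxeterSystem Cfsg Cfsg.Lie Subgroup Module
open Cfsg.Agent.ChevalleyStructure.CoxeterGeom Cfsg.Agent.ChevalleyStructure.CoxeterGeomTypes
open Cfsg.Agent.Tits.Roots Cfsg.Agent.Nodes.BNOf Cfsg.Agent.Nodes.RGDChev Cfsg.Agent.Nodes.Coroot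
open Cfsg.Agent.KFacts.RgdChevCoord
open Cfsg.Agent.H428.OT.Lin Cfsg.Agent.Cam.Ex Cfsg.Agent.Cam.Ex.SL3
open Cfsg.Agent.H402.PSL2Cls (PSL)
open Cfsg.Agent.DS.Nt (RP DZ Mz Std Om OmF Tp dd Fx nri)
open Cfsg.Agent.H129.TorusChar (cX isMC_cX cX_inj cX_mul cX_one)
open Cfsg.Agent.H931.KC (Kac hr psi)

section abs

variable {Y U : Type} [Group Y] [Group U]

/-- the clause on the `p`-elements -/
def Cl (p : ℕ) (z g : Y) (a : U →* Y) : Prop := ∀ c : Y, c * z = z * c → c * g = g * c → c ^ p = 1 →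
  (∀ u, c * a u * c⁻¹ ∈ a.range) → ∀ x, orderOf x = 2 → c * a x = a x * c → ∀ u, c * a u = a u * c

theorem Cl.of_equiv {p : ℕ} {z g : Y} {a : U →* Y} (φ : Y ≃* Y) (h : Cl p (φ z) (φ g) (φ.toMonoidHom.comp a)) :
    Cl p z g a := by
  intro c h1 h2 h3 h4 x hx h5 u
  apply φ.injective
  rw [map_mul, map_mul]
  refine h (φ c) (by rw [← map_mul, h1, map_mul]) (by rw [← map_mul, h2, map_mul]) (by rw [← map_pow, h3, map_one])
    (fun v => ?_) x hx ?_ u
  · obtain ⟨w, hw⟩ := h4 v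
    exact ⟨w, show φ (a w) = φ c * φ (a v) * (φ c)⁻¹ by rw [hw, map_mul, map_mul, map_inv]⟩
  · show φ c * φ (a x) = φ (a x) * φ c
    rw [← map_mul, h5, map_mul]

theorem perf_range (hs : IsSimpleGroup U) (hc : ¬ IsMulCommutative U) (a : U →* Y) : ⁅a.range, a.range⁆ = a.range := by
  have h3 : ⁅(⊤ : Subgroup U), (⊤ : Subgroup U)⁆ = ⊤ :=
    (inferInstance : (⁅(⊤ : Subgroup U), (⊤ : Subgroup U)⁆).Normal).eq_bot_or_eq_top.resolve_left fun e =>
      hc ⟨⟨fun u v => commutatorElement_eq_one_iff_mul_comm.1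
        (mem_bot.1 (e ▸ commutator_mem_commutator (mem_top u) (mem_top v)))⟩⟩
  rw [MonoidHom.range_eq_map, ← map_commutator, h3]

theorem six {z y : Y} (hz : z ^ 3 = 1) (hy : y ^ 2 = 1) (h : y * z = z * y) :
    (z * y) ^ 6 = 1 ∧ (z * y) ^ 4 = z ∧ (z * y) ^ 3 = y := by
  have hc : Commute z y := h.symm
  refine ⟨?_, ?_, ?_⟩
  · rw [hc.mul_pow, show 6 = 3 * 2 from rfl, pow_mul, hz, one_pow, one_mul, mul_comm, pow_mul, hy, one_pow]
  · rw [hc.mul_pow, pow_succ z, hz, one_mul, show 4 = 2 * 2 from rfl, pow_mul, hy, one_pow, mul_one]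
  · rw [hc.mul_pow, hz, one_mul, pow_succ, hy, one_mul]

theorem comm_of_inv {z g k : Y} (hg : g * z * g⁻¹ = z⁻¹) (hk : k * z * k⁻¹ = z⁻¹) : g * k⁻¹ * z = z * (g * k⁻¹) := by
  have h1 : k⁻¹ * z * k = z⁻¹ := by
    have h2 : z = k * z⁻¹ * k⁻¹ := by rw [← conj_inv, hk, inv_inv]
    conv_lhs => rw [h2]
    group
  calc g * k⁻¹ * z = g * (k⁻¹ * z * k) * g⁻¹ * (g * k⁻¹) := by group
    _ = _ := by rw [h1, ← conj_inv, hg, inv_inv]

theorem comm_of_act {k : Type} [Field k] {π : S3 k →* Y} {d y : Y} {H : GL (Fin 3) k} (h : ActA π d H)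
    (hy : ∀ X, y * π X = π X * y) (X : S3 k) : d * y * d⁻¹ * π X = π X * (d * y * d⁻¹) := by
  obtain ⟨X, rfl⟩ := cjS_surj H X
  rw [← h X, conj_mul, conj_mul, hy]

end abs

section gen

variable {D : ChevalleyDatum} {l : ℕ} {M : CoxeterMatrix (Fin l)} {p : ℕ} [Fact p.Prime]

theorem kac_form (hp : IsType D l M) {r : ℕ} (hr' : r.Prime) (hrp : r ≠ p) {z : YY D p} (hz : z ^ r = 1) :
    ∃ (c : Fin l → ℕ) (c0 : ℕ), Kac D l r c c0 ∧ z ∈ OmF hp p r fun i => (c i : ℤ) := by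
  obtain ⟨g, hg⟩ := DS.Nt.exists_conj_T hp hr' hrp (x := z) (n := 1) (by rw [pow_one, hz])
  obtain ⟨ζ, hζ⟩ := DS.Nt.exists_prim (p := p) hr' hrp
  have hpow : (g * z * g⁻¹) ^ r = 1 := by rw [conj_pow, hz, mul_one, mul_inv_cancel]
  obtain ⟨w, c, c0, K, h2, -⟩ := H931.KC.exists_kac' hp hr'.pos hζ hg hpow
  obtain ⟨k, h3, h4⟩ := DS.Nt.exists_move (hp := hp) hg w
  have e1 : k * g * z * (k * g)⁻¹ = k * (g * z * g⁻¹) * k⁻¹ := by group
  rw [← e1] at h3 h4
  exact ⟨c, c0, K, k * g, ζ, hζ, h3, fun x => by rw [h4, h2]; rfl⟩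

theorem eq_one_of_OmF {hp : IsType D l M} {r : ℕ} {z : YY D p} (h : z ∈ OmF hp p r 0) : z = 1 := by
  obtain ⟨g, ζ, -, h1, h2⟩ := h
  have h6 : g * z * g⁻¹ = 1 := cX_inj hp h1 (one_mem _) fun i => by
    rw [h2, cX_one, H931.KC.psi_apply, Finset.sum_eq_zero fun j _ => by rw [Pi.zero_apply, mul_zero], zpow_zero]
  rwa [mul_inv_eq_one, mul_eq_left] at h6

theorem rp_inv {hp : IsType D l M} {w : M.Group} (hw : ∀ x, wa hp w x = -x) {k z : YY D p} (hk : RP hp p w k)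
    (hz : z ∈ TT D (kb p)) : k * z * k⁻¹ = z⁻¹ := by
  rw [eq_inv_iff_mul_eq_one]
  refine cX_inj hp (mul_mem (hk.conj_mem hz) hz) (one_mem _) fun i => ?_
  have h1 := hk.cX hz (-sr i)
  rw [show rep M.toCoxeterSystem hp.isCartan w (-sr i) = sr i from (hw _).trans (neg_neg _), (isMC_cX hp hz).neg] at h1
  rw [cX_mul hp (hk.conj_mem hz) hz, h1, cX_one, inv_mul_cancel₀ ((isMC_cX hp hz).ne_zero _)]

/-- **The general form.** -/
theorem gen (hp : IsType D l M) (hG : D ≠ chevG2) (h4 : ∀ i j, M i j ≠ 4) (h6 : ∀ i j, M i j ≠ 6) (h5 : 5 ≤ p)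
    {z g : YY D p} {c c' : Lat l} (hz : z ∈ TT D (kb p)) (hz3 : z ^ 3 = 1) (hDZ : ∀ d, d * z = z * d → d ∈ DZ hp p {z})
    (hw : ∃ w, ∀ x, wa hp w x = -x) (hc : A2c hp (PsiS hp {z}) c c') (hg : g * z * g⁻¹ = z⁻¹) {U : Type} [Group U]
    (hs : IsSimpleGroup U) (hn : ¬ IsMulCommutative U) (hx : ∃ x : U, orderOf x = 2) (a : U →* YY D p)
    (haz : ∀ u, a u * z = z * a u) (hag : ∀ u, a u * g = g * a u) :
    ((∃ f : U →* PSL (kb p), Function.Injective f) ∧ Cl p z g a) ∨ ∀ u, u ^ 2 = 1 → ∃ d, d * z = z * d ∧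
      d * a u * d⁻¹ ∈ TT D (kb p) ∧ cX hp (d * a u * d⁻¹) c = 1 ∧ cX hp (d * a u * d⁻¹) c' = 1 := by
  have := finite_WW hp
  have h : P2 hp c c' := ⟨hc.1.1, hc.2.1.1, hc.2.2.1, hc.2.2.2.1⟩
  obtain ⟨π, s, P⟩ := h.exists_pi p hG
  have hac : ∀ m ∈ MS D l p (PsiS hp {z}), ∃ G, Ac π G m := fun m hm =>
    h.exists_ac P h4 h6 (fun a ha => ha.1) hc.2.2.2.2 hm
  have hrp : ∀ {w : M.Group} {k : YY D p} {ε : ℤˣ}, RP hp p w k → (∀ a, wa hp w a = (ε : ℤ) • a) →
      ∃ H, (ε = 1 ∧ ActA π k H) ∨ (ε = -1 ∧ ActT π k H) := fun {w k ε} hk hε =>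
    h.act_pi P (MulAut.conj k).toMonoidHom (RingEquiv.refl _) (g := wa hp w)
      ⟨1, one_mem _, fun a _ => by rw [hε, wa_one]⟩ fun a ha => rp_xc hk ha
  have hA : ∀ d, d * z = z * d → ∃ H, ActA π d H := by
    intro d hd
    obtain ⟨m, hm, t, ht, rfl⟩ := DS.Nt.mem_DZ.1 (hDZ d hd)
    obtain ⟨G, hG⟩ := hac m hm
    obtain ⟨H, hH⟩ := hrp (ε := 1) (RP.of_mem ht) fun a => by rw [wa_one, Units.val_one, one_smul]
    exact ⟨toG G * H, ActA.mul (fun X => by rw [cjS_toG, hG X]) (hH.resolve_right fun e => absurd e.1 (by decide)).2⟩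
  have hZ : ({z} : Set (YY D p)) ⊆ TT D (kb p) := Set.singleton_subset_iff.2 hz
  have hZ3 : ∀ t ∈ ({z} : Set (YY D p)), ∃ n : ℕ, t ^ 3 ^ n = 1 := fun t ht => ⟨1, by rw [ht, pow_one, hz3]⟩
  by_cases hcen : ∀ u X, a u * π X = π X * a u
  · refine Or.inr fun u hu => ?_
    obtain ⟨e6, e4, e3⟩ := six hz3 (y := a u) (by rw [← map_pow, hu, map_one]) (haz u)
    obtain ⟨k, hk⟩ := H944.TorAnyChev.exists_conj_mem_TT hp p (BpExc.TorAll.hAlg_of_isAlgebraic p _) (q := 6) (by decide)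
      (((Nat.coprime_primes Nat.prime_two Fact.out).2 (by omega)).mul_left
        ((Nat.coprime_primes Nat.prime_three Fact.out).2 (by omega))) e6
    obtain ⟨d, d1, d2⟩ := DS.Nt.exists_pair hp (z := z) (x := a u) (g := 1) (by rwa [one_mul, inv_one, mul_one])
      ⟨k, by rw [← e4, ← conj_pow]; exact pow_mem hk 4, by rw [← e3, ← conj_pow]; exact pow_mem hk 3⟩
    rw [one_mul, inv_one, mul_one, mul_inv_eq_iff_eq_mul] at d1
    obtain ⟨H, hH⟩ := hA d d1
    have h1 : ∀ b ∈ A2s c c', Rt hp b → cX hp (d * a u * d⁻¹) b = 1 := fun b hb hr => by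
      obtain ⟨X, hX⟩ := h.mem_range P hb (xc_mem_XR hr 1)
      exact DS.Nt.cX_eq_one_of_comm d2 hr one_ne_zero (hX ▸ comm_of_act hH (hcen u) X)
    exact ⟨d, d1, d2, h1 c (Or.inl rfl) h.r1, h1 c' (Or.inr (Or.inl rfl)) h.r2⟩
  · obtain ⟨w, hw⟩ := hw
    obtain ⟨k, hk⟩ := DS.Nt.exists_RP hp p w
    obtain ⟨H1, h1⟩ := hA (g * k⁻¹) (comm_of_inv hg (rp_inv hw hk hz))
    obtain ⟨H2, h2⟩ := hrp (ε := -1) hk fun a => by rw [hw, Units.val_neg, Units.val_one, neg_smul, one_smul]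
    have h3 := h1.mulT (h2.resolve_left fun e => absurd e.1 (by decide)).2
    rw [inv_mul_cancel_right] at h3
    have h7 : a.range ≤ MS D l p (PsiS hp {z}) :=
      chi_perf hp Nat.prime_three (fun t ht => ⟨hZ ht, hZ3 t ht⟩) (perf_range hs hn a) (by
        rintro _ ⟨u, rfl⟩
        exact mem_centralizer_singleton_iff.2 (haz u))
    obtain ⟨k1, k2⟩ := lin P.ker p (by omega) h3 hs hn hx a hag (fun u => hac _ (h7 ⟨u, rfl⟩)) hcen
    exact Or.inl ⟨k1, fun y y1 y2 y3 => k2 y (hac y (DS.Nt.pel_mem_Mz (hp := hp) (Set.finite_singleton z) hZ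
      Nat.prime_three (by omega) hZ3 (fun t ht => by rw [ht, y1]) ⟨1, by rw [pow_one, y3]⟩)) y2 y3⟩

theorem mem_psiS {hp : IsType D l M} {ζ : kb p} {r : ℕ} (hζ : IsPrimitiveRoot ζ r) {i : Fin l} {z : YY D p}
    (hz : Std hp p ζ i z) {a : Lat l} : a ∈ PsiS hp {z} ↔ Rt hp a ∧ (r : ℤ) ∣ a i := by
  refine and_congr_right fun ha => ?_
  rw [← hζ.zpow_eq_one_iff_dvd, ← hz.2, cX_rt hz.1 ha]
  exact ⟨fun h => h z rfl, fun h t ht => by rw [ht, h]⟩

end gen

section e8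

open Cfsg.Agent.DS.Nt.P8 (mr bt HasM exists_hasM cpr_sum bt_inj)
open Cfsg.Agent.ChevalleyStructure.RootVec

variable {p : ℕ} [Fact p.Prime]

theorem nri3 : nri chevE8 8 3 0 = 84 ∧ nri chevE8 8 3 7 = 126 := by decide +kernel

theorem om_of_dd (h3 : p ≠ 3) {z : Y8 p} (hz : z ^ 3 = 1) (hd : dd p z = 86) : z ∈ Om tE8 p 3 6 := by
  obtain ⟨c, c0, K, h⟩ := kac_form tE8 Nat.prime_three h3.symm hz
  have h1 : (c0 : ℤ) + (2 * c 0 + 3 * c 1 + 4 * c 2 + 6 * c 3 + 5 * c 4 + 4 * c 5 + 3 * c 6 + 2 * c 7) = 3 := by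
    have h15 := K.sum
    rw [DS.Nt.hrE8, Fin.sum_univ_eight] at h15
    simpa only [_root_.Fin.isValue, _root_.Nat.succ_eq_add_one, _root_.Nat.reduceAdd, _root_.Matrix.cons_val_zero, _root_.Matrix.cons_val_one, _root_.Matrix.cons_val, _root_.Nat.cast_ofNat] using h15
  have key : ∀ i : Fin 8, c i = 1 → (∀ j, j ≠ i → c j = 0) → z ∈ Om tE8 p 3 i := by
    intro i hi hj
    rw [DS.Nt.Om_eq]
    have e : (fun j => (c j : ℤ)) = sr i := by
      funext j
      by_cases hji : j = i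
      · rw [hji, hi, sr_self, Nat.cast_one]
      · rw [hj j hji, sr_ne hji, Nat.cast_zero]
    rwa [e] at h
  have all : ∀ {q : Fin 8 → Prop}, q 0 → q 1 → q 2 → q 3 → q 4 → q 5 → q 6 → q 7 → ∀ j, q j := by
    intro q a0 a1 a2 a3 a4 a5 a6 a7 j
    fin_cases j
    exacts [a0, a1, a2, a3, a4, a5, a6, a7]
  by_cases h0 : c 0 = 1
  · have h2 := DS.Nt.dd_Om (key 0 h0 (all (fun e => absurd rfl e) (fun _ => by omega) (fun _ => by omega)
      (fun _ => by (clear * - h1; solve | lia | omega)) (fun _ => by omega) (fun _ => by (clear * - h1; solve | lia | omega)) (fun _ => by omega) (fun _ => by omega)))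
    rw [nri3.1] at h2
    omega
  by_cases h7 : c 7 = 1
  · have h2 := DS.Nt.dd_Om (key 7 h7 (all (fun _ => by (clear * - h1 h7; solve | lia | omega)) (fun _ => by (clear * - h1 h7; solve | lia | omega)) (fun _ => by omega)
      (fun _ => by omega) (fun _ => by (clear * - h1; solve | lia | omega)) (fun _ => by omega) (fun _ => by (clear * - h1 h7; solve | lia | omega)) (fun e => absurd rfl e)))
    rw [nri3.2] at h2
    omega
  by_cases h1' : c 1 = 1
  · have h2 := DS.Nt.dd_Om (key 1 h1' (all (fun _ => by omega) (fun e => absurd rfl e) (fun _ => by (clear * - h1; solve | lia | omega))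
      (fun _ => by omega) (fun _ => by omega) (fun _ => by omega) (fun _ => by (clear * - h1 h1'; solve | lia | omega)) (fun _ => by (clear * - h1 h1'; solve | lia | omega))))
    rw [DS.Nt.nri_E8.2.2.1] at h2
    omega
  by_cases h6 : c 6 = 1
  · exact key 6 h6 (all (fun _ => by omega) (fun _ => by (clear * - h1 h6; solve | lia | omega)) (fun _ => by (clear * - h1; solve | lia | omega))
      (fun _ => by (clear * - h1; solve | lia | omega)) (fun _ => by omega) (fun _ => by (clear * - h1; solve | lia | omega)) (fun e => absurd rfl e) (fun _ => by omega))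
  · have e : (fun j => (c j : ℤ)) = 0 := funext (all (q := fun j => (c j : ℤ) = 0) (by (clear * - h1 h0; omega)) (by (clear * - h1 h1'; solve | lia | omega)) (by (clear * - h1; solve | lia | omega))
      (by omega) (by (clear * - h1; solve | lia | omega)) (by omega) (by omega) (by (clear * - h1 h7; solve | lia | omega)))
    rw [e] at h
    rw [eq_one_of_OmF h, dd_one] at hd
    omega

private noncomputable def _root_.Cfsg.Agent.LsF.f965058_1 : {f // @Cfsg.Lie.ChevalleyDatum.cartan = f} := ⟨_, by first | (delta Cfsg.Lie.ChevalleyDatum.cartan; rewrite [Cfsg.Agent.LsF.agetD_eq]; exact rfl) | exact rfl⟩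
private noncomputable def _root_.Cfsg.Agent.LsF.f965058_2 : {f // @Cfsg.Lie.ChevalleyDatum.simple = f} := ⟨_, by first | (delta Cfsg.Lie.ChevalleyDatum.simple; rewrite [Cfsg.Agent.LsF.agetD_eq]; exact rfl) | exact rfl⟩
private noncomputable def _root_.Cfsg.Agent.LsF.f965058_3 : {f // @Cfsg.Agent.ChevalleyStructure.CoxeterGeomTypes.cartanOf = f} := ⟨_, by first | (delta Cfsg.Agent.ChevalleyStructure.CoxeterGeomTypes.cartanOf; rewrite [Cfsg.Agent.LsF.f965058_1.2, Cfsg.Agent.LsF.f965058_2.2]; exact rfl) | exact rfl⟩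
private noncomputable def _root_.Cfsg.Agent.LsF.f965058_4 : {f // @Cfsg.Agent.ChevalleyStructure.RootVecTab.dig = f} := ⟨_, by first | (delta Cfsg.Agent.ChevalleyStructure.RootVecTab.dig; rewrite [Cfsg.Agent.LsF.nmul_pat]; exact rfl) | exact rfl⟩
private noncomputable def _root_.Cfsg.Agent.LsF.f965058_5 : {f // @Cfsg.Agent.ChevalleyStructure.RootVecTab.packTab = f} := ⟨_, by first | (delta Cfsg.Agent.ChevalleyStructure.RootVecTab.packTab; rewrite [Cfsg.Agent.LsF.instDecEq_eq, Cfsg.Agent.LsF.ite_eq]; exact rfl) | exact rfl⟩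
private noncomputable def _root_.Cfsg.Agent.LsF.f965058_6 : {f // @Cfsg.Agent.ChevalleyStructure.RootVecTab.code = f} := ⟨_, by first | (delta Cfsg.Agent.ChevalleyStructure.RootVecTab.code; rewrite [Cfsg.Agent.LsF.f965058_5.2, Cfsg.Agent.LsF.nmul_pat, Cfsg.Agent.LsF.npow_pat]; exact rfl) | exact rfl⟩
private noncomputable def _root_.Cfsg.Agent.LsF.f965058_7 : {f // @Cfsg.Agent.ChevalleyStructure.RootVec.rt = f} := ⟨_, by first | (delta Cfsg.Agent.ChevalleyStructure.RootVec.rt; rewrite [Cfsg.Agent.LsF.f965058_4.2, Cfsg.Agent.LsF.f965058_6.2, Cfsg.Agent.LsF.nsub_pat, Cfsg.Agent.LsF.isub_pat, Cfsg.Agent.LsF.icast_pat, Cfsg.Agent.LsF.decLt_eq, Cfsg.Agent.LsF.dAnd_eq, Cfsg.Agent.LsF.ite_eq]; exact rfl) | exact rfl⟩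
private noncomputable def _root_.Cfsg.Agent.LsF.f965058_8 : {f // @Cfsg.Agent.Nodes.RGDChev.vec = f} := ⟨_, by first | (delta Cfsg.Agent.Nodes.RGDChev.vec; rewrite [Cfsg.Agent.LsF.f965058_7.2]; exact rfl) | exact rfl⟩
private noncomputable def _root_.Cfsg.Agent.LsF.f965058_9 : {f // @Cfsg.Agent.H931.KC.hr = f} := ⟨_, by first | (delta Cfsg.Agent.H931.KC.hr; rewrite [Cfsg.Agent.LsF.f965058_8.2, Cfsg.Agent.LsF.nsub_pat]; exact rfl) | exact rfl⟩
theorem pair_tab : ∀ k : Fin 8, pairing (cartanOf chevE8 8) k (-hr chevE8 8) = ![0, 0, 0, 0, 0, 0, 0, -1] k ∧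
    pairing (cartanOf chevE8 8) k (sr 7) = ![0, 0, 0, 0, 0, 0, -1, 2] k := by (refine of_decide_eq_true ?_; (try (delta Cfsg.Agent.ChevalleyStructure.CoxeterGeom.pairing Cfsg.Agent.Tits.Roots.sr Function.update Pi.single; rewrite [Cfsg.Agent.LsF.sumF_pat, Cfsg.Agent.LsF.pneg_pat, Cfsg.Agent.LsF.f965058_3.2, Cfsg.Agent.LsF.f965058_9.2, Cfsg.Agent.LsF.iadd_pat, Cfsg.Agent.LsF.imul_pat, Cfsg.Agent.LsF.ineg_pat, Cfsg.Agent.LsF.vecCons_eq, Cfsg.Agent.LsF.iACM_eq, Cfsg.Agent.LsF.instIDecEq_eq, Cfsg.Agent.LsF.dAnd_eq, Cfsg.Agent.LsF.dFinEq_eq, Cfsg.Agent.LsF.dForallFin_eq, Cfsg.Agent.LsF.dite_eq, Cfsg.Agent.LsF.decide_eq])); decide +kernel)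

theorem rt_c : Rt tE8 (-hr chevE8 8) := (isRoot_vec tE8 _ (r := 239) (by decide)).neg

theorem cp_c (a : Lat 8) : cp tE8 a (-hr chevE8 8) = -a 7 := by
  rw [show cp tE8 a _ = _ from cpr_sum tE8 a rt_c, Finset.sum_congr rfl fun k _ => by rw [(pair_tab k).1],
    Fin.sum_univ_eight]
  simp

theorem cp_c' (a : Lat 8) : cp tE8 a (sr 7) = 2 * a 7 - a 6 := by
  rw [show cp tE8 a _ = _ from cpr_sum tE8 a (rt_sr tE8 7), Finset.sum_congr rfl fun k _ => by rw [(pair_tab k).2],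
    Fin.sum_univ_eight]
  simp
  ring

/-- the six roots -/
def six6 : List (List ℤ) := [[-2, -3, -4, -6, -5, -4, -3, -2], [0, 0, 0, 0, 0, 0, 0, 1], [-2, -3, -4, -6, -5, -4, -3, -1],
  [2, 3, 4, 6, 5, 4, 3, 2], [0, 0, 0, 0, 0, 0, 0, -1], [2, 3, 4, 6, 5, 4, 3, 1]]

theorem a2_tab : ∀ r < 240, vec chevE8 8 r 6 % 3 = 0 → (vec chevE8 8 r 7 = 0 ∧ vec chevE8 8 r 6 = 0) ∨
    List.ofFn (vec chevE8 8 r) ∈ six6 := by decide +kernel

theorem six6_eq : six6 = [-hr chevE8 8, sr 7, -hr chevE8 8 + sr 7, - -hr chevE8 8, -sr 7, -(-hr chevE8 8 + sr 7)].map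
    List.ofFn := by decide +kernel

theorem a2c {ζ : kb p} (hζ : IsPrimitiveRoot ζ 3) {z : Y8 p} (hz : Std tE8 p ζ 6 z) :
    A2c tE8 (PsiS tE8 {z}) (-hr chevE8 8) (sr 7) := by
  refine ⟨(mem_psiS hζ hz).2 ⟨rt_c, by rw [DS.Nt.hrE8]; decide⟩, (mem_psiS hζ hz).2 ⟨rt_sr tE8 7, by decide⟩,
    by rw [cp_c', DS.Nt.hrE8]; decide, by rw [cp_c]; decide, fun a ha => ?_⟩
  obtain ⟨h1, h2⟩ := (mem_psiS hζ hz).1 ha
  obtain ⟨r, hr', rfl⟩ := (isRoot_iff tE8 _ a).1 h1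
  rcases a2_tab r hr' (Int.emod_eq_zero_of_dvd h2) with h3 | h3
  · exact Or.inr ⟨by rw [cp_c, h3.1, neg_zero], by rw [cp_c', h3.1, h3.2, mul_zero, sub_zero]⟩
  · left
    rw [six6_eq, List.mem_map] at h3
    obtain ⟨b, hb, e⟩ := h3
    rw [← List.ofFn_injective e]
    simpa only [A2s, Set.mem_insert_iff, Set.mem_singleton_iff, List.mem_cons, List.not_mem_nil, or_false] using hb

/-- the roots of `E₆ A₂` -/
def B3 : ℕ := 1325135298609524830641581911447055719297036147122026401108116435395149827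

theorem B3_spec : ∀ r < 240, B3.testBit r = decide (vec chevE8 8 r 6 % 3 = 0) := by decide +kernel

private noncomputable def _root_.Cfsg.Agent.LsF.f965058_10 : {f // @Cfsg.Agent.DS.Nt.P8.byte = f} := ⟨_, by first | (delta Cfsg.Agent.DS.Nt.P8.byte; rewrite [Cfsg.Agent.LsF.nmul_pat]; exact rfl) | exact rfl⟩
private noncomputable def _root_.Cfsg.Agent.LsF.f965058_11 : {f // @Cfsg.Agent.DS.Nt.P8.mr = f} := ⟨_, by first | (delta Cfsg.Agent.DS.Nt.P8.mr; rewrite [Cfsg.Agent.LsF.f965058_10.2]; exact rfl) | exact rfl⟩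
private noncomputable def _root_.Cfsg.Agent.LsF.f965058_12 : {f // @Cfsg.Agent.ChevalleyStructure.RootVecTab.sumLT = f} := ⟨_, by first | (delta Cfsg.Agent.ChevalleyStructure.RootVecTab.sumLT Nat.brecOn.go Nat.brecOn Cfsg.Agent.ChevalleyStructure.RootVecTab.sumLT._f; (try delta Cfsg.Agent.ChevalleyStructure.RootVecTab.allLT.match_1); (try delta Nat.casesOn); first | dsimp -zeta only | exact rfl) | exact rfl⟩
theorem cnt_tab : ∀ F < 256, F.testBit 7 = false → DS.Nt.P8.PT.testBit (F &&& mr 239) = false →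
    38 ≤ ChevalleyStructure.RootVecTab.sumLT (fun r => cond (B3.testBit r && !DS.Nt.P8.PT.testBit (F &&& mr r)) 1 0) 240 := by (refine of_decide_eq_true ?_; (try (rewrite [Cfsg.Agent.LsF.f965058_11.2, Cfsg.Agent.LsF.f965058_12.2, Cfsg.Agent.LsF.nand_pat, Cfsg.Agent.LsF.and_eq, Cfsg.Agent.LsF.not_eq, Cfsg.Agent.LsF.cond_eq, Cfsg.Agent.LsF.decLe_eq, Cfsg.Agent.LsF.testBit_eq, Cfsg.Agent.LsF.dBoolEq_eq, Cfsg.Agent.LsF.dBallLT_eq, Cfsg.Agent.LsF.dAllP_eq, Cfsg.Agent.LsF.decide_eq])); decide +kernel)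

theorem count (h2 : p ≠ 2) {ζ : kb p} (hζ : IsPrimitiveRoot ζ 3) {z y : Y8 p} (hz : Std tE8 p ζ 6 z)
    (hy : y ∈ TT chevE8 (kb p)) (hyy : y * y = 1) (h1 : cX tE8 y (-hr chevE8 8) = 1) (h3 : cX tE8 y (sr 7) = 1) :
    46 ≤ finrank (kb p) (Fx p {y, z}) := by
  classical
  have htwo : (2 : kb p) ≠ 0 := fun e => h2 ((Nat.prime_dvd_prime_iff_eq Fact.out Nat.prime_two).1
    ((CharP.cast_eq_zero_iff (kb p) p 2).1 (by exact_mod_cast e)))
  obtain ⟨f, hf⟩ := H167.KKL.exists_sgn tE8 p (H469.Exc.locFin p) hy hyy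
  have hf' : ∀ b, Rt tE8 b → (cX tE8 y b = 1 ↔ f b = 0) := fun b hb => by
    rw [cX_rt hy hb, hf b hb, H167.KKL.sg_eq_one htwo]
  obtain ⟨F, hF⟩ := exists_hasM f
  have e7 : F.testBit 7 = false := bt_inj _ _ ((hF.2 7).symm.trans ((hf' _ (rt_sr tE8 7)).1 h3))
  have e9 : DS.Nt.P8.PT.testBit (F &&& mr 239) = false := bt_inj _ _ ((hF.vec (r := 239) (by decide)).symm.trans (by
    have h4 := (hf' _ rt_c).1 h1
    rwa [map_neg, neg_eq_zero] at h4))
  have h4 := cnt_tab F hF.1 e7 e9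
  have hZ : ({y, z} : Set (Y8 p)) ⊆ TT chevE8 (kb p) := by
    rintro t (rfl | rfl)
    exacts [hy, hz.1]
  rw [sumLT_eq, ← Fin.sum_univ_eq_sum_range (fun r => cond (B3.testBit r && !DS.Nt.P8.PT.testBit (F &&& mr r)) 1 0) 240] at h4
  have h5 := DS.Nt.finrank_Fx tE8 hZ
  rw [Finset.card_filter] at h5
  have h6 : ∑ s : Fin 240, cond (B3.testBit s && !DS.Nt.P8.PT.testBit (F &&& mr s)) 1 0 ≤
      ∑ s : Fin chevE8.nroots, if vec chevE8 8 s ∈ DS.Nt.Ps tE8 p {y, z} then 1 else 0 := by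
    refine Finset.sum_le_sum fun s _ => ?_
    cases e : (B3.testBit s && !DS.Nt.P8.PT.testBit (F &&& mr s))
    · exact Nat.zero_le _
    · rw [Bool.and_eq_true, B3_spec s s.2, decide_eq_true_eq, Bool.not_eq_true'] at e
      have hr' := isRoot_vec tE8 CoxeterMatrix.E₈.toCoxeterSystem (r := s) s.2
      rw [if_pos ((DS.Nt.mem_Ps hZ).2 ⟨hr', ?_⟩)]
      · exact le_rfl
      · rintro t (rfl | rfl)
        · exact (hf' _ hr').2 (by rw [hF.vec s.2, e.2]; rfl)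
        · rw [hz.2, hζ.zpow_eq_one_iff_dvd]
          exact Int.dvd_of_emod_eq_zero e.1
  change 46 ≤ finrank (H469.Exc.KK p) _
  omega

/-- **`BoxA2`.** -/
theorem boxA2 : BoxA2 := by
  intro p _ h5 z g hz hd hg U _ _ hs hn a haz hag
  obtain ⟨h, ζ, hζ, hstd⟩ := om_of_dd (by omega) hz hd
  obtain ⟨h4, h6, -⟩ := DS.Ex.TorCE.typE_facts tE8 (Or.inr (Or.inr rfl))
  have hz3 : (h * z * h⁻¹) ^ 3 = 1 := by rw [conj_pow, hz, mul_one, mul_inv_cancel]
  refine (gen tE8 (fun e => absurd (congrArg ChevalleyDatum.rank e) (by decide)) h4 h6 h5 (g := h * g * h⁻¹) hstd.1 hz3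
    (fun d hd => mem_DZ8 Nat.prime_three (by omega) hstd.1 hz3 hd) (H900.Fra.neg_E8 tE8) (a2c hζ hstd)
    (by rw [conj_mul, conj_inv, conj_mul, hg, conj_inv]) hs hn (Cam.Odd.Grp.boxGrp.two U hs hn)
    ((MulAut.conj h).toMonoidHom.comp a) (fun u => (DS.Nt.conj_comm (haz u) :)) (fun u => (DS.Nt.conj_comm (hag u) :))).imp
    (fun k => ⟨k.1, Cl.of_equiv (MulAut.conj h) k.2⟩) fun k u hu => ?_
  obtain ⟨d, d1, d2, d3, d4⟩ := k u hu
  have h1 := count (by omega) hζ hstd d2 (by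
    rw [conj_mul, ← map_mul, ← pow_two, hu, map_one, mul_one, mul_inv_cancel]) d3 d4
  have e1 : d * ((MulAut.conj h).toMonoidHom.comp a) u * d⁻¹ = d * h * a u * (d * h)⁻¹ := by
    show d * (h * a u * h⁻¹) * d⁻¹ = _
    group
  have e2 : h * z * h⁻¹ = d * h * z * (d * h)⁻¹ := by
    calc _ = d * (h * z * h⁻¹) * d⁻¹ := by rw [d1, mul_inv_cancel_right]
      _ = _ := by group
  rwa [e1, e2, DS.Nt.finrank_Fx_conj (d * h) (Z := {a u, z}) fun y => by
    simp only [Set.mem_insert_iff, Set.mem_singleton_iff, mul_left_inj, mul_right_inj]] at h1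

end e8

end Cfsg.Agent.Cam.E8O.A2
end

-- part: Cam/E8/OA5a
section
/-!
# S3690, the row `E₈`: dimension relations for `A₅`-modules (helper15)
-/

set_option autoImplicit false
set_option linter.unusedSectionVars false

namespace Cfsg.Agent.Cam.E8O.A5

open Module Cfsg.Agent.Cam.Odd Cfsg.Agent.Cam.Odd.Lin
open Cfsg.Agent.Cam.Ex (kb)

section art

open Cfsg IsLocalRing Cfsg.Agent.H657 Cfsg.Agent.R2.T1.Art
open Cfsg.Agent.H952.F4 (ev)

attribute [local instance] Above.isAlgClosed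

/-- Artin's formula over the algebraic closure of the prime field -/
theorem artinK (p : ℕ) [hpp : Fact p.Prime] {W : Type} [AddCommGroup W] [Module (kb p) W] [FiniteDimensional (kb p) W]
    {T : Type} [Group T] [Fintype T] (hcard : ¬ p ∣ Nat.card T) (σ : Representation (kb p) T W) :
    (Fintype.card T : ℚ) * (finrank (kb p) ↥σ.invariants : ℚ) = ∑ x : T, om σ x := by
  classical
  obtain ⟨M, hM⟩ := Cfsg.Agent.Blocks.ExistsModular.exists_isPModular hpp.1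
  obtain ⟨V, hV⟩ := Cfsg.Agent.H657.exists_above hM
  have hch : CharP (ResidueField V) p := hV.charP hM
  obtain ⟨f⟩ : Nonempty (kb p →+* ResidueField V) := by
    let _ : Algebra (ZMod p) (ResidueField V) := ZMod.algebra _ p
    exact ⟨(IsAlgClosed.lift (R := ZMod p) (S := kb p) (M := ResidueField V)).toRingHom⟩
  have hT : (Fintype.card T : kb p) ≠ 0 := by
    intro h
    rw [CharP.cast_eq_zero_iff (kb p) p, ← Nat.card_eq_fintype_card] at h
    exact hcard h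
  have hT' : (Fintype.card T : ResidueField V) ≠ 0 := by
    intro h
    rw [CharP.cast_eq_zero_iff (ResidueField V) p, ← Nat.card_eq_fintype_card] at h
    exact hcard h
  let b := Module.finBasis (kb p) W
  let m := finrank (kb p) W
  let R : T →* Matrix (Fin m) (Fin m) (kb p) :=
    ((LinearMap.toMatrixAlgEquiv b : (W →ₗ[kb p] W) ≃ₐ[kb p] Matrix (Fin m) (Fin m) (kb p)) :
      (W →ₗ[kb p] W) →* _).comp σ
  let R' : T →* Matrix (Fin m) (Fin m) (ResidueField V) :=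
    MonoidHom.comp (RingHom.toMonoidHom (f.mapMatrix (m := Fin m))) R
  let σ1 : Representation (kb p) T (Fin m → kb p) :=
    ((Matrix.toLinAlgEquiv' : Matrix (Fin m) (Fin m) (kb p) ≃ₐ[kb p] _) : Matrix (Fin m) (Fin m) (kb p) →* _).comp R
  let σ2 : Representation (ResidueField V) T (Fin m → ResidueField V) :=
    ((Matrix.toLinAlgEquiv' : Matrix (Fin m) (Fin m) (ResidueField V) ≃ₐ[ResidueField V] _) :
      Matrix (Fin m) (Fin m) (ResidueField V) →* _).comp R'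
  have e1 : ∀ g w, σ1 g (b.equivFun w) = b.equivFun (σ g w) := fun g w =>
    LinearMap.toMatrix_mulVec_repr b b (σ g) w
  have hmap : ∀ (A : Submodule (kb p) (Fin m → kb p)) (B : Submodule (kb p) W), (∀ w, b.equivFun w ∈ A ↔ w ∈ B) →
      finrank (kb p) A = finrank (kb p) B := by
    intro A B h
    have h1 : A = B.map (b.equivFun : W →ₗ[kb p] _) := by
      ext v
      obtain ⟨w, rfl⟩ := b.equivFun.surjective v
      rw [h, Submodule.mem_map]
      exact ⟨fun h2 => ⟨w, h2, rfl⟩, fun ⟨w', h2, h3⟩ => b.equivFun.injective h3 ▸ h2⟩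
    rw [h1, LinearEquiv.finrank_map_eq]
  have hev1 : ∀ g, ev (σ1 g) 1 = ev (σ g) 1 := fun g => hmap _ _ fun w => by
    rw [Module.End.mem_eigenspace_iff, Module.End.mem_eigenspace_iff, one_smul, one_smul, e1, b.equivFun.injective.eq_iff]
  have hinv1 : finrank (kb p) ↥σ1.invariants = finrank (kb p) ↥σ.invariants := hmap _ _ fun w => by
    simp only [Representation.mem_invariants, e1, b.equivFun.injective.eq_iff]
  have hσ1 : ∀ g, σ1 g = Matrix.toLin' (R g) := fun g => rfl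
  have hσ2 : ∀ g, σ2 g = Matrix.toLin' (R' g) := fun g => rfl
  have hinv2 : finrank (ResidueField V) ↥σ2.invariants = finrank (kb p) ↥σ1.invariants := by
    rw [finrank_inv_rank hT R σ1 hσ1, finrank_inv_rank hT' R' σ2 hσ2]
    have h1 : ∑ g, R' g = (∑ g, R g).map f := by
      have h2 : (∑ g, R g).map f = f.mapMatrix (∑ g, R g) := rfl
      rw [h2, map_sum]
      rfl
    rw [h1, Cfsg.Agent.H593.RobinsonRank.rank_map]
  have hev2 : ∀ g, ev (σ2 g) 1 = ev (σ1 g) 1 := by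
    intro g
    have h1 := Cfsg.Agent.H815.F4Chg.ev_map f (R g) 1
    rw [map_one] at h1
    exact h1
  have hom : ∀ x, om σ x = om σ2 x := by
    intro x
    unfold om
    congr 1
    refine Finset.sum_congr rfl fun a _ => ?_
    rw [hev2, hev1]
  rw [Finset.sum_congr rfl fun x _ => hom x, ← artin_res hM hV hcard σ2, hinv2, hinv1]

open Classical in
/-- the term of Artin's formula at an element of prime order -/
noncomputable def omN {K V T : Type} [Field K] [AddCommGroup V] [Module K V] [Group T] (l : T →* Module.End K V)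
    (N : Submodule K V) (g : T) : ℚ :=
  if g = 1 then dm N else (orderOf g * dm (N ⊓ E (l g) 1) - dm N) / (orderOf g - 1)

theorem artinN {p : ℕ} [Fact p.Prime] {V : Type} [AddCommGroup V] [Module (kb p) V] [FiniteDimensional (kb p) V]
    {T : Type} [Group T] [Fintype T] (hcard : ¬ p ∣ Nat.card T) (ho : ∀ g : T, g ≠ 1 → (orderOf g).Prime)
    (l : T →* Module.End (kb p) V) {N : Submodule (kb p) V} (hN : ∀ g, _root_.Cfsg.Agent.Cam.Odd.Lin.Inv (l g) N) :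
    (Fintype.card T : ℚ) * dm (N ⊓ fx l Set.univ) = ∑ g : T, omN l N g := by
  let σ : Representation (kb p) T N := Representation.subrepresentation l N hN
  have hσ : ∀ g (v : N), (σ g v : V) = l g v := fun g v => rfl
  have hmap : ∀ (A : Submodule (kb p) N) (B : Submodule (kb p) V), (∀ w : N, w ∈ A ↔ (w : V) ∈ B) →
      finrank (kb p) A = dm (N ⊓ B) := by
    intro A B h
    rw [← dm_def, ← Submodule.map_comap_subtype, Submodule.finrank_map_subtype_eq,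
      show A = Submodule.comap N.subtype B from Submodule.ext h]
  have h := artinK p hcard σ
  rw [hmap _ (fx l Set.univ) fun w => by
    simp only [Representation.mem_invariants, mem_fx, Set.mem_univ, forall_const, Subtype.ext_iff, hσ]] at h
  rw [h]
  refine Finset.sum_congr rfl fun g _ => ?_
  unfold omN
  split_ifs with e
  · rw [e, om_one, dm_def]
  · rw [om_prime σ (ho g e) rfl, ev, hmap _ (E (l g) 1) fun w => by
      rw [Module.End.mem_eigenspace_iff, one_smul, mem_E1, Subtype.ext_iff, hσ], dm_def]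

end art

variable {K V U : Type} [Field K] [AddCommGroup V] [Module K V] [FiniteDimensional K V] [Group U]

/-- the sum of the powers of an operator of order five -/
def pi5 (y : Module.End K V) : Module.End K V := 1 + y + y * y + y * (y * y) + y * (y * (y * y))

theorem pi5_ap (y : Module.End K V) (v : V) : pi5 y v = v + y v + y (y v) + y (y (y v)) + y (y (y (y v))) := rfl

theorem pi5_l {y : Module.End K V} (hy : ∀ v, y (y (y (y (y v)))) = v) (v : V) : y (pi5 y v) = pi5 y v := by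
  simp only [pi5_ap, map_add, hy]
  abel

theorem pi5_r {y : Module.End K V} (hy : ∀ v, y (y (y (y (y v)))) = v) (v : V) : pi5 y (y v) = pi5 y v := by
  simp only [pi5_ap, hy]
  abel

theorem pi5_x {y x : Module.End K V} (hy : ∀ v, y (y (y (y (y v)))) = v) (hxy : ∀ v, y (x (y v)) = x v) (v : V) :
    pi5 y (x v) = x (pi5 y v) := by
  have c1 : ∀ v, x (y v) = y (y (y (y (x v)))) := fun v => by rw [← hxy v, hy]
  simp only [pi5_ap, map_add, c1, hy]
  abel

theorem pi5_fix (h5 : (5 : K) ≠ 0) {y : Module.End K V} (v : V) (hv : y v = v) : pi5 y ((5 : K)⁻¹ • v) = v := by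
  have i5 : (5 : K)⁻¹ * 5 = 1 := inv_mul_cancel₀ h5
  rw [map_smul, pi5_ap, hv, hv, hv, hv]
  linear_combination (norm := module) i5 • v

/-- the dihedral group of order ten -/
theorem rD (h2 : (2 : K) ≠ 0) (h5 : (5 : K) ≠ 0) {y x : Module.End K V} (hy : ∀ v, y (y (y (y (y v)))) = v)
    (hx : ∀ v, x (x v) = v) (hxy : ∀ v, y (x (y v)) = x v) {N : Submodule K V} (hNy : _root_.Cfsg.Agent.Cam.Odd.Lin.Inv y N) (hNx : _root_.Cfsg.Agent.Cam.Odd.Lin.Inv x N) :
    2 * dm (N ⊓ (E y 1 ⊓ E x (-1))) + 2 * dm (N ⊓ E x 1) = dm (N ⊓ E y 1) + dm N := by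
  have c1 : ∀ v, x (y v) = y (y (y (y (x v)))) := fun v => by rw [← hxy v, hy]
  have c2 : ∀ v, y (x v) = x (y (y (y (y v)))) := fun v => by rw [← hxy (y (y (y (y v)))), hy]
  have py := pi5_l hy
  have yp := pi5_r hy
  have px := pi5_x hy hxy
  have pf := pi5_fix h5 (y := y)
  let π := pi5 y
  have pN : _root_.Cfsg.Agent.Cam.Odd.Lin.Inv π N := fun v hv => add_mem (add_mem (add_mem (add_mem hv (hNy _ hv)) (hNy _ (hNy _ hv)))
    (hNy _ (hNy _ (hNy _ hv)))) (hNy _ (hNy _ (hNy _ (hNy _ hv))))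
  have k1 : finrank K N = finrank K ↥(N ⊓ LinearMap.ker π) + finrank K ↥(N ⊓ E y 1) :=
    split π (fun v => Iff.rfl) (fun v hv => ⟨pN v hv, mem_E1.2 (py v)⟩) fun u hu =>
      ⟨_, N.smul_mem _ hu.1, pf u (mem_E1.1 hu.2)⟩
  have k2 : finrank K ↥(N ⊓ E x 1) = finrank K ↥(N ⊓ LinearMap.ker π ⊓ E x 1) + finrank K ↥(N ⊓ E y 1 ⊓ E x 1) :=
    split π (fun v => ⟨fun h => ⟨⟨h.1.1, h.2⟩, h.1.2⟩, fun h => ⟨⟨h.1.1, h.2⟩, h.1.2⟩⟩)
      (fun v hv => ⟨⟨pN v hv.1, mem_E1.2 (py v)⟩, mem_E1.2 (by rw [← px, mem_E1.1 hv.2])⟩) fun u hu =>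
      ⟨_, Submodule.smul_mem _ _ ⟨hu.1.1, hu.2⟩, pf u (mem_E1.1 hu.1.2)⟩
  have iM : _root_.Cfsg.Agent.Cam.Odd.Lin.Inv x (N ⊓ LinearMap.ker π) := fun v hv =>
    ⟨hNx v hv.1, show π (x v) = 0 by rw [px, show π v = 0 from hv.2, map_zero]⟩
  have k3 := pm h2 hx iM
  have k4 := pm h2 hx (N := N ⊓ E y 1) fun v hv => ⟨hNx v hv.1, mem_E1.2 (by
    have h := mem_E1.1 hv.2
    rw [c2, h, h, h, h])⟩
  have k5 : ∀ c : K, finrank K ↥(N ⊓ LinearMap.ker π ⊓ E x c) ≤ finrank K ↥(N ⊓ LinearMap.ker π ⊓ E x (-c)) := by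
    intro c
    have aq : ∀ v, (y - y * (y * (y * y)) : Module.End K V) v = y v - y (y (y (y v))) := fun v => rfl
    refine le_of_inj (y - y * (y * (y * y))) (fun v hv => ?_) fun v hv h0 => ?_
    · rw [aq]
      refine ⟨⟨sub_mem (hNy _ hv.1.1) (hNy _ (hNy _ (hNy _ (hNy _ hv.1.1)))), ?_⟩, mem_E.2 ?_⟩
      · show π _ = 0
        rw [map_sub, yp, yp, yp, yp, yp, sub_self]
      · rw [map_sub, c1, ← c2, mem_E.1 hv.2]
        simp only [map_smul]
        module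
    · rw [aq, sub_eq_zero] at h0
      have h1 : y (y v) = v := by rw [h0, hy]
      have h3 : y v = v := by rw [h0, h1, h1]
      rw [← pf v h3, map_smul, show π v = 0 from hv.1.2, smul_zero]
  have k6 := k5 1
  have k7 := k5 (-1)
  rw [neg_neg] at k7
  simp only [dm_def] at k1 k2 k3 k4 k6 k7
  rw [← inf_assoc]
  omega

/-- elements of a group isomorphic to `A₅` -/
structure D5 [Fintype U] (x x₂ t y : U) : Prop where
  tet : Tet x x₂ t
  oy : orderOf y = 5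
  xy : y * (x * y) = x
  card : Fintype.card U = 60
  ord : ∀ g : U, g ≠ 1 → (orderOf g).Prime
  c3 : IsConj (t * t) t
  c5 : ∀ g : U, orderOf g = 5 → IsConj y g ∨ IsConj (y * y) g
  sum : ∀ F : U → ℚ, (∀ a b, IsConj a b → F a = F b) → F (y * y) = F y →
    ∑ g, F g = F 1 + 15 * F x + 20 * F t + 24 * F y

open Cfsg.Agent.H219.HerSmall Equiv in
/-- an element of order five -/
def y5 : alternatingGroup (Fin 5) := ⟨swap (4 : Fin 5) 0 * swap (0 : Fin 5) 2 * swap (2 : Fin 5) 3 * swap (3 : Fin 5) 1, by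
  simp [Equiv.Perm.mem_alternatingGroup, Equiv.Perm.sign_swap']⟩

open Cfsg.Agent.H219.HerSmall in
theorem conj5 : ∀ g : alternatingGroup (Fin 5), g ≠ 1 → g ^ 5 = 1 →
    ∃ c : alternatingGroup (Fin 5), c * y5 * c⁻¹ = g ∨ c * (y5 * y5) * c⁻¹ = g := by
  (set_option synthInstance.maxSize 9000 in open scoped Cfsg.Agent.Lib.FastPerm in decide +kernel)

open Cfsg.Agent.H219.HerSmall in
theorem d5_alt : D5 t2 (t3 * t2 * t3⁻¹) t3 y5 := by
  have : Fact (Nat.Prime 5) := ⟨by norm_num⟩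
  have c5 : ∀ g : alternatingGroup (Fin 5), g ≠ 1 → g ^ 5 = 1 → IsConj y5 g ∨ IsConj (y5 * y5) g := fun g h1 h2 => by
    obtain ⟨c, h | h⟩ := conj5 g h1 h2
    · exact Or.inl (isConj_iff.2 ⟨c, h⟩)
    · exact Or.inr (isConj_iff.2 ⟨c, h⟩)
  refine ⟨⟨orderOf_eq_prime t2_sq t2_ne, by decide +kernel, by decide +kernel, rfl, by decide +kernel,
    orderOf_eq_prime (by decide +kernel) (by decide +kernel)⟩, orderOf_eq_prime (by decide +kernel) (by decide +kernel),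
    by decide +kernel, by (set_option synthInstance.maxSize 9000 in open scoped Cfsg.Agent.Lib.FastPerm in decide +kernel), fun g hg => ?_, ?_, fun g hg => c5 g (fun e => ?_) (orderOf_dvd_iff_pow_eq_one.1 hg.dvd),
    fun F hF hy => ?_⟩
  · by_cases h2 : g ^ 2 = 1
    · rw [orderOf_eq_prime h2 hg]
      norm_num
    by_cases h3 : g ^ 3 = 1
    · rw [orderOf_eq_prime h3 hg]
      norm_num
    · rw [orderOf_eq_prime (all g hg h2 h3) hg]
      norm_num
  · obtain ⟨c, hc⟩ := conj3 (t3 * t3) (by decide +kernel) (by decide +kernel)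
    exact (isConj_iff.2 ⟨c, hc.symm⟩).symm
  · rw [e, orderOf_one] at hg
    omega
  · have h1 : ∀ g, F g = if g = 1 then F 1 else if g ^ 2 = 1 then F t2 else if g ^ 3 = 1 then F t3 else F y5 := by
      intro g
      split_ifs with h h' h''
      · rw [h]
      · obtain ⟨c, hc⟩ := conj2 g h h'
        exact (hF _ _ (isConj_iff.2 ⟨c, hc.symm⟩)).symm
      · obtain ⟨c, hc⟩ := conj3 g h h''
        exact (hF _ _ (isConj_iff.2 ⟨c, hc.symm⟩)).symm
      · rcases c5 g h (all g h h' h'') with h3 | h3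
        · exact (hF _ _ h3).symm
        · exact (hF _ _ h3).symm.trans hy
    rw [Finset.sum_congr rfl fun g _ => h1 g]
    rw [Finset.sum_ite, Finset.sum_ite, Finset.sum_ite, Finset.filter_filter, Finset.filter_filter, Finset.filter_filter,
      Finset.sum_const, Finset.sum_const, Finset.sum_const, Finset.sum_const, card1, card2, Finset.filter_filter,
      Finset.filter_filter, card3, card5]
    simp only [nsmul_eq_mul]
    push_cast
    ring

theorem D5.map {U' : Type} [Group U'] [Fintype U] [Fintype U'] (e : U ≃* U') {x x₂ t y : U} (h : D5 x x₂ t y) :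
    D5 (e x) (e x₂) (e t) (e y) := by
  refine ⟨⟨(e.orderOf_eq x).trans h.tet.o1, fun k => h.tet.ne (e.injective k), ?_, ?_, ?_,
    (e.orderOf_eq t).trans h.tet.o3⟩, (e.orderOf_eq y).trans h.oy, ?_, (Fintype.card_congr e.toEquiv).symm.trans h.card,
    fun g hg => ?_, ?_, fun g hg => ?_, fun F hF hy => ?_⟩
  · rw [← map_mul, ← map_mul, h.tet.comm]
  · rw [← map_inv, ← map_mul, ← map_mul, h.tet.c1]
  · rw [← map_inv, ← map_mul, ← map_mul, h.tet.c2, map_mul]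
  · rw [← map_mul, ← map_mul, h.xy]
  · obtain ⟨g, rfl⟩ := e.surjective g
    rw [e.orderOf_eq]
    exact h.ord g fun k => hg (by rw [k, map_one])
  · rw [← map_mul]
    exact e.toMonoidHom.map_isConj h.c3
  · obtain ⟨g, rfl⟩ := e.surjective g
    rw [e.orderOf_eq] at hg
    rw [← map_mul]
    exact (h.c5 g hg).imp e.toMonoidHom.map_isConj e.toMonoidHom.map_isConj
  · have k := h.sum (fun g => F (e g)) (fun a b hab => hF _ _ (e.toMonoidHom.map_isConj hab)) (by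
      simpa only [map_mul] using hy)
    rw [map_one] at k
    rw [← k]
    exact (Equiv.sum_comp e.toEquiv F).symm

theorem exists_D5 [Fintype U] (h : Nonempty (U ≃* alternatingGroup (Fin 5))) : ∃ x x₂ t y : U, D5 x x₂ t y :=
  h.elim fun e => ⟨_, _, _, _, d5_alt.map e.symm⟩

/-- the fixed spaces of `x`, `t`, `V`, `A₄`, `y`, the twisted `D₁₀` and `A₅` -/
def sq (l : U →* Module.End K V) (x x₂ t y : U) : ℕ → Submodule K V
  | 0 => ⊤
  | 1 => E (l x) 1
  | 2 => E (l t) 1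
  | 3 => E (l x) 1 ⊓ E (l x₂) 1
  | 4 => E (l x) 1 ⊓ E (l x₂) 1 ⊓ E (l t) 1
  | 5 => E (l y) 1
  | 6 => E (l y) 1 ⊓ E (l x) (-1)
  | _ => fx l Set.univ

theorem inv_fx {T : Type} [Group T] {g : Module.End K V} {l : T →* Module.End K V}
    (hc : ∀ u v, l u (g v) = g (l u v)) : _root_.Cfsg.Agent.Cam.Odd.Lin.Inv g (fx l Set.univ) := fun v hv u hu => by rw [hc, hv u hu]

theorem inv_sq {g : Module.End K V} {l : U →* Module.End K V} (hc : ∀ u v, l u (g v) = g (l u v)) (x x₂ t y : U)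
    (i : ℕ) : _root_.Cfsg.Agent.Cam.Odd.Lin.Inv g (sq l x x₂ t y i) := by
  unfold sq
  split
  · exact Inv.top g
  · exact inv_E (hc _) _
  · exact inv_E (hc _) _
  · exact (inv_E (hc _) _).inf (inv_E (hc _) _)
  · exact ((inv_E (hc _) _).inf (inv_E (hc _) _)).inf (inv_E (hc _) _)
  · exact inv_E (hc _) _
  · exact (inv_E (hc _) _).inf (inv_E (hc _) _)
  · exact inv_fx hc

/-- the relations between the dimensions -/
def Rel5 (n : ℕ → ℕ) : Prop :=
  n 0 + 2 * n 3 = 3 * n 1 ∧ n 0 + 2 * n 4 = n 1 + 2 * n 2 ∧ 2 * n 6 + 2 * n 1 = n 5 + n 0 ∧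
    n 1 + n 2 + n 5 = n 0 + 2 * n 7 ∧ n 7 ≤ n 4 ∧ n 4 ≤ n 3

theorem cast_ne {p : ℕ} [Fact p.Prime] (hp : 7 ≤ p) {n : ℕ} (h0 : 0 < n) (hn : n < 7) : (n : kb p) ≠ 0 := fun h =>
  absurd (Nat.le_of_dvd h0 ((CharP.cast_eq_zero_iff (kb p) p n).1 h)) (by omega)

theorem five_of_order {y : U} (h : orderOf y = 5) : y * (y * (y * (y * y))) = 1 := by
  rw [← pow_orderOf_eq_one y, h]
  simp only [pow_succ, pow_zero, one_mul, mul_assoc]

theorem E_sq {l : U →* Module.End K V} {y : U} (h : orderOf y = 5) : E (l (y * y)) 1 = E (l y) 1 := by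
  ext v
  rw [mem_E1, mem_E1, ← ap_mul]
  refine ⟨fun k => ?_, fun k => by rw [k, k]⟩
  have h1 : l y (l y (l y (l y (l y v)))) = v := by
    rw [ap_mul, ap_mul, ap_mul, ap_mul, mul_assoc, mul_assoc, mul_assoc, five_of_order h, ap_one]
  rwa [k, k] at h1

theorem rel5 {p : ℕ} [Fact p.Prime] (hp : 7 ≤ p) {V : Type} [AddCommGroup V] [Module (kb p) V]
    [FiniteDimensional (kb p) V] [Fintype U] (l : U →* Module.End (kb p) V) {x x₂ t y : U} (h : D5 x x₂ t y)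
    {N : Submodule (kb p) V} (hN : ∀ g, _root_.Cfsg.Agent.Cam.Odd.Lin.Inv (l g) N) : Rel5 fun i => dm (N ⊓ sq l x x₂ t y i) := by
  have h2 : (2 : kb p) ≠ 0 := by exact_mod_cast cast_ne hp two_pos (by norm_num)
  have h5 : (5 : kb p) ≠ 0 := by exact_mod_cast cast_ne hp (n := 5) (by norm_num) (by norm_num)
  have T := tet_to l h.tet
  obtain ⟨k1, k2, -, -⟩ := T.dims (hN t) h2 (hN x) (hN x₂)
  have k3 := T.fix (hN t) h2 (hN x) (hN x₂)
  have k4 := rD h2 h5 (y := l y) (x := l x) (fun v => by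
    rw [ap_mul, ap_mul, ap_mul, ap_mul, mul_assoc, mul_assoc, mul_assoc, five_of_order h.oy, ap_one]) T.aa
    (fun v => by rw [ap_mul, ap_mul, mul_assoc, h.xy]) (hN y) (hN x)
  have k5 : finrank (kb p) ↥(N ⊓ E (l x) 1 ⊓ E (l x₂) 1 ⊓ E (l t) 1) ≤ finrank (kb p) ↥(N ⊓ E (l x) 1 ⊓ E (l x₂) 1) :=
    Submodule.finrank_mono inf_le_left
  have k6 : finrank (kb p) ↥(N ⊓ fx l Set.univ) ≤ finrank (kb p) ↥(N ⊓ E (l x) 1 ⊓ E (l x₂) 1 ⊓ E (l t) 1) :=
    Submodule.finrank_mono fun v hv =>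
      ⟨⟨⟨hv.1, mem_E1.2 (hv.2 _ trivial)⟩, mem_E1.2 (hv.2 _ trivial)⟩, mem_E1.2 (hv.2 _ trivial)⟩
  have k7 := artinN (p := p) (by
    rw [Nat.card_eq_fintype_card, h.card]
    intro hd
    have hpp : p.Prime := Fact.out
    have h1 : p ∣ 2 * 2 * 3 * 5 := hd
    simp only [hpp.dvd_mul] at h1
    rcases h1 with ((h1 | h1) | h1) | h1 <;> exact absurd (Nat.le_of_dvd (by norm_num) h1) (by omega)) h.ord l hN
  have n1 : ∀ {g : U} {r : ℕ}, orderOf g = r → 1 < r → g ≠ 1 := fun hg hr e => by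
    rw [e, orderOf_one] at hg
    omega
  have oyy : orderOf (y * y) = 5 := by
    rw [← pow_two, (h.oy.symm ▸ by norm_num : (orderOf y).Coprime 2).orderOf_pow, h.oy]
  rw [h.sum _ (fun a b hab => by
    unfold omN
    have k := conj_eq l hN hab
    simp only [dm_def] at k
    obtain ⟨c, rfl⟩ := isConj_iff.1 hab
    have o : orderOf (c * a * c⁻¹) = orderOf a := (MulAut.conj c).orderOf_eq a
    rw [k, o]
    by_cases e : a = 1
    · rw [if_pos e, if_pos (conj_eq_one_iff.2 e)]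
    · rw [if_neg e, if_neg fun e' => e (conj_eq_one_iff.1 e')]) (by
    unfold omN
    rw [if_neg (n1 oyy (by norm_num)), if_neg (n1 h.oy (by norm_num)), oyy, h.oy, E_sq h.oy]), h.card] at k7
  unfold omN at k7
  rw [if_pos rfl, if_neg (n1 h.tet.o1 (by norm_num)), if_neg (n1 h.tet.o3 (by norm_num)),
    if_neg (n1 h.oy (by norm_num)), h.tet.o1, h.tet.o3, h.oy] at k7
  have k8 : dm (N ⊓ E (l x) 1) + dm (N ⊓ E (l t) 1) + dm (N ⊓ E (l y) 1) = dm N + 2 * dm (N ⊓ fx l Set.univ) := by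
    have k9 : (dm (N ⊓ E (l x) 1) + dm (N ⊓ E (l t) 1) + dm (N ⊓ E (l y) 1) : ℚ) =
        dm N + 2 * dm (N ⊓ fx l Set.univ) := by
      push_cast at k7
      linarith only [k7]
    exact_mod_cast k9
  simp only [dm_def] at k1 k2 k3 k5 k6
  rw [← inf_assoc] at k4
  simp only [Rel5, sq, ← inf_assoc, inf_top_eq]
  omega

end Cfsg.Agent.Cam.E8O.A5
end

-- part: Cam/E8/OA5
section
/-!
# S3690, the row `E₈`: the boxes `A5` and `P81` (helper15)
-/

set_option autoImplicit false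
set_option linter.unusedSectionVars false

namespace Cfsg.Agent.Cam.E8O.A5

open Module Cfsg.Agent.Cam.Odd Cfsg.Agent.Cam.Odd.Lin
open Cfsg.Agent.Cam.Ex (kb)
open Cfsg.Agent.DS.NT (ev)

theorem arith1 (f : ℕ → ℕ → ℕ) (hl : ∀ j, Rel5 fun i => f i j) (hr : ∀ i, Rel5 fun j => f i j) (d₁ d₂ : ℕ)
    (h0 : f 0 0 = 248) (h1 : f 1 0 = 120) (h2 : f 0 1 = 120) (h3 : f 2 0 = 80) (h4 : f 0 2 = 86) (h5 : f 1 1 = 56)
    (h6 : f 2 2 = 26) (h7 : f 2 1 = 40 ∨ f 2 1 = 64) (h8 : f 1 2 = 42 ∨ f 1 2 = 54)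
    (h9 : f 3 3 + 3 * f 4 4 = f 4 3 + f 3 4 + d₁ + d₂) :
    d₁ = 0 ∧ (T5 (f 0 5) → f 7 0 ≤ f 6 6 → f 7 0 = 0 ∧ 1 ≤ f 6 7) := by
  obtain ⟨a3, a4, a6, a7, -, -⟩ := hr 0
  obtain ⟨b3, b4, b6, b7, -, -⟩ := hr 1
  obtain ⟨c3, c4, c6, c7, -, -⟩ := hr 2
  obtain ⟨l3, l4, -, -, -, l5⟩ := hl 3
  obtain ⟨m3, m4, -, -, m5, m6⟩ := hl 4
  obtain ⟨-, -, -, -, -, n6⟩ := hr 3
  simp only [h0, h1, h2, h3, h4, h5, h6] at a3 a4 a6 a7 b3 b4 b6 b7 c3 c4 c6 c7 l3 l4 l5 m3 m4 m5 m6 n6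
  have k7 : f 2 1 = 40 := by (clear * - h7 l3 l4 l5 m4 b3 c3; solve | lia | omega)
  have k8 : f 1 2 = 42 := by (clear * - h8 l3 m3 n6 a3 a4 b3 b4; solve | lia | omega)
  refine ⟨by (clear * - h9 l3 l4 m3 m4 a4 b3 c3 c4; omega), fun t5 hd => ?_⟩
  have k44 : f 4 4 = 0 := by (clear * - m4 a4 b4 c4 k7 k8; omega)
  have k74 : f 7 4 = 0 := by (clear * - m4 m5 a4 b4 c4 k7 k8; solve | lia | omega)
  have k47 : f 4 7 = 0 := Nat.eq_zero_of_le_zero (k44 ▸ (hr 4).2.2.2.2.1)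
  have k77 : f 7 7 = 0 := Nat.eq_zero_of_le_zero (k74 ▸ (hr 7).2.2.2.2.1)
  have k67 : f 6 7 ≤ f 6 4 := (hr 6).2.2.2.2.1
  have k37 : f 3 7 ≤ f 3 4 := (hr 3).2.2.2.2.1
  obtain ⟨e3, e4, e6, e7, -, -⟩ := hr 5
  obtain ⟨p3, p4, p6, p7, -, -⟩ := hl 0
  obtain ⟨q3, q4, q6, q7, -, -⟩ := hl 1
  obtain ⟨r3, r4, r6, r7, -, -⟩ := hl 2
  obtain ⟨s3, s4, s6, s7, -, -⟩ := hr 7
  obtain ⟨u3, u4, u6, u7, -, -⟩ := hl 7
  obtain ⟨v3, v4, v6, v7, -, -⟩ := hr 6
  obtain ⟨w3, w4, w6, w7, -, -⟩ := hl 5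
  have z1 : 2 * f 7 0 = 6 * f 7 6 + 5 * f 7 3 := by
    linarith only [k74, k77, s3, s4, s6, s7]
  have z2 : f 6 6 + 1 = f 7 6 + f 6 7 := by
    linarith only [h0, h1, h2, h3, h4, h5, h6, k7, k77, k8, p6, p7, q6, q7, r6, r7, s6, s7, v6, v7]
  have z3 : f 0 5 = 6 * f 6 7 + 5 * f 3 7 + 42 := by
    linarith only [a7, k47, k77, u3, u4, u6, u7]
  have z4 : f 6 4 = 4 := by
    linarith only [h0, h1, h2, h3, h4, h5, h6, k7, k74, k8, p6, p7, q6, q7, r6, r7, s4, v4]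
  have z5 : f 3 4 = 4 := by
    linarith only [a4, b4, k8, m3]
  unfold T5 at t5
  clear * - z1 z2 z3 z4 z5 t5 hd k67 k37
  have y1 : f 7 3 ≤ 1 := by omega
  have y2 : f 7 3 ≠ 1 := by omega
  have y3 : f 7 6 ≤ 1 := by omega
  have y4 : f 7 6 ≠ 1 := fun e => by
    have y5 : f 6 7 = 3 ∨ f 6 7 = 4 := by (clear * - hd k67 z1 z2 z4 e; omega)
    rcases y5 with y5 | y5 <;> (clear * - t5 z3 y5; omega)
  (clear * - hd z1 z2 y1 y3 y4; solve | lia | omega)

variable {K V U : Type} [Field K] [AddCommGroup V] [Module K V] [FiniteDimensional K V] [Group U]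

theorem cop23 {a s : Module.End K V} (ha : ∀ v, a (a v) = v) (hs : ∀ v, s (s (s v)) = v) (hc : ∀ v, s (a v) = a (s v)) :
    E a 1 ⊓ E s 1 = E (a * s) 1 := by
  ext v
  simp only [Submodule.mem_inf, mem_E1, Module.End.mul_apply]
  refine ⟨fun hv => by rw [hv.2, hv.1], fun hv => ?_⟩
  have h5 : s v = a v := by rw [← ha (s v), hv]
  have h6 : a v = v := by
    have h7 := hs v
    rw [h5, hc, h5, ha, h5] at h7
    exact h7
  exact ⟨h6, h5.trans h6⟩

theorem exists_omega [IsAlgClosed K] (h2 : (2 : K) ≠ 0) : ∃ ω : K, ω * ω + ω + 1 = 0 := by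
  obtain ⟨z, hz⟩ := IsAlgClosed.exists_eq_mul_self (-3 : K)
  refine ⟨(2 : K)⁻¹ * (z - 1), ?_⟩
  have i2 : (2 : K)⁻¹ * 2 = 1 := inv_mul_cancel₀ h2
  linear_combination (-(2 : K)⁻¹ * (2 : K)⁻¹) * hz - ((2 : K)⁻¹ * (z - 1) + (2 : K)⁻¹ * 2 + 1) * i2

theorem boxA5 : BoxA5 := by
  intro p _ hp V _ _ _ U _ hU ρ hV H2 H3 H23 H5 hd
  have : Finite U := hU.elim fun e => Finite.of_equiv _ e.symm.toEquiv
  have := Fintype.ofFinite U
  obtain ⟨x, x₂, t, y, D⟩ := exists_D5 hU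
  have h := D.tet
  have h2 : (2 : kb p) ≠ 0 := by exact_mod_cast cast_ne hp two_pos (by norm_num)
  have h3 : (3 : kb p) ≠ 0 := by exact_mod_cast cast_ne hp three_pos (by norm_num)
  have h5 : (5 : kb p) ≠ 0 := by exact_mod_cast cast_ne hp (n := 5) (by norm_num) (by norm_num)
  obtain ⟨ω, hω⟩ := exists_omega h2
  have TL := tet_to (lf ρ) h
  have TR := tet_to (rt ρ) h
  have hl := fun j => rel5 hp (lf ρ) D (N := sq (rt ρ) x x₂ t y j) fun g => inv_sq (fun u v => rt_lf ρ g u v) _ _ _ _ _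
  have hr := fun i => rel5 hp (rt ρ) D (N := sq (lf ρ) x x₂ t y i)
    fun g => inv_sq (fun u v => (rt_lf ρ u g v).symm) _ _ _ _ _
  simp only [inf_comm (sq (rt ρ) x x₂ t y _)] at hl
  have iE : ∀ {a b c : Module.End (kb p) V}, TO a b c → _root_.Cfsg.Agent.Cam.Odd.Lin.Inv c (E a 1 ⊓ E b 1) := fun T v hv => by
    have := T.wt (mem_E.1 hv.1) (mem_E.1 hv.2)
    rw [mul_one] at this
    exact ⟨mem_E.2 this.1, mem_E.2 this.2⟩
  have k9 := r9 h3 hω TL.sss TR.sss (fun v => (rt_lf ρ t t v).symm)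
    (N := sq (lf ρ) x x₂ t y 3 ⊓ sq (rt ρ) x x₂ t y 3)
    ((iE TL).inf (inv_sq (fun u v => rt_lf ρ t u v) _ _ _ _ _))
    ((inv_sq (fun u v => (rt_lf ρ u t v).symm) _ _ _ _ _).inf (iE TR))
  have k6 := r9 h3 hω TL.sss TR.sss (fun v => (rt_lf ρ t t v).symm) (Inv.top _) (Inv.top _)
  have k7 : finrank (kb p) ↥(⊤ ⊓ E (ρ (t, t * t)) 1) = finrank (kb p) ↥(⊤ ⊓ E (ρ (t, t)) 1) := by
    obtain ⟨c, hc⟩ := isConj_iff.1 D.c3
    refine conj_eq ρ (fun _ => Inv.top _) (isConj_iff.2 ⟨(1, c), ?_⟩)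
    ext
    · simp
    · exact hc
  rw [← map_mul (rt ρ), lf_mul_rt, lf_mul_rt] at k9 k6
  obtain ⟨e1, e2, e3⟩ := H2 x h.o1
  obtain ⟨e4, e5, e6⟩ := H3 t h.o3
  obtain ⟨e7, e8⟩ := H23 x t h.o1 h.o3
  rw [k7, ← ev_eq, finrank_top, top_inf_eq, top_inf_eq, hV, e6] at k6
  change _ = ev ρ (t, 1) 1 + ev ρ (1, t) 1 + 80 + 80 at k6
  have s44 : sq (lf ρ) x x₂ t y 3 ⊓ sq (rt ρ) x x₂ t y 3 ⊓ E (lf ρ t) 1 ⊓ E (rt ρ t) 1 =
      sq (lf ρ) x x₂ t y 4 ⊓ sq (rt ρ) x x₂ t y 4 := by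
    simp only [sq]
    ac_rfl
  have s43 : sq (lf ρ) x x₂ t y 3 ⊓ sq (rt ρ) x x₂ t y 3 ⊓ E (lf ρ t) 1 =
      sq (lf ρ) x x₂ t y 4 ⊓ sq (rt ρ) x x₂ t y 3 := by
    simp only [sq]
    ac_rfl
  have s34 : sq (lf ρ) x x₂ t y 3 ⊓ sq (rt ρ) x x₂ t y 3 ⊓ E (rt ρ t) 1 =
      sq (lf ρ) x x₂ t y 3 ⊓ sq (rt ρ) x x₂ t y 4 := by
    simp only [sq]
    ac_rfl
  rw [s44, s43, s34] at k9
  have k12 : sq (lf ρ) x x₂ t y 1 ⊓ sq (rt ρ) x x₂ t y 2 = E (ρ (x, t)) 1 := by
    rw [← lf_mul_rt]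
    exact cop23 TL.aa TR.sss (rt_lf ρ x t)
  have k21 : sq (lf ρ) x x₂ t y 2 ⊓ sq (rt ρ) x x₂ t y 1 = E (ρ (t, x)) 1 := by
    have e : rt ρ x * lf ρ t = ρ (t, x) := LinearMap.ext fun v => (rt_lf ρ t x v).trans (lf_rt ρ t x v)
    rw [← e, inf_comm]
    exact cop23 TR.aa TL.sss fun v => (rt_lf ρ t x v).symm
  have k70 : sq (lf ρ) x x₂ t y 7 ⊓ sq (rt ρ) x x₂ t y 0 = fx ρ {g | g.2 = 1} := by
    ext v
    refine ⟨?_, fun hv => ⟨fun u _ => hv (u, 1) rfl, trivial⟩⟩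
    rintro hv ⟨a, b⟩ (rfl : b = 1)
    exact hv.1 a trivial
  have k11 := pair ρ h2 h.o1 h.o1
  obtain ⟨d0, d2⟩ := arith1 (fun i j => dm (sq (lf ρ) x x₂ t y i ⊓ sq (rt ρ) x x₂ t y j)) hl hr _ _
    (by simp only [sq, top_inf_eq, dm_top, hV]) (by simp only [sq, inf_top_eq]; exact e1)
    (by simp only [sq, top_inf_eq]; exact e2) (by simp only [sq, inf_top_eq]; exact e4)
    (by simp only [sq, top_inf_eq]; exact e5) (by simp only [sq, ← dm_def]; omega)
    (by simp only [sq, ← dm_def]; omega) (by simp only [k21]; exact e7) (by simp only [k12]; exact e8) k9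
  have d1 := Submodule.finrank_eq_zero.1 d0
  have hy5 : ∀ (l : U →* Module.End (kb p) V) v, l y (l y (l y (l y (l y v)))) = v := fun l v => by
    rw [ap_mul, ap_mul, ap_mul, ap_mul, mul_assoc, mul_assoc, mul_assoc, five_of_order D.oy, ap_one]
  have hxy : ∀ (l : U →* Module.End (kb p) V) v, l y (l x (l y v)) = l x v := fun l v => by
    rw [ap_mul, ap_mul, mul_assoc, D.xy]
  have key : dm (fx ρ {g | g.1 = g.2}) ≤ dm (sq (lf ρ) x x₂ t y 6 ⊓ sq (rt ρ) x x₂ t y 6) := by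
    let e : Module.End (kb p) V := (1 - lf ρ x) * pi5 (lf ρ y)
    let eE : (U →* Module.End (kb p) V) → Module.End (kb p) V := fun l => 1 + l x + l x₂ + l x * l x₂
    have e_ap : ∀ v, e v = pi5 (lf ρ y) v - lf ρ x (pi5 (lf ρ y) v) := fun v => rfl
    have eE_ap : ∀ l v, eE l v = v + l x v + l x₂ v + l x (l x₂ v) := fun l v => rfl
    have e_rt : ∀ g v, rt ρ g (e v) = e (rt ρ g v) := fun g v => by
      simp only [e_ap, pi5_ap, map_sub, map_add, rt_lf]
    have eE_mem : ∀ l v, eE l v ∈ sq l x x₂ t y 3 := fun l v => by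
      have T := tet_to l h
      refine ⟨mem_E1.2 ?_, mem_E1.2 ?_⟩
      · simp only [eE_ap, map_add, T.aa]
        abel
      · simp only [eE_ap, map_add, T.ab, T.bb]
        abel
    have sw : ∀ v ∈ fx ρ {g | g.1 = g.2}, ∀ g, lf ρ g v = rt ρ g⁻¹ v := fun v hv g => by
      rw [← hv (g⁻¹, g⁻¹) rfl, ← lf_rt, ap_mul, mul_inv_cancel, ap_one, lf_rt, hv _ rfl]
    have i2 : ∀ {x : U}, orderOf x = 2 → x⁻¹ = x := fun hx => inv_eq_of_mul_eq_one_right (sq_of_order hx)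
    have sw2 : ∀ v ∈ fx ρ {g | g.1 = g.2}, ∀ g g', lf ρ g (lf ρ g' v) = rt ρ g'⁻¹ (rt ρ g⁻¹ v) := fun v hv g g' => by
      rw [ap_mul, sw v hv, mul_inv_rev, ← ap_mul]
    refine le_of_inj e (fun v hv => ⟨⟨mem_E1.2 ?_, mem_Em.2 ?_⟩, mem_E1.2 ?_, mem_Em.2 ?_⟩) fun v hv h0 => ?_
    · rw [e_ap, map_sub, pi5_l (hy5 _), ← pi5_x (hy5 _) (hxy _), pi5_l (hy5 _)]
    · rw [e_ap, map_sub, TL.aa, neg_sub]
    · have h6 : lf ρ y (rt ρ y v) = v := by rw [lf_rt, hv _ rfl]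
      rw [e_rt, e_ap, e_ap, ← pi5_r (hy5 _) (rt ρ y v), h6]
    · have h6 := sw v hv x
      rw [i2 h.o1] at h6
      rw [e_rt, ← h6, e_ap, e_ap, pi5_x (hy5 _) (hxy _), TL.aa, neg_sub]
    · have hE : eE (lf ρ) v = 0 := by
        rw [← Submodule.mem_bot (kb p), ← d1]
        refine ⟨⟨eE_mem _ v, ?_⟩, mem_E1.2 ?_⟩
        · have : eE (lf ρ) v = eE (rt ρ) v := by
            rw [eE_ap, eE_ap, sw2 v hv, sw v hv, sw v hv, i2 h.o1, i2 (tet_o2 h), TR.ab]
          rw [this]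
          exact eE_mem _ v
        · have h6 : lf ρ t (rt ρ t v) = v := by rw [lf_rt, hv _ rfl]
          rw [← lf_rt, eE_ap]
          simp only [map_add, rt_lf, TL.sa, TL.sb, h6, ← TL.ab, TL.bb]
          abel
      let W : Submodule (kb p) V :=
        { carrier := {w | ∀ g, e (lf ρ g w) = 0 ∧ eE (lf ρ) (lf ρ g w) = 0}
          zero_mem' := fun g => by simp only [map_zero, and_self]
          add_mem' := fun {a b} ha hb g => by
            simp only [map_add, (ha g).1, (ha g).2, (hb g).1, (hb g).2, add_zero, and_self]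
          smul_mem' := fun c a ha g => by simp only [map_smul, (ha g).1, (ha g).2, smul_zero, and_self] }
      have hvW : v ∈ W := fun g => by
        rw [sw v hv]
        constructor
        · rw [← e_rt, h0, map_zero]
        · have h6 := congrArg (rt ρ g⁻¹) hE
          rw [eE_ap] at h6 ⊢
          simpa only [map_add, rt_lf, map_zero] using h6
      have hW := rel5 hp (lf ρ) D (N := W) fun g w hw g' => by rw [ap_mul]; exact hw _
      have z3 : W ⊓ sq (lf ρ) x x₂ t y 3 = ⊥ := by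
        rw [eq_bot_iff]
        intro w hw
        have h6 := (hw.1 1).2
        rw [ap_one, eE_ap, mem_E1.1 hw.2.2, mem_E1.1 hw.2.1] at h6
        exact zero_of_smul h2 (zero_of_smul h2 (by linear_combination (norm := module) h6))
      have z6 : W ⊓ sq (lf ρ) x x₂ t y 6 = ⊥ := by
        rw [eq_bot_iff]
        intro w hw
        have h6 := (hw.1 1).1
        have h7 := mem_E1.1 hw.2.1
        rw [ap_one, e_ap, pi5_ap, h7, h7, h7, h7] at h6
        simp only [map_add, mem_Em.1 hw.2.2] at h6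
        exact zero_of_smul h2 (zero_of_smul h5 (by linear_combination (norm := module) h6))
      simp only [Rel5, z3, z6, dm_bot] at hW
      have z0 : dm (W ⊓ sq (lf ρ) x x₂ t y 0) = 0 := by omega
      exact (Submodule.mem_bot (kb p)).1 ((Submodule.finrank_eq_zero.1 z0).le ⟨hvW, Submodule.mem_top⟩)
  obtain ⟨d3, d4⟩ := d2 (by simp only [sq, top_inf_eq]; exact (H5 y D.oy).2) (by
    simp only [k70]
    rw [← dm_def, ← hd]
    exact key)
  simp only [k70] at d3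
  refine ⟨Submodule.finrank_eq_zero.1 d3, fun y' hy' h0 => ?_⟩
  have iB : ∀ g, _root_.Cfsg.Agent.Cam.Odd.Lin.Inv (lf ρ g) (fx (rt ρ) Set.univ) := fun g => inv_fx fun u v => rt_lf ρ g u v
  have c1 : finrank (kb p) ↥(fx (rt ρ) Set.univ ⊓ E (lf ρ y) 1) = finrank (kb p) ↥(fx (rt ρ) Set.univ ⊓ E (lf ρ y') 1) := by
    rcases D.c5 y' hy' with c | c
    · exact conj_eq _ iB c
    · rw [← E_sq D.oy]
      exact conj_eq _ iB c
  have c2 : fx (rt ρ) Set.univ ⊓ E (lf ρ y') 1 ≤ fx ρ {g | g.1 = 1 ∨ g = (y', 1)} := by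
    rintro v hv ⟨a, b⟩ ((rfl : a = 1) | e)
    · exact hv.1 b trivial
    · rw [e]
      exact mem_E1.1 hv.2
  have c3 : dm (sq (lf ρ) x x₂ t y 6 ⊓ sq (rt ρ) x x₂ t y 7) ≤ finrank (kb p) ↥(fx (rt ρ) Set.univ ⊓ E (lf ρ y) 1) :=
    Submodule.finrank_mono fun v hv => ⟨hv.2, hv.1.1⟩
  have c4 := Submodule.finrank_mono c2
  rw [h0, finrank_bot] at c4
  omega

theorem arith2 {n : ℕ → ℕ} (h : Rel5 n) (h7 : n 7 = 0) (h1 : n 0 + n 2 = 8) (h2 : 27 * n 0 + 144 ≤ 81 * n 1) : False := by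
  unfold Rel5 at h
  (solve | lia | omega)

theorem boxP81 : BoxP81 := by
  intro p _ hp V _ _ _ U _ hU P _ hP hP3 ρ hV h0 H2 H3 H
  have : Finite U := hU.elim fun e => Finite.of_equiv _ e.symm.toEquiv
  have := Fintype.ofFinite U
  have : Finite P := Nat.finite_of_card_ne_zero (by omega)
  have := Fintype.ofFinite P
  classical
  obtain ⟨x, x₂, t, y, D⟩ := exists_D5 hU
  have h := D.tet
  have h2 : (2 : kb p) ≠ 0 := by exact_mod_cast cast_ne hp two_pos (by norm_num)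
  have h3 : (3 : kb p) ≠ 0 := by exact_mod_cast cast_ne hp three_pos (by norm_num)
  obtain ⟨ω, hω⟩ := exists_omega h2
  let l : U →* Module.End (kb p) V := ρ.comp (MonoidHom.inl U P)
  let r : P →* Module.End (kb p) V := ρ.comp (MonoidHom.inr U P)
  have lr : ∀ g z, l g * r z = ρ (g, z) := fun g z => by
    show ρ (g, 1) * ρ (1, z) = _
    rw [← map_mul, Prod.mk_mul_mk, mul_one, one_mul]
  have rl : ∀ g z v, r z (l g v) = l g (r z v) := fun g z v => by
    show ρ (1, z) (ρ (g, 1) v) = ρ (g, 1) (ρ (1, z) v)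
    rw [ap_mul, ap_mul, Prod.mk_mul_mk, Prod.mk_mul_mk, mul_one, one_mul, mul_one, one_mul]
  have T := tet_to l h
  have o3 : ∀ z : P, z ≠ 1 → orderOf z = 3 := fun z hz => orderOf_eq_prime (hP3 z) hz
  have hfx : ∀ N : Submodule (kb p) V, dm (N ⊓ sq l x x₂ t y 7) = 0 := fun N => by
    refine Submodule.finrank_eq_zero.2 (eq_bot_iff.2 (inf_le_right.trans (le_trans ?_ h0.le)))
    rintro v hv ⟨a, b⟩ (rfl : b = 1)
    exact hv a trivial
  -- one element
  have hz : ∀ z : P, z ≠ 1 → dm (⊤ ⊓ E (r z) 1) + dm (E (l t) 1 ⊓ E (r z) 1) = 112 ∧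
      dm (⊤ ⊓ E (r z) 1) + 40 ≤ 3 * dm (E (l x) 1 ⊓ E (r z) 1) := by
    intro z hz
    have rs : ∀ v, r z (r z (r z v)) = v := fun v => by
      rw [ap_mul, ap_mul, mul_assoc, cube_of_order (o3 z hz), ap_one]
    have k1 := rel5 hp l D (N := E (r z) 1) fun g => inv_E (rl g z) 1
    have k2 := hfx (E (r z) 1)
    have k6 := r9 h3 hω T.sss rs (fun v => (rl t z v).symm) (Inv.top _) (Inv.top _)
    have k7 : finrank (kb p) ↥(⊤ ⊓ E (ρ (t, z * z)) 1) = finrank (kb p) ↥(⊤ ⊓ E (ρ (t, z)) 1) := by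
      obtain ⟨c, hc⟩ := isConj_iff.1 D.c3
      have e1 : finrank (kb p) ↥(⊤ ⊓ E (ρ (t * t, z * z)) 1) = finrank (kb p) ↥(⊤ ⊓ E (ρ (t, z * z)) 1) := by
        refine conj_eq ρ (fun _ => Inv.top _) (isConj_iff.2 ⟨(c, 1), ?_⟩)
        ext
        · exact hc
        · simp
      have e2 : E (ρ (t * t, z * z)) 1 = E (ρ (t, z)) 1 := by
        ext v
        rw [mem_E1, mem_E1, ← Prod.mk_mul_mk, ← ap_mul]
        refine ⟨fun k => ?_, fun k => by rw [k, k]⟩
        have e3 : ρ (t, z) (ρ (t, z) (ρ (t, z) v)) = v := by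
          rw [ap_mul, ap_mul, Prod.mk_mul_mk, Prod.mk_mul_mk, mul_assoc, mul_assoc, cube_of_order h.o3,
            cube_of_order (o3 z hz)]
          exact ap_one ρ v
        rwa [k] at e3
      rw [← e1, e2]
    rw [← map_mul r, lr, lr, k7, finrank_top, top_inf_eq, top_inf_eq, top_inf_eq, hV] at k6
    have k12 : E (l x) 1 ⊓ E (r z) 1 = E (ρ (x, z)) 1 := by
      rw [← lr]
      exact cop23 T.aa rs (rl x z)
    have k8 := H x t z h.o1 h.o3 hz
    have k9 := H3 t h.o3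
    change dm (E (l t) 1) = 80 at k9
    change (dm (E (r z) 1) = 80 ∧ dm (E (ρ (t, z)) 1) = 92 ∧ (dm (E (ρ (x, z)) 1) = 40 ∨ dm (E (ρ (x, z)) 1) = 64)) ∨
      (dm (E (r z) 1) = 86 ∧ (dm (E (ρ (t, z)) 1) = 80 ∨ dm (E (ρ (t, z)) 1) = 134) ∧
        (dm (E (ρ (x, z)) 1) = 42 ∨ dm (E (ρ (x, z)) 1) = 54)) at k8
    obtain ⟨-, -, -, k10, -⟩ := k1
    simp only [k2] at k10
    simp only [sq, inf_top_eq] at k10
    rw [inf_comm _ (E (l x) 1), inf_comm _ (E (l t) 1), k12] at k10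
    simp only [dm_def] at k6
    rw [top_inf_eq, k12]
    (clear * - k6 k9 k8 k10; solve | lia | omega)
  have hc : Fintype.card P = 81 := by rw [← Nat.card_eq_fintype_card, hP]
  have art : ∀ N : Submodule (kb p) V, (∀ z, _root_.Cfsg.Agent.Cam.Odd.Lin.Inv (r z) N) →
      162 * dm (N ⊓ fx r Set.univ) + 78 * dm N = 3 * ∑ z ∈ Finset.univ.erase 1, dm (N ⊓ E (r z) 1) := by
    intro N hN
    have k := artinN (p := p) (by
      rw [hP]
      intro hd
      have hpp : p.Prime := Fact.out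
      exact absurd (Nat.le_of_dvd three_pos (hpp.dvd_of_dvd_pow (show p ∣ 3 ^ 4 from hd))) (by omega))
      (fun z hz => by rw [o3 z hz]; exact Nat.prime_three) r hN
    have k1 : ∀ z ∈ Finset.univ.erase (1 : P), omN r N z = 3 / 2 * (dm (N ⊓ E (r z) 1) : ℚ) - dm N / 2 := fun z hz => by
      have k2 := Finset.ne_of_mem_erase hz
      rw [omN, if_neg k2, o3 z k2]
      push_cast
      ring
    rw [← Finset.add_sum_erase _ _ (Finset.mem_univ 1), Finset.sum_congr rfl k1, Finset.sum_sub_distrib,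
      ← Finset.mul_sum, Finset.sum_const, Finset.card_erase_of_mem (Finset.mem_univ 1), Finset.card_univ, hc, omN,
      if_pos rfl, nsmul_eq_mul] at k
    have k3 : (162 * dm (N ⊓ fx r Set.univ) + 78 * dm N : ℚ) =
        3 * ∑ z ∈ Finset.univ.erase 1, (dm (N ⊓ E (r z) 1) : ℚ) := by
      push_cast at k
      linarith only [k]
    exact_mod_cast k3
  have a0 := art ⊤ fun _ => Inv.top _
  have a1 := art (E (l x) 1) fun z => inv_E (fun v => (rl x z v).symm) 1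
  have a2 := art (E (l t) 1) fun z => inv_E (fun v => (rl t z v).symm) 1
  have s1 := Finset.sum_congr rfl fun z (hz' : z ∈ Finset.univ.erase (1 : P)) => (hz z (Finset.ne_of_mem_erase hz')).1
  have s2 := Finset.sum_le_sum fun z (hz' : z ∈ Finset.univ.erase (1 : P)) => (hz z (Finset.ne_of_mem_erase hz')).2
  rw [Finset.sum_add_distrib, Finset.sum_const, Finset.card_erase_of_mem (Finset.mem_univ 1), Finset.card_univ, hc,
    smul_eq_mul] at s1 s2
  rw [← Finset.mul_sum] at s2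
  have k1 := H2 x h.o1
  have k2 := H3 t h.o3
  change dm (E (l x) 1) = 120 at k1
  change dm (E (l t) 1) = 80 at k2
  rw [dm_top, hV] at a0
  rw [inf_comm] at a0 a1 a2
  refine arith2 (rel5 hp l D (N := fx r Set.univ) fun g => inv_fx fun u v => rl g u v) (hfx _) ?_ ?_
  · simp only [sq]
    omega
  · simp only [sq]
    (clear * - a0 a1 s2 k1; omega)

end Cfsg.Agent.Cam.E8O.A5
end

private theorem dce_806c26f64c54 : _root_.True := by
  try have : _root_.True := by simp only [_root_.Cfsg.Agent.Cam.E8O.A5.sq.eq_5]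
  try have : _root_.True := by simp only [_root_.Cfsg.Agent.Cam.E8O.A5.sq.eq_1]
  try have : _root_.True := by simp only [_root_.Cfsg.Agent.Cam.E8O.A5.Rel5.eq_1]
  try have : _root_.True := by simp only [_root_.Cfsg.Agent.Cam.E8O.Asm.mu.eq_1]
  try have : _root_.True := by simp only [_root_.Cfsg.Agent.Cam.E8O.A5.omN.eq_1]
  try have : _root_.True := by simp only [_root_.Cfsg.Agent.Cam.E8O.A2.G0.eq_1]
  try have : _root_.True := by simp only [_root_.Cfsg.Agent.Cam.E8O.A5.sq.eq_2]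
  try have : _root_.True := by simp only [_root_.Cfsg.Agent.Cam.E8O.A2.sqM.eq_1]
  try have : _root_.True := by simp only [_root_.Cfsg.Agent.Cam.E8O.A5.sq.eq_6]
  try have : _root_.True := by simp only [_root_.Cfsg.Agent.Cam.E8O.A5.sq.eq_4]
  try have : _root_.True := by simp only [_root_.Cfsg.Agent.Cam.E8O.A5.sq.eq_8]
  try have : _root_.True := by simp only [_root_.Cfsg.Agent.Cam.E8O.A5.sq.eq_7]
  try have : _root_.True := by simp only [_root_.Cfsg.Agent.Cam.E8O.A5.sq.eq_3]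
  exact _root_.True.intro
end

-- part: Cam/Q2/S7a
section
set_option linter.all false
open scoped Cfsg.Agent.FastGrp

/-!
# S3690, the group `E₈(2)`: `boxS7a` (helper77)
-/

set_option autoImplicit false
set_option linter.unusedVariables false
set_option linter.unusedSectionVars false

namespace Cfsg.Agent.Cam.Q2

open CoxeterSystem Cfsg Cfsg.Lie Subgroup
open Cfsg.Agent.ChevalleyStructure.CoxeterGeom Cfsg.Agent.ChevalleyStructure.CoxeterGeomTypes
open Cfsg.Agent.Tits.Roots Cfsg.Agent.Nodes.BNOf Cfsg.Agent.Nodes.RGDChev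
open Cfsg.Agent.KFacts.RgdChevCoord
open Cfsg.Agent.Cam.Spor Cfsg.Agent.Cam.Ex Cfsg.Agent.H795

namespace S7a

theorem conj_iter {U : Type} [Group U] {u v : U} {k : ℕ} (h : v * u * v⁻¹ = u ^ k) (n : ℕ) :
    v ^ n * u * (v ^ n)⁻¹ = u ^ k ^ n := by
  induction n with
  | zero => simp
  | succ n ih =>
    rw [show v ^ (n + 1) * u * (v ^ (n + 1))⁻¹ = v * (v ^ n * u * (v ^ n)⁻¹) * v⁻¹ by group, ih, ← conj_pow, h,
      ← pow_mul, pow_succ' k]

theorem conj_cases {U : Type} [Group U] {u v : U} (hu : orderOf u = 7) {k : ℕ} (h2 : 2 ≤ k) (h7 : k < 7)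
    (h : v * u * v⁻¹ = u ^ k) : ∃ v : U, v * u * v⁻¹ = u⁻¹ ∨ v * u * v⁻¹ = u ^ 2 := by
  have key : ∀ n, k ^ n % 7 = 2 → ∃ v : U, v * u * v⁻¹ = u⁻¹ ∨ v * u * v⁻¹ = u ^ 2 := fun n hn =>
    ⟨v ^ n, Or.inr (by rw [conj_iter h, ← pow_mod_orderOf, hu, hn])⟩
  interval_cases k
  · exact key 1 rfl
  · exact key 2 rfl
  · exact key 2 rfl
  · exact key 4 rfl
  · exact ⟨v, Or.inl (h.trans (eq_inv_of_mul_eq_one_left (by rw [← pow_succ, show 6 + 1 = orderOf u from hu.symm, pow_orderOf_eq_one])))⟩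

variable {L : Type} [Group L] [Finite L] {U : Type} [Group U] [Finite U] {τ α β : U →* L} {R R' : Subgroup L}

/-- abelian `r`-subgroups are toral in a conjugate frame, `r ≥ 7` -/
theorem exists_tor (E : F8 L) {r : ℕ} (hr : r.Prime) (h7 : 7 ≤ r) {Q : Subgroup L} (hQ : IsPGroup r Q)
    (hab : ∀ x ∈ Q, ∀ y ∈ Q, x * y = y * x) : ∃ E' : F8 L, E'.e = E.e ∧ ∀ x ∈ Q, E'.ι x ∈ TT chevE8 (kb 2) := by
  have hfin : Finite (Q.map E.ι) := Finite.of_surjective _ (E.ι.subgroupMap_surjective Q)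
  obtain ⟨h1, h2⟩ := RowsA.torsE8 tE8 hr (by omega) (by omega)
  obtain ⟨g, hg⟩ := TorSub.exists_toral_abelian tE8 2 (H469.Exc.locFin 2) hr (by omega) h1 h2 (hQ.map E.ι) (by
    rintro _ ⟨x, hx, rfl⟩ _ ⟨y, hy, rfl⟩
    rw [← map_mul, ← map_mul, hab x hx y hy])
  obtain ⟨E', h3, h4⟩ := E.exists_cj (Q := Q) (Set.toFinite _) (g := g) fun x hx => hg _ ⟨x, hx, rfl⟩
  exact ⟨E', h3.1, fun x hx => by rw [h4 x hx]; exact hg _ ⟨x, hx, rfl⟩⟩

/-- toral elements of prime order `≥ 7` are standard -/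
theorem std (big : Big) (nf : BoxNF) (E : F8 L) (he : E.e = 1) (c : Core τ α β R R') {r : ℕ} [hr : Fact r.Prime]
    (h7 : 7 ≤ r) {ζ : kb 2} (hζ : IsPrimitiveRoot ζ r) {u : U} (hu : orderOf u = r) {X : Lat 8 →+ ZMod r}
    (hX : Chi tE8 ζ (E.ι (τ u)) X) : r = 7 ∧ Std X := by
  obtain ⟨w, hw⟩ := E.gr
  have h1 := P.k1 E big c hr.out (by omega) (Q := {u}) (by
    rintro _ rfl
    exact ⟨by rw [← hu, pow_orderOf_eq_one], hX.1⟩)
  rw [Set.image_singleton, hX.psiS hζ] at h1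
  refine nf r hr.out h7 X w (hX.ne_zero hζ boxChi fun e => ?_) h1 fun a => ?_
  · rw [c.pair.inj (E.inj (e.trans (by rw [map_one, map_one]) : _ = E.ι (τ 1))), orderOf_one] at hu
    omega
  · have h2 := hX.frob hζ boxChi E (E.fix _) a
    rwa [hw, sg_apply, Units.val_one, one_smul, Frame.q, he, pow_one, Nat.cast_ofNat] at h2

/-- no toral subgroup `7 ^ 2` -/
theorem mem_zpowers (big : Big) (lat : BoxLat) (E : F8 L) (he : E.e = 1) (c : Core τ α β R R') {x y : U}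
    (hx : orderOf x = 7) (hy : orderOf y = 7) (hc : Commute x y) (tx : E.ι (τ x) ∈ TT chevE8 (kb 2))
    (ty : E.ι (τ y) ∈ TT chevE8 (kb 2)) : y ∈ zpowers x := by
  have : Fact (Nat.Prime 7) := ⟨by norm_num⟩
  by_contra h
  obtain ⟨ζ, hζ⟩ := exists_zeta 2 (m := 7) (by norm_num)
  have x7 : x ^ 7 = 1 := by rw [← hx, pow_orderOf_eq_one]
  have y7 : y ^ 7 = 1 := by rw [← hy, pow_orderOf_eq_one]
  obtain ⟨X, hX⟩ := chi_ex tE8 hζ (by norm_num) tx (by rw [← map_pow, ← map_pow, x7, map_one, map_one])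
  obtain ⟨Y, hY⟩ := chi_ex tE8 hζ (by norm_num) ty (by rw [← map_pow, ← map_pow, y7, map_one, map_one])
  have h1 := lat.l3 X Y fun i j hi hj hij => (std big lat.nf E he c le_rfl hζ (u := x ^ i * y ^ j)
    (orderOf_eq_prime (by rw [(hc.pow_pow i j).mul_pow, pow_right_comm, x7, pow_right_comm, y7, one_pow, one_pow, one_mul])
      fun e => by
        rcases Nat.eq_zero_or_pos j with rfl | h0
        · rw [pow_zero, mul_one] at e
          have := Nat.le_of_dvd (by omega) (hx ▸ orderOf_dvd_of_pow_eq_one e)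
          omega
        · refine h ((zpowers_le.2 ?_ : zpowers (y ^ j) ≤ zpowers x) (mem_zpowers_pow_iff.2 ?_))
          · rw [eq_inv_of_mul_eq_one_right e]
            exact inv_mem (pow_mem (Subgroup.mem_zpowers x) i)
          · rw [hy]
            exact (Nat.coprime_of_lt_prime h0.ne' hj (by norm_num)).symm)
    (by
      rw [map_mul, map_mul, map_pow, map_pow, map_pow, map_pow]
      exact (Five2.chi_pow hζ hX i).mul hζ (Five2.chi_pow hζ hY j))).2
  refine P.k1 E big c (r := 7) (by norm_num) (by norm_num) (Q := {x, y}) (by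
    rintro _ (rfl | rfl)
    exacts [⟨x7, tx⟩, ⟨y7, ty⟩]) (sr 0) (isRoot_sr _ _ 0) fun a ha => (h1 a ha.1 ?_ ?_).elim
  · exact (zeta_eq_one hζ).1 ((hX.2 a ha.1).symm.trans (ha.2 _ ⟨x, Or.inl rfl, rfl⟩))
  · exact (zeta_eq_one hζ).1 ((hY.2 a ha.1).symm.trans (ha.2 _ ⟨y, Or.inr rfl, rfl⟩))

end S7a

open S7a Ub in
/-- **[S7a]** -/
theorem boxS7a : BoxS7a := by
  intro big lat L _ _ E he U _ _ τ α β R R' c r hr h7 hd
  classical
  have : Fact r.Prime := ⟨hr⟩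
  obtain ⟨A, hA, hab, v, σ, hσ, hv⟩ := exists_aut c.simple c.noncomm hr hd
  have h1 : ∀ a ∈ α '' A ∪ β '' A, ∀ b ∈ α '' A ∪ β '' A, a * b = b * a := by
    rintro _ (⟨a, ha, rfl⟩ | ⟨a, ha, rfl⟩) _ (⟨b, hb, rfl⟩ | ⟨b, hb, rfl⟩)
    · rw [← map_mul, ← map_mul, hab a ha b hb]
    · exact c.ab a b
    · exact (c.ab b a).symm
    · rw [← map_mul, ← map_mul, hab a ha b hb]
  have h2 : ∀ (f : U →* L), ∀ a ∈ A, ∃ n : ℕ, f a ^ r ^ n = 1 := fun f a ha => by
    obtain ⟨n, hn⟩ := hA ⟨a, ha⟩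
    exact ⟨n, by rw [← map_pow, show a ^ r ^ n = 1 from congrArg Subtype.val hn, map_one]⟩
  obtain ⟨E', he', hE⟩ := exists_tor E hr h7 (Q := closure (α '' A ∪ β '' A)) (DS.Nt.isPGroup_of_comm h1 (by
    rintro _ (⟨a, ha, rfl⟩ | ⟨a, ha, rfl⟩)
    exacts [h2 α a ha, h2 β a ha])) fun a ha b hb => by
    have := Subgroup.isMulCommutative_closure h1
    exact setLike_mul_comm ha hb
  rw [he] at he'
  have ha : ∀ a : A, E'.ι (α a) ∈ TT chevE8 (kb 2) := fun a => hE _ (subset_closure (Or.inl ⟨a, a.2, rfl⟩))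
  have hb : ∀ a : A, E'.ι (β a) ∈ TT chevE8 (kb 2) := fun a => hE _ (subset_closure (Or.inr ⟨a, a.2, rfl⟩))
  have ht : ∀ a : A, E'.ι (τ a) ∈ TT chevE8 (kb 2) := fun a => by
    rw [c.eq, map_mul]; exact mul_mem (ha a) (hb a)
  have h3 : orderOf σ ≠ 7 := fun h => (RowsA.torsE8 tE8 hσ (by omega) (by omega)).1 (sq_dvd tE8
    (f := E'.ι.comp (α.comp A.subtype)) (g := E'.ι.comp (β.comp A.subtype))
    (E'.inj.comp (c.pair'.inj.comp Subtype.val_injective))
    (E'.inj.comp (c.binj.comp Subtype.val_injective)) ha hb σ (x := E'.ι (α v)) (y := E'.ι (β v)) (fun a => by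
      show _ * E'.ι (α a) * _ = E'.ι (α (σ a))
      rw [hv, map_mul, map_mul, map_mul, map_mul, map_inv, map_inv]) (fun a => by
      show _ * E'.ι (β a) * _ = E'.ι (β a)
      rw [← map_mul, c.ab, map_mul, mul_inv_cancel_right]) (fun a => by
      show _ * E'.ι (α a) * _ = E'.ι (α a)
      rw [← map_mul, ← c.ab, map_mul, mul_inv_cancel_right]) fun a => by
      show _ * E'.ι (β a) * _ = E'.ι (β (σ a))
      rw [hv, map_mul, map_mul, map_mul, map_mul, map_inv, map_inv])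
  let _ : CommGroup A := { (inferInstance : Group A) with mul_comm := fun a b => Subtype.ext (hab a a.2 b b.2) }
  obtain ⟨u, hu, hn⟩ := exists_norm hr hA (σ := σ) (m := orderOf σ) (fun e => by
    rw [e, orderOf_one] at hσ
    exact Nat.not_prime_one hσ) (pow_orderOf_eq_one σ)
  have hu' : orderOf (u : U) = r := by rw [Subgroup.orderOf_coe, hu]
  obtain ⟨ζ, hζ⟩ := exists_zeta 2 (m := r) ((Nat.coprime_primes hr Nat.prime_two).2 (by omega))
  obtain ⟨X, hX⟩ := chi_ex tE8 hζ hr.pos (ht u) (by rw [← map_pow, ← map_pow, ← hu', pow_orderOf_eq_one, map_one, map_one])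
  obtain rfl := (std big lat.nf E' he' c h7 hζ hu' hX).1
  have h4 : orderOf (σ u : U) = 7 := by rw [Subgroup.orderOf_coe, MulEquiv.orderOf_eq, hu]
  obtain ⟨k, hk, h5⟩ := Finset.mem_image.1 (mem_zpowers_iff_mem_range_orderOf.1
    (mem_zpowers big lat E' he' c hu' h4 (hab _ u.2 _ (σ u).2) (ht _) (ht _)))
  rw [hu', Finset.mem_range] at hk
  have h6 : k ≠ 0 := by
    rintro rfl
    rw [← h5, pow_zero, orderOf_one] at h4
    omega
  have h8 : k ≠ 1 := by
    rintro rfl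
    have h9 : σ u = u := Subtype.ext (h5.symm.trans (pow_one _))
    have h10 : ∀ i : ℕ, (σ ^ i) u = u := fun i => by
      induction i with
      | zero => rfl
      | succ i ih => rw [pow_succ, MulAut.mul_apply, h9, ih]
    rw [Finset.prod_congr rfl fun i _ => h10 i, Finset.prod_const, Finset.card_range] at hn
    exact h3 ((Nat.prime_dvd_prime_iff_eq hr hσ).1 (hu ▸ orderOf_dvd_of_pow_eq_one hn)).symm
  obtain ⟨v', h9⟩ := conj_cases hu' (by omega) hk ((hv u).symm.trans h5.symm)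
  exact ⟨u, v', hu', h9⟩

end Cfsg.Agent.Cam.Q2
end

-- part: Cam/E8/OE16a
section
prune_inst 0x43530696475e2120000188090b3001e27ee00010000080800a8e20d060dc9ee62a042a821aeb0040612be9ccc38350048109800300010000000003000011f01a0982b5206b718af0c7e0089800004400000000000000000000000000000000004000000000
set_option linter.all false
open scoped Cfsg.Agent.FastGrp

/-!
# S3690, the row `E₈`, the box E16: linear algebra (helper75)

Two commuting four-groups `⟨a₁, a₂⟩`, `⟨b₁, b₂⟩` on a space of dimension `248`.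
-/

set_option autoImplicit false
set_option linter.unusedSectionVars false

namespace Cfsg.Agent.Cam.E8O.E16

open Module Cfsg.Agent.Cam.Odd.Lin

variable {K V : Type} [Field K] [AddCommGroup V] [Module K V] [FiniteDimensional K V]

/-- commuting operators -/
def Cm (f g : Module.End K V) : Prop := ∀ v, f (g v) = g (f v)

theorem Cm.symm {f g : Module.End K V} (h : Cm f g) : Cm g f := fun v => (h v).symm

theorem Cm.inv {f g : Module.End K V} (h : Cm f g) (c : K) : Inv g (E f c) := inv_E h c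

theorem inv_fix {a b s : Module.End K V} (h : TO a b s) {N : Submodule K V} (hN : Inv s N) :
    Inv s (N ⊓ E a 1 ⊓ E b 1) := fun v hv => by
  have h1 := h.wt (mem_E.1 hv.1.2) (mem_E.1 hv.2)
  rw [one_mul] at h1
  exact ⟨⟨hN v hv.1.1, mem_E.2 h1.1⟩, mem_E.2 h1.2⟩

/-- a unipotent operator with `(s - 1) ^ 3 = 0` -/
theorem uni3 {n : Module.End K V} (hn : ∀ v, n (n (n v)) = 0) {N : Submodule K V} (hN : Inv n N) :
    finrank K N ≤ 3 * finrank K ↥(N ⊓ LinearMap.ker n) := by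
  have l1 : N.map n ≤ N := by
    rintro _ ⟨v, hv, rfl⟩
    exact hN v hv
  have l2 : (N.map n).map n ≤ N.map n := Submodule.map_mono l1
  have l3 : ((N.map n).map n).map n = ⊥ := by
    rw [eq_bot_iff]
    rintro _ ⟨_, ⟨_, ⟨v, _, rfl⟩, rfl⟩, rfl⟩
    exact (Submodule.mem_bot K).2 (hn v)
  have k1 := ker_map N n
  have k2 := ker_map (N.map n) n
  have k3 := ker_map ((N.map n).map n) n
  have k4 := Submodule.finrank_mono (inf_le_inf_right (LinearMap.ker n) l1)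
  have k5 := Submodule.finrank_mono (inf_le_inf_right (LinearMap.ker n) (l2.trans l1))
  rw [l3, finrank_bot] at k3
  omega

theorem ker_sub_one (s : Module.End K V) : LinearMap.ker (s - 1) = E s 1 := by
  ext v
  rw [LinearMap.mem_ker, mem_E1, LinearMap.sub_apply, Module.End.one_apply, sub_eq_zero]

theorem nil_of_three (h3 : (3 : K) = 0) {s : Module.End K V} (hs : ∀ v, s (s (s v)) = v) (v : V) :
    (s - 1) ((s - 1) ((s - 1) v)) = 0 := by
  simp only [LinearMap.sub_apply, Module.End.one_apply, map_sub, hs]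
  linear_combination (norm := module) h3 • (s v - s (s v))

theorem inv_sub_one {s : Module.End K V} {N : Submodule K V} (hN : Inv s N) : Inv (s - 1) N :=
  fun v hv => sub_mem (hN v hv) hv

theorem fix3 (h3 : (3 : K) = 0) {s : Module.End K V} (hs : ∀ v, s (s (s v)) = v) {N : Submodule K V} (hN : Inv s N) :
    finrank K N ≤ 3 * finrank K ↥(N ⊓ E s 1) := by
  rw [← ker_sub_one]
  exact uni3 (nil_of_three h3 hs) (inv_sub_one hN)

/-- a space spanned by fixed vectors and a small invariant subspace -/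
theorem fix_ge (h3 : (3 : K) = 0) {s : Module.End K V} (hs : ∀ v, s (s (s v)) = v) {M U : Submodule K V}
    (hU : Inv s U) (h : M ≤ E s 1 ⊔ U) : 3 * finrank K M ≤ 3 * finrank K ↥(M ⊓ E s 1) + 2 * finrank K U := by
  have h1 := map_le_add (s - 1) h
  have h2 : (E s 1).map (s - 1) = ⊥ := by
    rw [← ker_sub_one, eq_bot_iff]
    rintro _ ⟨v, hv, rfl⟩
    exact hv
  have h4 := ker_map M (s - 1)
  have h5 := ker_map U (s - 1)
  have h6 := fix3 h3 hs hU
  rw [ker_sub_one] at h4 h5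
  rw [h2, finrank_bot] at h1
  omega

/-- two commuting four-groups -/
structure QQ (a₁ a₂ b₁ b₂ : Module.End K V) : Prop where
  c11 : Cm a₁ b₁
  c12 : Cm a₁ b₂
  c21 : Cm a₂ b₁
  c22 : Cm a₂ b₂
  two : (2 : K) ≠ 0
  dim : finrank K V = 248
  d1 : finrank K (E a₁ 1) = 120
  d0 : finrank K ↥(⊤ ⊓ E a₁ 1 ⊓ E a₂ 1 ⊓ E b₁ 1 ⊓ E b₂ 1) = 8

namespace QQ

variable {a₁ a₂ b₁ b₂ s t k h : Module.End K V} (H : QQ a₁ a₂ b₁ b₂)
include H

theorem i1 {N : Submodule K V} (hN : Inv b₁ N) : Inv b₁ (N ⊓ E a₁ 1 ⊓ E a₂ 1) :=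
  (hN.inf (H.c11.inv 1)).inf (H.c21.inv 1)

theorem i2 {N : Submodule K V} (hN : Inv b₂ N) : Inv b₂ (N ⊓ E a₁ 1 ⊓ E a₂ 1) :=
  (hN.inf (H.c12.inv 1)).inf (H.c22.inv 1)

theorem d64 (hA : TO a₁ a₂ s) :
    finrank K ↥(⊤ ⊓ E a₁ 1 ⊓ E a₂ 1) = 56 ∧ finrank K ↥(⊤ ⊓ E a₁ 1 ⊓ E a₂ (-1)) = 64 := by
  obtain ⟨h1, h2, -⟩ := hA.dims (Inv.top _) H.two (Inv.top _) (Inv.top _)
  have h3 := H.d1
  rw [← top_inf_eq (E a₁ 1)] at h3
  rw [finrank_top, H.dim] at h1
  omega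

theorem d16 (hA : TO a₁ a₂ s) (hB : TO b₁ b₂ t) (ht : Inv t (⊤ ⊓ E a₁ 1 ⊓ E a₂ 1)) :
    finrank K ↥(⊤ ⊓ E a₁ 1 ⊓ E a₂ 1 ⊓ E b₁ 1 ⊓ E b₂ (-1)) = 16 := by
  have h1 := (hB.dims ht H.two (H.i1 (Inv.top _)) (H.i2 (Inv.top _))).1
  have h2 := (H.d64 hA).1
  have h3 := H.d0
  omega

/-- the diagonal elements -/
theorem diag (hA : TO a₁ a₂ k) (hB : TO b₁ b₂ k) :
    finrank K (E k 1) = 80 + finrank K ↥(⊤ ⊓ E a₁ 1 ⊓ E a₂ 1 ⊓ E b₁ 1 ⊓ E b₂ 1 ⊓ E k 1) := by
  have ht := inv_fix hA (Inv.top _)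
  have h1 := hA.fix (Inv.top _) H.two (Inv.top _) (Inv.top _)
  have h2 := hB.fix ht H.two (H.i1 (Inv.top _)) (H.i2 (Inv.top _))
  have h3 := (H.d64 hA).2
  have h4 := H.d16 hA hB ht
  rw [top_inf_eq (E k 1)] at h1
  omega

theorem diag_le (hA : TO a₁ a₂ k) (hB : TO b₁ b₂ k) : finrank K (E k 1) ≤ 88 := by
  have h1 := H.diag hA hB
  have h2 := Submodule.finrank_mono (inf_le_left (a := ⊤ ⊓ E a₁ 1 ⊓ E a₂ 1 ⊓ E b₁ 1 ⊓ E b₂ 1) (b := E k 1))
  have h3 := H.d0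
  omega

/-- the operators that commute with everything -/
theorem mod3 (hA : TO a₁ a₂ k) (hB : TO b₁ b₂ k) (h1 : Cm h a₁) (h2 : Cm h a₂) (h3 : Cm h b₁) (h4 : Cm h b₂)
    (h5 : Cm h k) (hF : ⊤ ⊓ E a₁ 1 ⊓ E a₂ 1 ⊓ E b₁ 1 ⊓ E b₂ 1 ≤ E h 1) : finrank K (E h 1) % 3 = 2 := by
  have k1 := (hA.dims (h5.inv 1) H.two (h1.inv 1) (h2.inv 1)).1
  have k2 := (hB.dims (inv_fix hA (h5.inv 1)) H.two (H.i1 (h3.inv 1)) (H.i2 (h4.inv 1))).1
  have k3 : E h 1 ⊓ E a₁ 1 ⊓ E a₂ 1 ⊓ E b₁ 1 ⊓ E b₂ 1 = ⊤ ⊓ E a₁ 1 ⊓ E a₂ 1 ⊓ E b₁ 1 ⊓ E b₂ 1 :=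
    le_antisymm (fun v hv => ⟨⟨⟨⟨trivial, hv.1.1.1.2⟩, hv.1.1.2⟩, hv.1.2⟩, hv.2⟩)
      fun v hv => ⟨⟨⟨⟨hF hv, hv.1.1.1.2⟩, hv.1.1.2⟩, hv.1.2⟩, hv.2⟩
  have k4 := H.d0
  rw [k3] at k2
  omega

variable (hA : TO a₁ a₂ s) (hB : TO b₁ b₂ t) (s1 : Cm s b₁) (s2 : Cm s b₂) (t1 : Cm t a₁) (t2 : Cm t a₂) (st : Cm s t)
include hA hB t1 t2 st

/-- the last inequality -/
theorem last : 3 * finrank K ↥(E t 1 ⊓ E a₁ 1) ≤ finrank K (E t 1) + 48 := by
  have ht : Inv t (⊤ ⊓ E a₁ 1 ⊓ E a₂ 1) := ((Inv.top _).inf (t1.symm.inv 1)).inf (t2.symm.inv 1)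
  obtain ⟨k1, k2, -⟩ := hA.dims (st.symm.inv 1) H.two (t1.inv 1) (t2.inv 1)
  have k3 := hB.fix ht H.two (H.i1 (Inv.top _)) (H.i2 (Inv.top _))
  have k4 := H.d16 hA hB ht
  have k5 := Submodule.finrank_mono (inf_le_left (a := ⊤ ⊓ E a₁ 1 ⊓ E a₂ 1 ⊓ E b₁ 1 ⊓ E b₂ 1) (b := E t 1))
  have k6 := H.d0
  have k7 : ⊤ ⊓ E a₁ 1 ⊓ E a₂ 1 ⊓ E t 1 = E t 1 ⊓ E a₁ 1 ⊓ E a₂ 1 :=
    le_antisymm (fun v hv => ⟨⟨hv.2, hv.1.1.2⟩, hv.1.2⟩) fun v hv => ⟨⟨⟨trivial, hv.1.2⟩, hv.2⟩, hv.1.1⟩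
  rw [k7] at k3
  omega

include s1 s2

/-- characteristic three -/
theorem three (h3 : (3 : K) = 0)
    (h8 : 8 ≤ finrank K ↥(⊤ ⊓ E a₁ 1 ⊓ E a₂ 1 ⊓ E b₁ 1 ⊓ E b₂ (-1) ⊓ E s 1)) : 89 ≤ finrank K (E s 1) := by
  have ht : Inv t (⊤ ⊓ E a₁ 1 ⊓ E a₂ 1) := ((Inv.top _).inf (t1.symm.inv 1)).inf (t2.symm.inv 1)
  have k1 := hA.fix (Inv.top _) H.two (Inv.top _) (Inv.top _)
  have k2 := (hB.dims (ht.inf (st.inv 1)) H.two ((H.i1 (Inv.top _)).inf (s1.inv 1))
    ((H.i2 (Inv.top _)).inf (s2.inv 1))).1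
  have k3 := (H.d64 hA).2
  have k4 := fix3 h3 hA.sss (((inv_fix hA (Inv.top _)).inf (s1.symm.inv 1)).inf (s2.symm.inv 1))
  have k5 := H.d0
  have k6 : ∀ c : K, ⊤ ⊓ E a₁ 1 ⊓ E a₂ 1 ⊓ E s 1 ⊓ E b₁ 1 ⊓ E b₂ c = ⊤ ⊓ E a₁ 1 ⊓ E a₂ 1 ⊓ E b₁ 1 ⊓ E b₂ c ⊓ E s 1 :=
    fun c => le_antisymm (fun v hv => ⟨⟨⟨hv.1.1.1, hv.1.2⟩, hv.2⟩, hv.1.1.2⟩)
      fun v hv => ⟨⟨⟨hv.1.1.1, hv.2⟩, hv.1.1.2⟩, hv.1.2⟩
  rw [k6, k6] at k2
  rw [top_inf_eq (E s 1)] at k1
  omega

end QQ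

end Cfsg.Agent.Cam.E8O.E16
end
end
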