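import Cfsg.Agent.Cam.E8.OJTab
import Cfsg.Agent.Cam.Odd.One_mg_m3
import Cfsg.Agent.E8A.Fix.Main_m3
import Cfsg.Agent.Cam.Q2.Num_m3
import Cfsg.Agent.Cam.E8.OAsmC_mg_m3
import Cfsg.Agent.H129.TorusChar
import Cfsg.Agent.BpExc.LangFr
import Cfsg.Agent.H460.IFO.Fac
import Cfsg.Agent.H143.ChevBlocks
import Cfsg.Agent.H230.RelTwo
import Cfsg.Agent.H209.CosetGraphThree
import Cfsg.Agent.S0205
import Cfsg.Agent.FastGrp
import Cfsg.Agent.Prune
set_option linter.all false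

section
prune_inst 0x7ffc2df8a9b8b3feffff7e7faed8dffdd9d13fffa4dff9437fe0e1ff2bdf630009a523ad8de010fe1e56421410a87b43fb7eefffe86bdc7ff3fd5ff41ffbee4ff5f6350851d488340f380ff783f07f8a6f3fffffffffffffffffffffffffffbeffffffffffff

-- part: Cam/E8/OJA
section
prune_inst 0x1d20556044c010000018050270002262ac00042200688000c060010000c8af640d8121219c60101a0a0a88550009004811000070422000c00a00000001190080180052029348a10c640080808004410000000000000000000000000000000000000000000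
set_option linter.all false
open scoped Cfsg.Agent.FastGrp

/-!
# S3690, the row `E₈`, odd characteristic, `BoxJ`: the algebraic group (helper91)

`ja_std` : the centre of a root `SL₂`; `JA.conj` : conjugation.
-/

set_option autoImplicit false
set_option linter.unusedVariables false
set_option maxRecDepth 100000

namespace Cfsg.Agent.Cam.E8O.J

open CoxeterSystem Cfsg Cfsg.Lie Subgroup Module
open Cfsg.Agent.Tits.Roots Cfsg.Agent.Nodes.BNOf Cfsg.Agent.Nodes.RGDChev Cfsg.Agent.KFacts.RgdChevCoord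
open Cfsg.Agent.ChevalleyStructure.CoxeterGeom Cfsg.Agent.ChevalleyStructure.CoxeterGeomTypes
open Cfsg.Agent.Cam.Spor Cfsg.Agent.Cam.Ex Cfsg.Agent.Cam.Ex.S2 Cfsg.Agent.Cam.Odd
open Cfsg.Agent.DS.Nt (dd ad RP)
open Cfsg.Agent.DS.Nt.P8 (gr gr_neg)
open Cfsg.Agent.ChevalleyStructure.SL2Hom (up lo)
open Cfsg.Agent.Nodes.RGDFoldSL (hS)

variable {p : ℕ} [Fact p.Prime] {c : Lat 8}

theorem neg_one_zpow {k : Type*} [Field k] (n : ℤ) : (-1 : k) ^ n = (-1) ^ (n : ZMod 2).val := by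
  rcases Int.even_or_odd' n with ⟨m, rfl | rfl⟩
  · rw [(even_two_mul m).neg_one_zpow, Int.cast_mul, show ((2 : ℤ) : ZMod 2) = 0 from rfl, zero_mul, ZMod.val_zero,
      pow_zero]
  · rw [(odd_two_mul_add_one m).neg_one_zpow, Int.cast_add, Int.cast_mul, show ((2 : ℤ) : ZMod 2) = 0 from rfl, zero_mul,
      zero_add, Int.cast_one, show (1 : ZMod 2).val = 1 from rfl, pow_one]

theorem m1 {k : Type*} [Field k] : (-1 : k) ≠ 0 := neg_ne_zero.2 one_ne_zero

theorem m1_center {k : Type*} [Field k] : (hS (-1) : SL k) ∈ center (SL k) :=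
  mem_center_iff'.2 ⟨hS01 m1, hS10 m1, by rw [hS00 m1, hS11 m1, inv_neg, inv_one]⟩

theorem chi_z (hc : Rt tE8 c) : Chi tE8 (-1) (sl p hc (hS (-1))) (gr c) :=
  ⟨sl_hS_mem hc m1, fun a ha => by rw [ch_sl_hS hc m1 ha, gr_cp hc, neg_one_zpow]⟩

theorem dd_z (h2 : p ≠ 2) (hc : Rt tE8 c) : dd p (sl p hc (hS (-1))) = 136 := by
  rw [dd_chi (prim2 h2) (chi_z hc), nk_gr hc]

/-- toral involutions of class 2A -/
theorem exists_z (h2 : p ≠ 2) {x : Y8 p} (hx : x ∈ TT chevE8 (kb p)) (hx2 : x ^ 2 = 1) (hd : dd p x = 136) :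
    ∃ (c : Lat 8) (hc : Rt tE8 c), x = sl p hc (hS (-1)) := by
  obtain ⟨φ, hφ⟩ := chi_ex tE8 (prim2 h2) two_pos hx hx2
  have h1 := dd_chi (prim2 h2) hφ
  obtain ⟨c, hc, rfl⟩ := exists_root (φ := φ) (by omega)
  exact ⟨c, hc, Chi.eq_of (prim2 h2) boxChi hφ (chi_z hc)⟩

theorem dec_z (h2 : p ≠ 2) (hc : Rt tE8 c) {y : Y8 p} (hy : y * sl p hc (hS (-1)) = sl p hc (hS (-1)) * y) :
    ∃ m ∈ MS chevE8 8 p (Psi tE8 (gr c)), ∃ t ∈ TT chevE8 (kb p), y = m * t := by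
  obtain ⟨m, hm, t, ht, rfl⟩ := DS.Nt.mem_DZ.1
    (mem_DZ8 Nat.prime_two h2.symm (chi_z hc).1 ((chi_z hc).pow_eq_one (prim2 h2)) hy)
  rw [← MS_psiS, (chi_z hc).psiS (prim2 h2)] at hm
  exact ⟨m, hm, t, ht, rfl⟩

theorem inn_z (h2 : p ≠ 2) (hc : Rt tE8 c) {y : Y8 p} (hy : y * sl p hc (hS (-1)) = sl p hc (hS (-1)) * y) :
    ∃ j, IA (sl p hc) y j := by
  obtain ⟨m, hm, t, ht, rfl⟩ := dec_z h2 hc hy
  obtain ⟨j, hj⟩ := (spl_psi hc (a1c hc)).inn _ hm
  obtain ⟨a, -, -, ha⟩ := inn_T hc ht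
  exact ⟨_, hj.mul ha⟩

/-- an involution commuting with `z` is moved into the torus -/
theorem move_z (h2 : p ≠ 2) (hc : Rt tE8 c) {x : Y8 p} (hx2 : x ^ 2 = 1)
    (hx : x * sl p hc (hS (-1)) = sl p hc (hS (-1)) * x) : ∃ g : Y8 p, g * sl p hc (hS (-1)) * g⁻¹ = sl p hc (hS (-1)) ∧
      (∃ j, IA (sl p hc) g j) ∧ g * x * g⁻¹ ∈ TT chevE8 (kb p) := by
  obtain ⟨g, h1, h3⟩ := DS.Nt.exists_pair tE8 (z := sl p hc (hS (-1))) (x := x) (g := 1)
    (by rw [one_mul, inv_one, mul_one]; exact (chi_z hc).1)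
    (tp8 Nat.prime_two h2.symm ((chi_z hc).pow_eq_one (prim2 h2)) ⟨1, by rw [pow_one, hx2]⟩ hx.symm)
  rw [one_mul, inv_one, mul_one] at h1
  exact ⟨g, h1, inn_z h2 hc (mul_inv_eq_iff_eq_mul.1 h1), h3⟩

theorem q8_z (h2 : p ≠ 2) (hc : Rt tE8 c) {x : Y8 p} (ho : orderOf x = 2) (hne : x ≠ sl p hc (hS (-1)))
    (hx : x * sl p hc (hS (-1)) = sl p hc (hS (-1)) * x) :
    Cz (sl p hc) x ↔ dd p (x * sl p hc (hS (-1))) ≠ dd p x := by
  have hx2 : x ^ 2 = 1 := by rw [← ho, pow_orderOf_eq_one]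
  have hx1 : x ≠ 1 := by
    rintro rfl
    rw [orderOf_one] at ho
    omega
  obtain ⟨g, h1, ⟨j, hj⟩, h3⟩ := move_z h2 hc hx2 hx
  obtain ⟨φ, hφ⟩ := chi_ex tE8 (prim2 h2) two_pos h3 (sq_conj g hx2)
  have h4 : φ ≠ gr c := by
    rintro rfl
    exact hne (conj_inj' ((Chi.eq_of (prim2 h2) boxChi hφ (chi_z hc)).trans h1.symm))
  have h5 := hφ.mul (prim2 h2) (chi_z (p := p) hc)
  rw [← h1, conj_mul] at h5
  rw [← cz_conj_iff hj, cz_chi h2 hφ hc, kill_iff hc (hφ.ne_zero (prim2 h2) boxChi (conj_ne_one g hx1)) h4,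
    ← DS.Nt.dd_conj g x, ← DS.Nt.dd_conj g (x * _), dd_chi (prim2 h2) hφ, dd_chi (prim2 h2) h5, Ne, Ne, add_right_inj]

theorem vec_z (h2 : p ≠ 2) (hc : Rt tE8 c) : ∃ v, v ≠ 0 ∧ ∀ y, Cz (sl p hc) y → ad chevE8 p y v = v := by
  obtain ⟨h, hh, hl⟩ := E8A.Frm.exists_inT (K := kb p)
    (AddMonoidHom.mk' (fun a => ((cp tE8 a c : ℤ) : kb p)) fun a b => by rw [cp_add _ _ hc, Int.cast_add])
  have hl' : ∀ a, E8A.lv a h = ((cp tE8 a c : ℤ) : kb p) := hl
  refine ⟨h, fun e => ?_, fun y hy => ?_⟩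
  · have h1 := hl' c
    rw [e, cp_self hc] at h1
    have h3 : E8A.lv c (0 : E8A.L8 (kb p)) = 0 := Finset.sum_eq_zero fun i _ => mul_zero _
    refine (prim2 h2).ne_one one_lt_two ?_
    rw [h3, Int.cast_ofNat] at h1
    linear_combination h1
  · obtain ⟨m, hm, t, ht, rfl⟩ := dec_z h2 hc (hy _)
    obtain ⟨j, m', hm', rfl⟩ := (spl_psi hc (a1c hc)).dec hc hm
    obtain ⟨a, ha0, -, ha⟩ := inn_T hc ht
    have h1 := (sl_ck hc).center_of_cz
      (((DS.Nt.JL.Inn.self j).mul ((spl_psi hc (a1c hc)).cz hc hm').inn).mul ha) hy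
    rw [mul_one] at h1
    have h3 : sl p hc j ∈ TT chevE8 (kb p) := by
      have h4 : sl p hc (j * hS a) ∈ TT chevE8 (kb p) := by
        rcases P.center_cases h1 with e | e <;> rw [e]
        · rw [map_one]
          exact one_mem _
        · exact sl_hS_mem hc m1
      rwa [map_mul, mul_mem_cancel_right (sl_hS_mem hc ha0)] at h4
    have h5 : sl p hc j * m' * t ∈ E8A.stab h := by
      refine mul_mem (mul_mem (E8A.Frm.TT_le hh h3) (E8A.Frm.Sup_le_stab hh ?_ hm')) (E8A.Frm.TT_le hh ht)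
      rintro b ⟨hb, n1, n2⟩
      exact ⟨hb.1, by rw [hl', ((of_gr hb.1 hc hb.2).resolve_left n1).resolve_left n2, Int.cast_zero]⟩
    exact h5

/-- a conjugating element carries the root `SL₂` along -/
theorem conj_range (h2 : p ≠ 2) (hc : Rt tE8 c) {c' : Lat 8} (hc' : Rt tE8 c') {n : Y8 p}
    (hn : n * sl p hc (hS (-1)) * n⁻¹ = sl p hc' (hS (-1))) (s : SL (kb p)) :
    n * sl p hc s * n⁻¹ ∈ (sl p hc').range := by
  obtain ⟨m, hm, w, k, hk, e, rfl⟩ := form_one (hp := tE8) (chi_z hc).1 (chi_z hc').1 hn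
  rw [(chi_z hc').psiS (prim2 h2)] at hm
  have h1 := (chi_z (p := p) hc).of_conj (prim2 h2) (chi_z hc') (w := w) fun a ha => by
    rw [← e]
    exact ch_rp hk (chi_z hc).1 ha
  have h3 : wa tE8 w c = c' ∨ wa tE8 w c = -c' :=
    pm_of hc hc' (f := BpExc.Fr.repAut _ tE8.isCartan w) (hc.wa' w) (fun a => cp_wa w a hc) h1
  have h4 : ∀ a, a = c' ∨ a = -c' → XR chevE8 8 p a ≤ (sl p hc').range := by
    rintro _ (rfl | rfl)
    exacts [X_le_sl hc', X_neg_le_sl hc']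
  obtain ⟨B, hB⟩ := range_le (f := (MulAut.conj k).toMonoidHom.comp (sl p hc)) (K := (sl p hc').range) (fun t => by
    obtain ⟨μ, -, h5⟩ := rp_xc hk hc
    show k * sl p hc (up t) * k⁻¹ ∈ _
    rw [sl_up, h5]
    exact h4 _ h3 (xc_mem_XR (hc.wa' w) _)) (fun t => by
    obtain ⟨μ, -, h5⟩ := rp_xc hk hc.neg'
    show k * sl p hc (lo t) * k⁻¹ ∈ _
    rw [sl_lo, h5]
    refine h4 _ ?_ (xc_mem_XR (hc.neg'.wa' w) _)
    rw [wa_neg]
    rcases h3 with h | h
    · exact Or.inr (by rw [h])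
    · exact Or.inl (by rw [h, neg_neg])) s
  obtain ⟨j, hj⟩ := (spl_psi hc' (a1c hc')).inn _ hm
  refine ⟨j * B * j⁻¹, ?_⟩
  rw [← hj, hB]
  show m * (k * sl p hc s * k⁻¹) * m⁻¹ = _
  group

theorem far_z (h2 : p ≠ 2) (hc : Rt tE8 c) {t : Y8 p} (hne : t * sl p hc (hS (-1)) * t⁻¹ ≠ sl p hc (hS (-1)))
    (hz : Cz (sl p hc) (t * sl p hc (hS (-1)) * t⁻¹)) (s : SL (kb p)) : Cz (sl p hc) (t * sl p hc s * t⁻¹) := by
  have hz2 := sq_conj t ((chi_z (p := p) hc).pow_eq_one (prim2 h2))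
  obtain ⟨g, h1, ⟨j, hj⟩, h3⟩ := move_z h2 hc hz2 (hz _)
  obtain ⟨c', hc', e⟩ := exists_z h2 h3 (sq_conj g hz2) (by rw [DS.Nt.dd_conj, DS.Nt.dd_conj, dd_z h2])
  have h4 := cz_conj hj hz
  rw [e, cz_chi h2 (chi_z hc') hc] at h4
  have h5 : gr c' ≠ gr c := fun e' =>
    hne (conj_inj' ((e.trans (Chi.eq_of (prim2 h2) boxChi (e' ▸ chi_z hc') (chi_z hc))).trans h1.symm))
  have h6 : cp tE8 c c' = 0 := by
    rcases of_gr hc hc' h4 with h | h | h
    · exact absurd (by rw [h]) h5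
    · exact absurd (by rw [h, gr_neg tE8 hc']) h5
    · exact h
  obtain ⟨B, hB⟩ := conj_range h2 hc hc' (n := g * t) (by rw [← e]; group) s
  rw [← cz_conj_iff hj, show g * (t * sl p hc s * t⁻¹) * g⁻¹ = g * t * sl p hc s * (g * t)⁻¹ by group, ← hB]
  exact fun A => (P.sl_comm hc hc' (far_of p hc hc' h6) A B).symm

/-- **The centre of a root `SL₂`.** -/
theorem ja_std (h2 : p ≠ 2) (hc : Rt tE8 c) : JA p (sl p hc (hS (-1))) (sl p hc) :=
  ⟨sl_ck hc, rfl, fun y hy => inn_z h2 hc hy, fun x ho hne hx => q8_z h2 hc ho hne hx, vec_z h2 hc,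
    fun t hne hz => far_z h2 hc hne hz⟩

/-- the conjugate homomorphism -/
abbrev cjh {G Y : Type*} [Group G] [Group Y] (g : Y) (ψ : G →* Y) : G →* Y := (MulAut.conj g).toMonoidHom.comp ψ

theorem cjh_apply {G Y : Type*} [Group G] [Group Y] (g : Y) (ψ : G →* Y) (s : G) : cjh g ψ s = g * ψ s * g⁻¹ := rfl

theorem cz_cjh {k Y : Type*} [Field k] [Group Y] {ψ : SL k →* Y} {g y : Y} : Cz (cjh g ψ) (g * y * g⁻¹) ↔ Cz ψ y := by
  refine forall_congr' fun s => ?_
  rw [cjh_apply, conj_mul, conj_mul]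
  exact ⟨conj_inj', fun h => by rw [h]⟩

theorem exists_cj {Y : Type*} [Group Y] (g y : Y) : ∃ y', y = g * y' * g⁻¹ := ⟨g⁻¹ * y * g, by group⟩

theorem ja_conj {z : Y8 p} {ψ : SL (kb p) →* Y8 p} (h : JA p z ψ) (g : Y8 p) : JA p (g * z * g⁻¹) (cjh g ψ) := by
  refine ⟨fun s hs => h.ck s (conj_eq_one_iff.1 hs), by rw [cjh_apply, h.ctr], fun y hy => ?_, fun x ho hne hx => ?_, ?_,
    fun t hne hz s => ?_⟩
  · obtain ⟨y, rfl⟩ := exists_cj g y
    rw [conj_mul, conj_mul] at hy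
    obtain ⟨j, hj⟩ := h.inn y (conj_inj' hy)
    refine ⟨j, fun s => ?_⟩
    rw [cjh_apply, cjh_apply, ← hj s]
    group
  · obtain ⟨x, rfl⟩ := exists_cj g x
    rw [conj_mul, conj_mul] at hx
    rw [cz_cjh, conj_mul, DS.Nt.dd_conj, DS.Nt.dd_conj]
    exact h.q8 x (((MulAut.conj g).orderOf_eq x).symm.trans ho) (fun e => hne (by rw [e])) (conj_inj' hx)
  · obtain ⟨v, hv, h1⟩ := h.vec
    refine ⟨ad chevE8 p g v, fun e => hv ?_, fun y hy => ?_⟩
    · rw [← DS.Nt.ad_one (p := p) v, ← inv_mul_cancel g, DS.Nt.ad_mul, e, map_zero]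
    · obtain ⟨y, rfl⟩ := exists_cj g y
      rw [← DS.Nt.ad_mul, inv_mul_cancel_right, DS.Nt.ad_mul, h1 y (cz_cjh.1 hy)]
  · obtain ⟨t, rfl⟩ := exists_cj g t
    have e : ∀ y : Y8 p, g * t * g⁻¹ * (g * y * g⁻¹) * (g * t * g⁻¹)⁻¹ = g * (t * y * t⁻¹) * g⁻¹ := fun y => by group
    rw [e] at hne hz
    rw [cjh_apply, e, cz_cjh]
    exact h.far t (fun e' => hne (by rw [e'])) (cz_cjh.1 hz) s

end Cfsg.Agent.Cam.E8O.J
end

-- part: Cam/E8/OJ
section
set_option linter.all false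
open scoped Cfsg.Agent.FastGrp

/-!
# S3690, the row `E₈`, odd characteristic: `BoxJ` (helper91)
-/

set_option autoImplicit false
set_option linter.unusedVariables false
set_option maxRecDepth 100000

namespace Cfsg.Agent.Cam.E8O.J

open CoxeterSystem Cfsg Cfsg.Lie Subgroup Module
open Cfsg.Agent.Tits.Roots Cfsg.Agent.Nodes.BNOf Cfsg.Agent.Nodes.RGDChev Cfsg.Agent.KFacts.RgdChevCoord
open Cfsg.Agent.ChevalleyStructure.CoxeterGeom Cfsg.Agent.ChevalleyStructure.CoxeterGeomTypes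
open Cfsg.Agent.Cam.Spor Cfsg.Agent.Cam.Ex Cfsg.Agent.Cam.Ex.S2 Cfsg.Agent.Cam.Odd
open Cfsg.Agent.DS.Nt (dd)
open Cfsg.Agent.ChevalleyStructure.SL2Hom (up lo)
open Cfsg.Agent.Nodes.RGDFoldSL (hS)
open scoped commutatorElement

variable {p : ℕ} [Fact p.Prime] {L : Type} [Group L]

theorem xn_conj {ι ι' : L →* Y8 p} {x : L} {ψ : SL (kb p) →* Y8 p} {g : Y8 p} (e : ∀ y, ι y = g * ι' y * g⁻¹)
    (h : XN ι' x ψ) : XN ι x (cjh g ψ) := by
  have h1 : ∀ y, ι y ∈ (cjh g ψ).range ↔ ι' y ∈ ψ.range := fun y => by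
    rw [e]
    exact exists_congr fun s => ⟨fun h => conj_inj' h, fun h => by rw [cjh_apply, h]⟩
  have h2 : ∀ y, Cz (cjh g ψ) (ι y) ↔ Cz ψ (ι' y) := fun y => by rw [e, cz_cjh]
  refine ⟨?_, fun N hN n hn hx hz => ?_⟩
  · obtain ⟨w, h3, h4⟩ := h.ex
    exact ⟨w, (h1 w).2 h3, fun h5 => h4 ((h2 w).1 h5)⟩
  · obtain ⟨h3, a, ha, b, hb, h4, h5, h6⟩ := h.nrm N (fun s hs => hN s ((h1 s).2 hs)) n hn hx fun h5 => hz ((h2 n).2 h5)
    exact ⟨h3, a, ha, b, hb, (h1 a).2 h4, (h1 b).2 h5, h6⟩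

theorem xn_std [Finite L] (h2 : p ≠ 2) (E : Fr8 p L) {c : Lat 8} (hc : Rt tE8 c) (hg : E.g c = c) {x : L}
    (hx : E.ι x = sl p hc (hS (-1))) : XN E.ι x (sl p hc) := by
  obtain ⟨κ, hκ, hF⟩ := P.act_sl E.frob E.fr hc hc hg
  have hi := P.sl_inj (p := p) hc (Or.inr (exists_odd hc))
  obtain ⟨v, hv0, hv⟩ := En.exists_fix_pow hκ (En.two_le_q E)
  rw [Frame.q, ← P.fb_apply] at hv
  have h1 : ∀ A ∈ P.fixG (P.fb p E.e) hκ, ∃ s, E.ι s = sl p hc A := fun A hA => by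
    have h3 := E.idx (sl p hc A) (by rw [hF, P.mem_fixG.1 hA])
    rwa [pow_one] at h3
  have h3 : ∀ s A, E.ι s = sl p hc A → A ∈ P.fixG (P.fb p E.e) hκ := fun s A h =>
    P.mem_fixG.2 (hi (by rw [← hF, ← h, E.fix]))
  refine ⟨?_, fun N hN n hn hnx hz => ?_⟩
  · obtain ⟨w, hw⟩ := h1 _ (P.up_mem_fixG hv)
    exact ⟨w, ⟨_, hw.symm⟩, fun h => P.not_comm (sl_ck hc) hv0 one_ne_zero (hw ▸ h (lo 1))⟩
  · obtain ⟨j, hj⟩ := inn_z h2 hc (y := E.ι n) (by rw [← hx, ← map_mul, ← map_mul, hnx])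
    have hfin : Finite (P.fixG (P.fb p E.e) hκ) := by
      choose s hs using h1
      exact Finite.of_injective (fun A : P.fixG (P.fb p E.e) hκ => s A.1 A.2) fun A B e =>
        Subtype.ext (hi (by rw [← hs A.1 A.2, ← hs B.1 B.2]; exact congrArg E.ι e))
    have h2' : (2 : kb p) ≠ 0 := fun e => (prim2 h2).ne_one one_lt_two (by linear_combination -e)
    obtain ⟨⟨y, hy, e⟩, a, ⟨a', ha, ea⟩, b, ⟨b', hb, eb⟩, hab⟩ := sl2_main (M := (N.map E.ι).comap (sl p hc)) h2' hfin hv0 hv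
      (fun A ⟨s, _, hs⟩ => h3 s A hs) (fun s hs A ⟨a, ha, e⟩ => by
        obtain ⟨s', e'⟩ := h1 s hs
        refine ⟨_, hN s' ⟨s, e'.symm⟩ a ha, ?_⟩
        rw [map_mul, map_mul, map_inv, e, e', map_mul, map_mul, map_inv]) (fun h => hz (cz_of_inn hj h)) (fun s hs => by
        obtain ⟨s', e'⟩ := h1 s hs
        refine ⟨_, mul_mem hn (hN s' ⟨s, e'.symm⟩ _ (inv_mem hn)), ?_⟩
        rw [commutatorElement_def, map_mul (sl p hc), ← hj s, map_mul, map_mul, map_mul, map_inv, map_inv, map_inv, e']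
        group)
    refine ⟨E.inj (e.trans hx.symm) ▸ hy, a', ha, b', hb, ⟨a, ea.symm⟩, ⟨b, eb.symm⟩, fun h => hab (hi ?_)⟩
    rw [map_mul, map_mul, ← ea, ← eb, ← map_mul, ← map_mul, h]

/-- **`BoxJ`** -/
theorem boxJ : BoxJ := by
  intro p _ h2 L _ _ E x ho hd
  have hx2 : x ^ 2 = 1 := by rw [← ho, pow_orderOf_eq_one]
  obtain ⟨E', h1, h3⟩ := exists_frame₁ E h2 hx2
  obtain ⟨c, hc, e⟩ := exists_z h2 h3 (by rw [← map_pow, hx2, map_one]) (by rw [cj_dd h1, hd])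
  have h4 := chi2_g E' h2 (e ▸ chi_z hc)
  obtain ⟨E'', -, hg, z', hz', h5⟩ := En.exists_move_fix E' hc
    (pm_of hc hc (f := E'.g) (P.rt_g E' hc) (fun a => E'.gcp a c hc) h4)
  obtain ⟨-, z, hz⟩ := h1
  rw [← sl_range hc] at hz'
  obtain ⟨A, rfl⟩ := hz'
  have h6 : E''.ι x = sl p hc (hS (-1)) := by
    rw [h5, e, mul_assoc, ← map_mul, ← mem_center_iff.1 m1_center A, map_mul, inv_mul_cancel_left]
  have h7 : ∀ y, E.ι y = z * sl p hc A * E''.ι y * (z * sl p hc A)⁻¹ := fun y => by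
    rw [h5, hz]
    group
  refine ⟨cjh (z * sl p hc A) (sl p hc), ?_, xn_conj h7 (xn_std h2 E'' hc hg h6)⟩
  rw [h7, h6]
  exact ja_conj (ja_std h2 hc) _

end Cfsg.Agent.Cam.E8O.J
end

-- part: Cam/E8/OE16b
section
prune_inst 0x1d20712444c010000018050270000022a0000420000888008020010001884864ad8120010c20000a0a0808410001004810000020000000c0000004000001000018800000a140200c440086800000410000000000000000000000000000000000000000000
set_option linter.all false
open scoped Cfsg.Agent.FastGrp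

/-!
# S3690, the row `E₈`, the box E16: a pure group of order `16` inside the torus (helper75)
-/

set_option autoImplicit false
set_option linter.unusedSectionVars false

namespace Cfsg.Agent.Cam.E8O.E16

open CoxeterSystem Cfsg Cfsg.Lie Cfsg.Lie.ChevalleyDatum Module
open Cfsg.Agent.ChevalleyStructure Cfsg.Agent.ChevalleyStructure.CoxeterGeom
  Cfsg.Agent.ChevalleyStructure.CoxeterGeomTypes
open Cfsg.Agent.Tits.Roots Cfsg.Agent.Tits.Core Cfsg.Agent.Nodes Cfsg.Agent.Nodes.RGDChev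
open Cfsg.Agent.KFacts.RgdChevCoord Cfsg.Agent.H469.Exc Cfsg.Agent.H129.TorusChar Cfsg.Agent.H582.KKL
open Cfsg.Agent.DS.Nt Cfsg.Agent.Cam.Odd.Lin
open Cfsg.Agent.Cam.Ex (kb tE8)
open Cfsg.Agent.BpExc.TorChev (TT_comm)

/-- the Coxeter system -/
local notation "cs₈" => CoxeterMatrix.toCoxeterSystem CoxeterMatrix.E₈

/-- the relations of `A₄` in a group -/
structure TG {G : Type*} [Group G] (a b s : G) : Prop where
  aa : a * a = 1
  bb : b * b = 1
  ab : a * b = b * a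
  sa : s * a = b * s
  sb : s * b = a * b * s
  sss : s * s * s = 1

theorem TG.inv_a {G : Type*} [Group G] {a b s : G} (h : TG a b s) : s⁻¹ * a * s = a * b := by
  have h1 : a = a * b * b := by rw [mul_assoc, h.bb, mul_one]
  have h2 : s * (a * b) = a * s := by
    rw [← mul_assoc, h.sa, mul_assoc, h.sb, h.ab, ← mul_assoc, ← mul_assoc, h.bb, one_mul]
  rw [mul_assoc, ← h2, inv_mul_cancel_left]

theorem TG.inv_b {G : Type*} [Group G] {a b s : G} (h : TG a b s) : s⁻¹ * b * s = a := by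
  rw [mul_assoc, ← h.sa, inv_mul_cancel_left]

variable {p : ℕ} [Fact p.Prime]

theorem cm_of {x y : Y8 p} (h : x * y = y * x) : Cm (ad chevE8 p x) (ad chevE8 p y) := fun v => by
  rw [← ad_mul, h, ad_mul]

theorem TG.to {a b s : Y8 p} (h : TG a b s) : TO (ad chevE8 p a) (ad chevE8 p b) (ad chevE8 p s) where
  aa v := by rw [← ad_mul, h.aa, ad_one]
  bb v := by rw [← ad_mul, h.bb, ad_one]
  ab := cm_of h.ab
  sa v := by rw [← ad_mul, h.sa, ad_mul]
  sb v := by rw [← ad_mul, h.sb, ad_mul, ad_mul]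
  sss v := by rw [← ad_mul, ← ad_mul, h.sss, ad_one]

theorem mem_E_tor {t : Y8 p} (ht : t ∈ TT chevE8 (kb p)) {c : kb p} {v : chevE8.Idx → kb p} :
    v ∈ E (ad chevE8 p t) c ↔ ∀ j, wtc tE8 t j ≠ c → v j = 0 := by
  rw [mem_E]
  constructor
  · intro h j hj
    have h2 := congrFun h j
    rw [ad_tor (hp := tE8) ht, Pi.smul_apply, smul_eq_mul] at h2
    by_contra h3
    exact hj (mul_right_cancel₀ h3 h2)
  · intro h
    funext j
    rw [ad_tor (hp := tE8) ht, Pi.smul_apply, smul_eq_mul]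
    by_cases hj : wtc tE8 t j = c
    · rw [hj]
    · rw [h j hj, mul_zero, mul_zero]

/-- the Cartan coordinates of a fixed vector -/
theorem inl_of_fix {w : CoxeterMatrix.E₈.Group} {k : Y8 p} (hk : RP tE8 p w k) {v : chevE8.Idx → kb p}
    (hv : ad chevE8 p k v = v) (i : Fin chevE8.rank) :
    v (Sum.inl i) = ∑ j, ((rep cs₈ tE8.isCartan w (sr (f8 j)) (f8 i) : ℤ) : kb p) * v (Sum.inl j) := by
  have hm := mono_of_rp tE8 p (locFin p) hk
  have h1 : ∑ y, ((k : GL chevE8.Idx (kb p)) : Matrix chevE8.Idx chevE8.Idx (kb p)) (Sum.inl i) y * v y =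
      v (Sum.inl i) := congrFun hv (Sum.inl i)
  rw [← h1, Fintype.sum_sum_type, Finset.sum_eq_zero (f := fun s => _ * v (Sum.inr s)) fun s _ => by
    rw [hm.lr, zero_mul], add_zero]
  exact Finset.sum_congr rfl fun j _ => by rw [hm.ll]

/-- the root vectors are permuted up to scalars -/
theorem ad_single {w : CoxeterMatrix.E₈.Group} {k : Y8 p} (hk : RP tE8 p w k) {s s' : Fin chevE8.nroots}
    (h : vec chevE8 8 s' = rep cs₈ tE8.isCartan w (vec chevE8 8 s)) :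
    ∃ c : kb p, ad chevE8 p k (Pi.single (Sum.inr s) 1) = c • Pi.single (Sum.inr s') 1 := by
  have hm := mono_of_rp tE8 p (locFin p) hk
  refine ⟨((k : GL chevE8.Idx (kb p)) : Matrix chevE8.Idx chevE8.Idx (kb p)) (Sum.inr s') (Sum.inr s), funext fun x => ?_⟩
  rw [ad_apply, Matrix.mulVec_single_one, Matrix.col_apply, Pi.smul_apply, smul_eq_mul]
  by_cases hx : x = Sum.inr s'
  · rw [hx, Pi.single_eq_same, mul_one]
  · rw [Pi.single_eq_of_ne hx, mul_zero]
    rcases x with x | x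
    · exact hm.lr x s
    · exact hm.rr x s fun e => hx (congrArg Sum.inr (Fin.ext (vec_inj tE8 x.2 s'.2 (e.trans h.symm))))

/-- an integral operator with `N ^ 2 = 3 N` that vanishes modulo two -/
theorem descent {N : (Fin 8 → ℤ) →+ (Fin 8 → ℤ)} (h1 : ∀ x, N (N x) = 3 • N x) (h2 : ∀ x j, 2 ∣ N x j)
    (x : Fin 8 → ℤ) : N x = 0 := by
  have key : ∀ n : ℕ, ∀ x j, (2 : ℤ) ^ n ∣ N x j := by
    intro n
    induction n with
    | zero => exact fun x j => by rw [pow_zero]; exact one_dvd _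
    | succ n ih =>
      intro x j
      choose y hy using h2 x
      have h3 : N x = 2 • y := funext fun i => by rw [hy, Pi.smul_apply, nsmul_eq_mul, Nat.cast_ofNat]
      have h4 := congrFun (h1 x) j
      rw [h3, map_nsmul, ← h3, Pi.smul_apply, Pi.smul_apply, nsmul_eq_mul, nsmul_eq_mul, Nat.cast_ofNat,
        Nat.cast_ofNat] at h4
      refine IsCoprime.dvd_of_dvd_mul_left (y := 3) (IsCoprime.pow_left ⟨-1, 1, by norm_num⟩) ?_
      rw [← h4, pow_succ']
      exact mul_dvd_mul_left _ (ih y j)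
  funext j
  refine Int.eq_zero_of_abs_lt_dvd (key (N x j).natAbs x j) ?_
  rw [← Int.natCast_natAbs]
  exact_mod_cast Nat.lt_two_pow_self

/-- the configuration inside the torus -/
structure TC (a₁ a₂ b₁ b₂ : Y8 p) : Prop where
  ne : p ≠ 2
  m1 : a₁ ∈ TT chevE8 (kb p)
  m2 : a₂ ∈ TT chevE8 (kb p)
  m3 : b₁ ∈ TT chevE8 (kb p)
  m4 : b₂ ∈ TT chevE8 (kb p)
  qq : QQ (ad chevE8 p a₁) (ad chevE8 p a₂) (ad chevE8 p b₁) (ad chevE8 p b₂)

/-- the weights -/
def Wt (a₁ a₂ b₁ b₂ : Y8 p) (c : kb p) (j : chevE8.Idx) : Prop :=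
  wtc tE8 a₁ j = 1 ∧ wtc tE8 a₂ j = 1 ∧ wtc tE8 b₁ j = 1 ∧ wtc tE8 b₂ j = c

namespace TC

variable {a₁ a₂ b₁ b₂ k s t : Y8 p} (H : TC a₁ a₂ b₁ b₂)
include H

theorem mem_wt {c : kb p} {v : chevE8.Idx → kb p} :
    v ∈ ⊤ ⊓ E (ad chevE8 p a₁) 1 ⊓ E (ad chevE8 p a₂) 1 ⊓ E (ad chevE8 p b₁) 1 ⊓ E (ad chevE8 p b₂) c ↔
      ∀ j, ¬ Wt a₁ a₂ b₁ b₂ c j → v j = 0 := by
  rw [top_inf_eq, Submodule.mem_inf, Submodule.mem_inf, Submodule.mem_inf, mem_E_tor H.m1, mem_E_tor H.m2,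
    mem_E_tor H.m3, mem_E_tor H.m4]
  constructor
  · rintro ⟨⟨⟨h1, h2⟩, h3⟩, h4⟩ j hj
    by_contra e
    exact hj ⟨not_not.1 fun h => e (h1 j h), not_not.1 fun h => e (h2 j h), not_not.1 fun h => e (h3 j h),
      not_not.1 fun h => e (h4 j h)⟩
  · exact fun h => ⟨⟨⟨fun j e => h j fun q => e q.1, fun j e => h j fun q => e q.2.1⟩,
      fun j e => h j fun q => e q.2.2.1⟩, fun j e => h j fun q => e q.2.2.2⟩

theorem no_root (r : Fin chevE8.nroots) : ¬ Wt a₁ a₂ b₁ b₂ 1 (Sum.inr r) := by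
  classical
  have h1 := finrank_of_coord (Wt a₁ a₂ b₁ b₂ 1) _ fun v => H.mem_wt (v := v)
  rw [H.qq.d0, card_sum_filter, Finset.filter_true_of_mem fun _ _ => ⟨rfl, rfl, rfl, rfl⟩, Finset.card_univ,
    Fintype.card_fin] at h1
  have h2 := tE8.rank_eq
  have h3 : (Finset.univ.filter fun b : Fin chevE8.nroots => Wt a₁ a₂ b₁ b₂ 1 (Sum.inr b)).card = 0 := by omega
  exact Finset.filter_eq_empty_iff.1 (Finset.card_eq_zero.1 h3) (Finset.mem_univ r)

theorem exists_rp (h1 : k⁻¹ * a₁ * k ∈ TT chevE8 (kb p)) (h2 : k⁻¹ * a₂ * k ∈ TT chevE8 (kb p))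
    (h3 : k⁻¹ * b₁ * k ∈ TT chevE8 (kb p)) (h4 : k⁻¹ * b₂ * k ∈ TT chevE8 (kb p)) : ∃ w, RP tE8 p w k := by
  have ht : ∀ i : Fin 4, ![a₁, a₂, b₁, b₂] i ∈ TT chevE8 (kb p) := fun i => by
    fin_cases i
    exacts [H.m1, H.m2, H.m3, H.m4]
  obtain ⟨m, hm, w, k', hk, -, e⟩ := form₂ tE8 (s := fun i : Fin 4 => k⁻¹ * ![a₁, a₂, b₁, b₂] i * k)
    (t := ![a₁, a₂, b₁, b₂]) (fun i => by
      fin_cases i
      exacts [h1, h2, h3, h4]) ht (c := k) fun i => by group
  have h5 : Mz tE8 p (Set.range ![a₁, a₂, b₁, b₂]) ≤ ⊥ := Mz_le fun a ha => by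
    obtain ⟨h6, h7⟩ := (mem_Ps (by rintro _ ⟨i, rfl⟩; exact ht i)).1 ha
    obtain ⟨r, hr, rfl⟩ := (isRoot_iff tE8 cs₈ a).1 h6
    exact (H.no_root ⟨r, hr⟩ ⟨h7 _ ⟨0, rfl⟩, h7 _ ⟨1, rfl⟩, h7 _ ⟨2, rfl⟩, h7 _ ⟨3, rfl⟩⟩).elim
  rw [Subgroup.mem_bot.1 (h5 hm), one_mul] at e
  exact ⟨w, e ▸ hk⟩

theorem eq_one (hA : TG a₁ a₂ k) (hB : TG b₁ b₂ k) {h : Y8 p} (hh : h ∈ TT chevE8 (kb p)) (h2 : h ^ 2 = 1)
    (hk : k * h = h * k) : h = 1 := by
  by_contra e
  have h1 : dd p h % 3 = 2 := H.qq.mod3 hA.to hB.to (cm_of (TT_comm tE8 _ hh _ H.m1)) (cm_of (TT_comm tE8 _ hh _ H.m2))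
    (cm_of (TT_comm tE8 _ hh _ H.m3)) (cm_of (TT_comm tE8 _ hh _ H.m4)) (cm_of hk.symm) fun v hv =>
      (mem_E_tor hh).2 fun j hj => by
        rcases j with j | j
        · exact absurd rfl hj
        · exact H.mem_wt.1 hv _ (H.no_root j)
  rcases dd2 H.ne h2 e with h3 | h3 <;> omega

/-- the diagonal elements of order three, `p ≠ 3` -/
theorem diag (hp : p ≠ 3) (hA : TG a₁ a₂ k) (hB : TG b₁ b₂ k) : dd p k = 80 := by
  obtain ⟨w, hw⟩ := H.exists_rp (k := k) (by rw [hA.inv_a]; exact mul_mem H.m1 H.m2) (by rw [hA.inv_b]; exact H.m1)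
    (by rw [hB.inv_a]; exact mul_mem H.m3 H.m4) (by rw [hB.inv_b]; exact H.m3)
  have h1 : w * w * w = 1 := ((hw.mul hw).mul hw).unique (RP.of_mem (by rw [hA.sss]; exact one_mem _))
  let W := rep cs₈ tE8.isCartan w
  have h2 : ∀ x, W (W (W x)) = x := fun x => by
    rw [← rep_mul_apply, ← rep_mul_apply, h1, map_one, Module.End.one_apply]
  let N : (Fin 8 → ℤ) →+ (Fin 8 → ℤ) := AddMonoidHom.id _ + W.toAddMonoidHom + (W * W).toAddMonoidHom
  have hN : ∀ x, N x = x + W x + W (W x) := fun x => rfl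
  have h3 : ∀ x, N (W x) = N x := fun x => by
    rw [hN, hN, h2]
    abel
  have h4 : ∀ x, N x = 0 := descent (fun x => by
    conv_lhs => rw [hN x, map_add, map_add, h3, h3, h3]
    abel) fun x j => by
      obtain ⟨h, hh, e⟩ := exists_tor_zpow tE8 typ8 (c := (-1 : kb p)) (by norm_num)
        ((Pi.evalAddMonoidHom (fun _ : Fin 8 => ℤ) j).comp N)
      have h5 : h = 1 := H.eq_one hA hB hh (pow_eq_one_of_cX (hp := tE8) hh fun y => by
        rw [e, ← zpow_natCast, ← zpow_mul, mul_comm, zpow_mul]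
        norm_num) (hw.comm hh fun y => by
          rw [e, e]
          exact congrArg (fun z : Fin 8 → ℤ => (-1 : kb p) ^ z j) (h3 y))
      have h6 : (-1 : kb p) ^ N x j = 1 := (e x).symm.trans (by rw [h5, cX_one])
      by_contra h7
      rw [Odd.neg_one_zpow (Int.not_even_iff_odd.1 fun h8 => h7 h8.two_dvd)] at h6
      exact H.qq.two (by linear_combination -h6)
  have h5 := H.qq.diag hA.to hB.to
  refine h5.trans (congrArg (80 + ·) (Submodule.finrank_eq_zero.2 ((Submodule.eq_bot_iff _).2 fun v hv => ?_)))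
  · have h6 := mem_E1.1 hv.2
    funext j
    rcases j with i | r
    · have e1 := inl_of_fix (RP.of_mem (one_mem _)) (ad_one v) i
      have e2 := inl_of_fix hw h6 i
      have e3 := inl_of_fix (hw.mul hw) (by rw [ad_mul, h6, h6]) i
      have e4 : (3 : kb p) * v (Sum.inl i) = ∑ j, ((N (sr (f8 j)) (f8 i) : ℤ) : kb p) * v (Sum.inl j) := by
        refine (show (3 : kb p) * v (Sum.inl i) = v (Sum.inl i) + v (Sum.inl i) + v (Sum.inl i) by ring).trans
          ((congrArg₂ (· + ·) (congrArg₂ (· + ·) e1 e2) e3).trans ?_)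
        rw [← Finset.sum_add_distrib, ← Finset.sum_add_distrib]
        refine Finset.sum_congr rfl fun j _ => ?_
        rw [hN, map_one, rep_mul_apply, Pi.add_apply, Pi.add_apply, Int.cast_add, Int.cast_add, add_mul, add_mul]
        rfl
      rw [Finset.sum_eq_zero fun j _ => by rw [h4, Pi.zero_apply, Int.cast_zero, zero_mul]] at e4
      refine (mul_eq_zero.1 e4).resolve_left fun e => hp ?_
      exact (Nat.prime_dvd_prime_iff_eq Fact.out Nat.prime_three).1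
        ((CharP.cast_eq_zero_iff (kb p) p 3).1 (by exact_mod_cast e))
    · exact H.mem_wt.1 hv.1 _ (H.no_root r)

/-- characteristic three: the fixed vectors in a weight space of dimension `16` -/
theorem eight (h3 : (3 : kb p) = 0) (hA : TG a₁ a₂ s) (s1 : s * b₁ = b₁ * s) (s2 : s * b₂ = b₂ * s)
    (h16 : finrank (kb p) ↥(⊤ ⊓ E (ad chevE8 p a₁) 1 ⊓ E (ad chevE8 p a₂) 1 ⊓ E (ad chevE8 p b₁) 1 ⊓
      E (ad chevE8 p b₂) (-1)) = 16) :
    8 ≤ finrank (kb p) ↥(⊤ ⊓ E (ad chevE8 p a₁) 1 ⊓ E (ad chevE8 p a₂) 1 ⊓ E (ad chevE8 p b₁) 1 ⊓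
      E (ad chevE8 p b₂) (-1) ⊓ E (ad chevE8 p s) 1) := by
  classical
  have c1 : s⁻¹ * b₁ * s = b₁ := by rw [mul_assoc, ← s1, inv_mul_cancel_left]
  have c2 : s⁻¹ * b₂ * s = b₂ := by rw [mul_assoc, ← s2, inv_mul_cancel_left]
  obtain ⟨w, hw⟩ := H.exists_rp (k := s) (by rw [hA.inv_a]; exact mul_mem H.m1 H.m2) (by rw [hA.inv_b]; exact H.m1)
    (by rw [c1]; exact H.m3) (by rw [c2]; exact H.m4)
  have h1 : w * w * w = 1 := ((hw.mul hw).mul hw).unique (RP.of_mem (by rw [hA.sss]; exact one_mem _))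
  choose σ hσ using fun r : Fin chevE8.nroots => (show ∃ r' : Fin chevE8.nroots,
    vec chevE8 8 r' = rep cs₈ tE8.isCartan w (vec chevE8 8 r) from
      let ⟨r', hr, e⟩ := (isRoot_iff tE8 cs₈ _).1 ((isRoot_vec tE8 cs₈ r.2).act w); ⟨⟨r', hr⟩, e⟩)
  have hinj : ∀ r r' : Fin chevE8.nroots, vec chevE8 8 r = vec chevE8 8 r' → r = r' := fun r r' h =>
    Fin.ext (vec_inj tE8 r.2 r'.2 h)
  have hσ3 : ∀ r, σ (σ (σ r)) = r := fun r => hinj _ _ (by
    rw [hσ, hσ, hσ, ← rep_mul_apply, ← rep_mul_apply, h1, map_one, Module.End.one_apply])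
  have hc : ∀ a b : Y8 p, s⁻¹ * a * s = b → b ∈ TT chevE8 (kb p) → ∀ r,
      wtc tE8 a (Sum.inr (σ r)) = wtc tE8 b (Sum.inr r) := fun a b e hb r => by
    have h2 := hw.cX hb (vec chevE8 8 r)
    rw [← hσ, show s * b * s⁻¹ = a by rw [← e]; group] at h2
    exact h2
  have hR : ∀ r, Wt a₁ a₂ b₁ b₂ (-1) (Sum.inr r) → Wt a₁ a₂ b₁ b₂ (-1) (Sum.inr (σ r)) := fun r h =>
    ⟨(hc _ _ hA.inv_a (mul_mem H.m1 H.m2) r).trans ((cX_mul tE8 H.m1 H.m2 _).trans
      (by rw [show cX tE8 a₁ _ = 1 from h.1, one_mul]; exact h.2.1)), (hc _ _ hA.inv_b H.m1 r).trans h.1,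
      (hc _ _ c1 H.m3 r).trans h.2.2.1, (hc _ _ c2 H.m4 r).trans h.2.2.2⟩
  have hl : ∀ i, ¬ Wt a₁ a₂ b₁ b₂ (-1) (Sum.inl i) := fun i h => H.qq.two (by
    have h2 : (1 : kb p) = -1 := h.2.2.2
    linear_combination h2)
  set R := Finset.univ.filter fun r : Fin chevE8.nroots => Wt a₁ a₂ b₁ b₂ (-1) (Sum.inr r) with hRd
  have h2 : R.card = 16 := by
    have h2 := finrank_of_coord (Wt a₁ a₂ b₁ b₂ (-1)) _ fun v => H.mem_wt (v := v)
    rw [h16, card_sum_filter, Finset.filter_false_of_mem fun i _ => hl i, Finset.card_empty, zero_add] at h2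
    exact h2.symm
  have h4 : (R.filter fun r => σ r = r).card % 3 = 1 := by
    let f : Function.End {r : Fin chevE8.nroots // Wt a₁ a₂ b₁ b₂ (-1) (Sum.inr r)} := fun r => ⟨σ r, hR r r.2⟩
    have h4 := Equiv.Perm.card_fixedPoints_modEq (f := f) (p := 3) (n := 1) (funext fun r => Subtype.ext (hσ3 r))
    rw [Fintype.card_subtype, ← hRd, h2, ← Fintype.card_coe (R.filter fun r => σ r = r)] at *
    rw [← Fintype.card_congr (show f.fixedPoints ≃ (R.filter fun r => σ r = r) from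
      ⟨fun r => ⟨r.1.1, Finset.mem_filter.2 ⟨Finset.mem_filter.2 ⟨Finset.mem_univ _, r.1.2⟩, congrArg Subtype.val r.2⟩⟩,
        fun r => ⟨⟨r.1, (Finset.mem_filter.1 (Finset.mem_filter.1 r.2).1).2⟩, Subtype.ext (Finset.mem_filter.1 r.2).2⟩,
        fun _ => rfl, fun _ => rfl⟩)]
    exact h4.symm
  have h5 : (R.filter fun r => σ r = r).card ≠ 1 := fun e => by
    obtain ⟨r, hr⟩ := Finset.card_eq_one.1 e
    obtain ⟨h5, h6⟩ := Finset.mem_filter.1 (hr.ge (Finset.mem_singleton_self r))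
    have h7 := (Finset.mem_filter.1 h5).2
    obtain ⟨r', h8⟩ : ∃ r' : Fin chevE8.nroots, vec chevE8 8 r' = -vec chevE8 8 r :=
      let ⟨r', hr, e⟩ := (isRoot_iff tE8 cs₈ _).1 (isRoot_vec tE8 cs₈ r.2).neg; ⟨⟨r', hr⟩, e⟩
    have h9 : ∀ a ∈ TT chevE8 (kb p), wtc tE8 a (Sum.inr r') = (wtc tE8 a (Sum.inr r))⁻¹ := fun a ha => by
      show cX tE8 a (vec chevE8 8 r') = (cX tE8 a (vec chevE8 8 r))⁻¹
      rw [h8, (isMC_cX tE8 ha).neg]
    have h10 : r' = r := Finset.mem_singleton.1 (hr.le (Finset.mem_filter.2 ⟨Finset.mem_filter.2 ⟨Finset.mem_univ _,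
      by rw [h9 _ H.m1, h7.1, inv_one], by rw [h9 _ H.m2, h7.2.1, inv_one], by rw [h9 _ H.m3, h7.2.2.1, inv_one],
      by rw [h9 _ H.m4, h7.2.2.2, inv_neg_one]⟩, hinj _ _ (by rw [hσ, h8, map_neg, ← hσ, h6])⟩))
    rw [h10] at h8
    exact (isRoot_vec tE8 cs₈ r.2).ne_zero (self_eq_neg.1 h8)
  have h6 := Finset.card_filter_add_card_filter_not (s := R) fun r => σ r = r
  let e : Fin chevE8.nroots → chevE8.Idx → kb p := fun r => Pi.single (Sum.inr r) 1
  let U := Submodule.span (kb p) (((R.filter fun r => ¬ σ r = r).image e : Finset _) : Set (chevE8.Idx → kb p))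
  have h7 : finrank (kb p) U ≤ 12 :=
    ((finrank_span_finset_le_card _).trans Finset.card_image_le).trans (by omega)
  have hU : ∀ r, Wt a₁ a₂ b₁ b₂ (-1) (Sum.inr r) → σ r ≠ r → e r ∈ U := fun r h h' =>
    Submodule.subset_span (Finset.mem_coe.2 (Finset.mem_image_of_mem e
      (Finset.mem_filter.2 ⟨Finset.mem_filter.2 ⟨Finset.mem_univ _, h⟩, h'⟩)))
  have h8 := fix_ge h3 hA.to.sss (U := U) (M := ⊤ ⊓ E (ad chevE8 p a₁) 1 ⊓ E (ad chevE8 p a₂) 1 ⊓
    E (ad chevE8 p b₁) 1 ⊓ E (ad chevE8 p b₂) (-1))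
    (fun v hv => (show U ≤ U.comap (ad chevE8 p s) from Submodule.span_le.2 fun x hx => by
      obtain ⟨r, hr, rfl⟩ := Finset.mem_image.1 (Finset.mem_coe.1 hx)
      obtain ⟨h8, h9⟩ := Finset.mem_filter.1 hr
      obtain ⟨c, hc⟩ := ad_single hw (hσ r)
      show ad chevE8 p s (Pi.single (Sum.inr r) 1) ∈ U
      rw [hc]
      refine U.smul_mem c (hU _ (hR r (Finset.mem_filter.1 h8).2) fun h => h9 ?_)
      have h10 := hσ3 r
      rwa [h, h] at h10) hv)
    fun v hv => by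
      rw [pi_eq_sum_univ' v]
      refine Submodule.sum_mem _ fun j _ => ?_
      by_cases hj : Wt a₁ a₂ b₁ b₂ (-1) j
      · refine Submodule.smul_mem _ _ ?_
        rcases j with i | r
        · exact (hl i hj).elim
        · by_cases h : σ r = r
          · refine Submodule.mem_sup_left (mem_E1.2 ?_)
            obtain ⟨c, hc⟩ := ad_single hw (hσ r)
            rw [h] at hc
            have h9 := congrFun (hA.to.sss (Pi.single (Sum.inr r) 1)) (Sum.inr r)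
            rw [hc, map_smul, hc, map_smul, map_smul, hc] at h9
            simp only [Pi.smul_apply, Pi.single_eq_same, smul_eq_mul, mul_one] at h9
            have h10 : c = 1 := sub_eq_zero.1 (pow_eq_zero_iff three_ne_zero |>.1 (by
              linear_combination h9 + (c - c * c) * h3))
            rw [hc, h10, one_smul]
          · exact Submodule.mem_sup_right (hU r hj h)
      · rw [H.mem_wt.1 hv j hj, zero_smul]
        exact zero_mem _
  have h9 := h8.trans (Nat.add_le_add_left (Nat.mul_le_mul_left 2 h7) _)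
  omega

end TC

end Cfsg.Agent.Cam.E8O.E16
end

-- part: Cam/E8/OE16
section
prune_inst 0xd20740440c010000018051272002262cc0004b2006b8801d1e0094208cfff652d812720fcf01a1a8b0aaee56009804811000139400000c000008400411900a09c835222b358bd0c76008780e806410000000000000000000000000000041000000000000
set_option linter.all false
open scoped Cfsg.Agent.FastGrp

/-!
# S3690, the row `E₈`, the box E16 (helper75)
-/

set_option autoImplicit false
set_option linter.unusedSectionVars false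

namespace Cfsg.Agent.Cam.E8O.E16

open Cfsg Cfsg.Lie Module
open Cfsg.Agent.KFacts.RgdChevCoord (TT)
open Cfsg.Agent.DS.Nt Cfsg.Agent.Cam.Odd Cfsg.Agent.Cam.Odd.Lin
open Cfsg.Agent.Cam.Ex (kb tE8)

namespace TG

variable {G G' : Type*} [Group G] [Group G'] {a b s : G} (h : TG a b s)
include h

theorem map (f : G →* G') : TG (f a) (f b) (f s) where
  aa := by rw [← map_mul, h.aa, map_one]
  bb := by rw [← map_mul, h.bb, map_one]
  ab := by rw [← map_mul, h.ab, map_mul]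
  sa := by rw [← map_mul, h.sa, map_mul]
  sb := by rw [← map_mul, h.sb, map_mul, map_mul]
  sss := by rw [← map_mul, ← map_mul, h.sss, map_one]

theorem swap : TG b a s⁻¹ where
  aa := h.bb
  bb := h.aa
  ab := h.ab.symm
  sa := by rw [← h.inv_b]; group
  sb := by rw [← h.ab, ← h.inv_a]; group
  sss := by rw [← mul_inv_rev, ← mul_inv_rev, ← mul_assoc, h.sss, inv_one]

theorem left {u : G'} (hu : u * u * u = 1) : TG ((a, 1) : G × G') (b, 1) (s, u) where
  aa := Prod.ext h.aa (one_mul _)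
  bb := Prod.ext h.bb (one_mul _)
  ab := Prod.ext h.ab rfl
  sa := Prod.ext h.sa ((mul_one _).trans (one_mul _).symm)
  sb := Prod.ext h.sb (show u * 1 = 1 * 1 * u by rw [mul_one, one_mul, one_mul])
  sss := Prod.ext h.sss hu

theorem right {u : G'} (hu : u * u * u = 1) : TG ((1, a) : G' × G) (1, b) (u, s) where
  aa := Prod.ext (one_mul _) h.aa
  bb := Prod.ext (one_mul _) h.bb
  ab := Prod.ext rfl h.ab
  sa := Prod.ext ((mul_one _).trans (one_mul _).symm) h.sa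
  sb := Prod.ext (show u * 1 = 1 * 1 * u by rw [mul_one, one_mul, one_mul]) h.sb
  sss := Prod.ext hu h.sss

/-- the four-group -/
def four : Subgroup G where
  carrier := {1, a, b, a * b}
  one_mem' := Or.inl rfl
  mul_mem' := by
    have h1 : a * (a * b) = b := by rw [← mul_assoc, h.aa, one_mul]
    have h2 : b * (a * b) = a := by rw [h.ab, ← mul_assoc, h.bb, one_mul]
    have h3 : a * b * a = b := by rw [mul_assoc, ← h.ab, h1]
    have h4 : a * b * b = a := by rw [mul_assoc, h.bb, mul_one]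
    have h5 : a * b * (a * b) = 1 := by rw [mul_assoc, h2, h.aa]
    rintro x y (rfl | rfl | rfl | rfl) (rfl | rfl | rfl | rfl) <;>
      simp [h.aa, h.bb, ← h.ab, h1, h2, h3, h4, h5]
  inv_mem' := by
    rintro x (rfl | rfl | rfl | rfl)
    · simp
    · simp [inv_eq_of_mul_eq_one_left h.aa]
    · simp [inv_eq_of_mul_eq_one_left h.bb]
    · simp [inv_eq_of_mul_eq_one_left h.aa, inv_eq_of_mul_eq_one_left h.bb, h.ab]

end TG

variable {U : Type} [Group U] {x₁ x₂ t : U}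

theorem tg_of (h : Tet x₁ x₂ t) : TG x₁ x₂ t := by
  have h1 : x₁ * x₁ = 1 := by rw [← pow_two, ← h.o1, pow_orderOf_eq_one]
  refine ⟨h1, ?_, h.comm, mul_inv_eq_iff_eq_mul.1 h.c1, mul_inv_eq_iff_eq_mul.1 h.c2, ?_⟩
  · rw [← h.c1, conj_mul, h1, mul_one, mul_inv_cancel]
  · rw [← pow_three', ← h.o3, pow_orderOf_eq_one]

theorem card_four (h : Tet x₁ x₂ t) : Nat.card (tg_of h).four = 4 := by
  have h1 : x₁ ≠ 1 := fun e => by simpa [e] using h.o1
  have h2 : x₂ ≠ 1 := fun e => h1 (conj_eq_one_iff.1 (h.c1.trans e))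
  have h3 : x₁ * x₂ ≠ 1 := fun e => h2 (conj_eq_one_iff.1 (h.c2.trans e))
  exact Set.ncard_eq_four.2 ⟨1, x₁, x₂, x₁ * x₂, h1.symm, h2.symm, h3.symm, h.ne, fun e => h2 (left_eq_mul.1 e),
    fun e => h1 (right_eq_mul.1 e), rfl⟩

variable {p : ℕ} [Fact p.Prime] {μ : U × U →* Y8 p}

/-- conjugation -/
noncomputable def cm (g : Y8 p) (μ : U × U →* Y8 p) : U × U →* Y8 p := (MulAut.conj g).toMonoidHom.comp μ

theorem cm_apply (g : Y8 p) (μ : U × U →* Y8 p) (x : U × U) : cm g μ x = g * μ x * g⁻¹ := rfl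

theorem dd_cm (g : Y8 p) (μ : U × U →* Y8 p) (x : U × U) : dd p (cm g μ x) = dd p (μ x) := by
  rw [cm_apply, dd_conj]

theorem conj_pt (h : PT p μ x₁ x₂ t) (g : Y8 p) : PT p (cm g μ) x₁ x₂ t :=
  ⟨(MulAut.conj g).injective.comp h.inj, h.tet, fun a ha b hb e => (dd_cm g μ _).trans (h.pure a ha b hb e)⟩

theorem comm_mu (μ : U × U →* Y8 p) (a b : U) : μ (a, 1) * μ (1, b) = μ (1, b) * μ (a, 1) := by
  rw [← map_mul, ← map_mul, Prod.mk_mul_mk, Prod.mk_mul_mk, mul_one, one_mul, one_mul, mul_one]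

variable (hp : p ≠ 2) (h : PT p μ x₁ x₂ t)
include hp h

theorem card_E : Nat.card (((tg_of h.tet).four.prod (tg_of h.tet).four).map μ) = 16 := by
  rw [Subgroup.card_map_of_injective h.inj, Nat.card_congr (Subgroup.prodEquiv _ _).toEquiv, Nat.card_prod,
    card_four h.tet]

theorem pu_E : P8.Pu (((tg_of h.tet).four.prod (tg_of h.tet).four).map μ) := by
  have h1 : ∀ a ∈ (tg_of h.tet).four, a ^ 2 = 1 := by
    rintro a (rfl | rfl | rfl | rfl)
    · exact one_pow _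
    · exact (pow_two _).trans (tg_of h.tet).aa
    · exact (pow_two _).trans (tg_of h.tet).bb
    · rw [(show Commute _ _ from h.tet.comm).mul_pow, pow_two, pow_two, (tg_of h.tet).aa, (tg_of h.tet).bb, one_mul]
  refine pu_of hp (Nat.finite_of_card_ne_zero (by rw [card_E hp h]; norm_num)) ?_ ?_
  · rintro _ ⟨⟨a, b⟩, ⟨ha, hb⟩, rfl⟩
    rw [← map_pow, Prod.pow_mk, h1 a ha, h1 b hb]
    exact map_one μ
  · rintro _ ⟨⟨a, b⟩, ⟨ha, hb⟩, rfl⟩ e
    exact h.pure a ha b hb fun e' => e (by rw [e', map_one])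

theorem qq : QQ (ad chevE8 p (μ (x₁, 1))) (ad chevE8 p (μ (x₂, 1))) (ad chevE8 p (μ (1, x₁)))
    (ad chevE8 p (μ (1, x₂))) := by
  have h1 := (pu_E hp h).fx
  have m0 : (1 : U) ∈ (tg_of h.tet).four := one_mem _
  have m1 : x₁ ∈ (tg_of h.tet).four := Or.inr (Or.inl rfl)
  have m2 : x₂ ∈ (tg_of h.tet).four := Or.inr (Or.inr (Or.inl rfl))
  refine ⟨cm_of (comm_mu μ _ _), cm_of (comm_mu μ _ _), cm_of (comm_mu μ _ _), cm_of (comm_mu μ _ _),
    (pu_E hp h).two, P8.fr248, h.pure _ m1 _ m0 fun e => ?_, ?_⟩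
  · have h2 := h.tet.o1
    rw [show x₁ = 1 from congrArg Prod.fst e, orderOf_one] at h2
    exact absurd h2 (by norm_num)
  · have h2 : Fx p ((((tg_of h.tet).four.prod (tg_of h.tet).four).map μ : Subgroup (Y8 p)) : Set (Y8 p)) =
        ⊤ ⊓ E (ad chevE8 p (μ (x₁, 1))) 1 ⊓ E (ad chevE8 p (μ (x₂, 1))) 1 ⊓ E (ad chevE8 p (μ (1, x₁))) 1 ⊓
          E (ad chevE8 p (μ (1, x₂))) 1 := by
      refine le_antisymm (fun v hv => ⟨⟨⟨⟨trivial, mem_E1.2 (hv _ ⟨_, ⟨m1, m0⟩, rfl⟩)⟩, mem_E1.2 (hv _ ⟨_, ⟨m2, m0⟩, rfl⟩)⟩,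
        mem_E1.2 (hv _ ⟨_, ⟨m0, m1⟩, rfl⟩)⟩, mem_E1.2 (hv _ ⟨_, ⟨m0, m2⟩, rfl⟩)⟩) ?_
      have key : ∀ (f : U →* Y8 p) v, ad chevE8 p (f x₁) v = v → ad chevE8 p (f x₂) v = v →
          ∀ a ∈ (tg_of h.tet).four, ad chevE8 p (f a) v = v := by
        rintro f v e1 e2 a (rfl | rfl | rfl | rfl)
        · rw [map_one, ad_one]
        · exact e1
        · exact e2
        · rw [map_mul, ad_mul, e2, e1]
      rintro v ⟨⟨⟨⟨-, e1⟩, e2⟩, e3⟩, e4⟩ _ ⟨⟨a, b⟩, ⟨ha, hb⟩, rfl⟩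
      have e5 : ad chevE8 p (μ (a, 1)) v = v := key (μ.comp (MonoidHom.inl U U)) v (mem_E1.1 e1) (mem_E1.1 e2) a ha
      have e6 : ad chevE8 p (μ (1, b)) v = v := key (μ.comp (MonoidHom.inr U U)) v (mem_E1.1 e3) (mem_E1.1 e4) b hb
      rw [show ((a, b) : U × U) = (a, 1) * (1, b) by simp, map_mul, ad_mul, e6, e5]
    rw [card_E hp h, h2] at h1
    omega

theorem exists_tc : ∃ g : Y8 p, TC (cm g μ (x₁, 1)) (cm g μ (x₂, 1)) (cm g μ (1, x₁)) (cm g μ (1, x₂)) := by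
  obtain ⟨g, hg⟩ := P8.toral16 (pu_E hp h) (card_E hp h)
  have m0 : (1 : U) ∈ (tg_of h.tet).four := one_mem _
  have m1 : x₁ ∈ (tg_of h.tet).four := Or.inr (Or.inl rfl)
  have m2 : x₂ ∈ (tg_of h.tet).four := Or.inr (Or.inr (Or.inl rfl))
  have key : ∀ a ∈ (tg_of h.tet).four, ∀ b ∈ (tg_of h.tet).four, cm g μ (a, b) ∈ TT chevE8 (kb p) := fun a ha b hb => by
    rw [cm_apply]
    exact hg _ ⟨(a, b), ⟨ha, hb⟩, rfl⟩
  exact ⟨g, hp, key _ m1 _ m0, key _ m2 _ m0, key _ m0 _ m1, key _ m0 _ m2, qq hp (conj_pt h g)⟩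

omit hp h in
theorem TC.swap {a₁ a₂ b₁ b₂ : Y8 p} (H : TC a₁ a₂ b₁ b₂) : TC a₁ a₂ b₂ b₁ :=
  ⟨H.ne, H.m1, H.m2, H.m4, H.m3, H.qq.c12, H.qq.c11, H.qq.c22, H.qq.c21, H.qq.two, H.qq.dim, H.qq.d1, by
    rw [inf_right_comm]
    exact H.qq.d0⟩

omit hp h in
theorem boxE16 : BoxE16 := by
  intro p _ hp U _ μ x₁ x₂ t h
  have T := tg_of h.tet
  have o : (1 : U) * 1 * 1 = 1 := by simp
  have Q := qq hp h
  obtain ⟨g, H⟩ := exists_tc hp h
  let ν := cm g μ
  refine ⟨Q.diag_le ((T.left T.sss).map μ).to ((T.right T.sss).map μ).to, fun h3 => ?_, fun h3 => ⟨?_, ?_, ?_⟩⟩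
  · have e : (3 : kb p) = 0 := by
      subst h3
      exact_mod_cast CharP.cast_eq_zero (kb 3) 3
    have hA := (T.left o).map ν
    have hB := (T.right o).map ν
    have t1 := cm_of (comm_mu ν x₁ t)
    have t2 := cm_of (comm_mu ν x₂ t)
    rw [← dd_cm g]
    exact H.qq.three hA.to hB.to (cm_of (comm_mu ν t x₁)) (cm_of (comm_mu ν t x₂)) t1.symm t2.symm
      (cm_of (comm_mu ν t t)) e (H.eight e hA (comm_mu ν t x₁) (comm_mu ν t x₂)
        (H.qq.d16 hA.to hB.to (((Inv.top _).inf (t1.inv 1)).inf (t2.inv 1))))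
  · rw [← dd_cm g]
    exact H.diag h3 ((T.left T.sss).map ν) ((T.right T.sss).map ν)
  · rw [← dd_cm g]
    exact H.swap.diag h3 ((T.left T.swap.sss).map ν) ((T.swap.right T.sss).map ν)
  · have h1 := Q.last ((T.left o).map μ).to ((T.right o).map μ).to (cm_of (comm_mu μ x₁ t)).symm
      (cm_of (comm_mu μ x₂ t)).symm (cm_of (comm_mu μ t t))
    have h2 : Fx p {μ (x₁, 1), μ (1, t)} = E (ad chevE8 p (μ (1, t))) 1 ⊓ E (ad chevE8 p (μ (x₁, 1))) 1 :=
      le_antisymm (fun v hv => ⟨mem_E1.2 (hv _ (Or.inr rfl)), mem_E1.2 (hv _ (Or.inl rfl))⟩) (by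
        rintro v hv _ (rfl | rfl)
        exacts [mem_E1.1 hv.2, mem_E1.1 hv.1])
    rw [h2]
    exact h1

end Cfsg.Agent.Cam.E8O.E16
end

-- part: Cam/E8K/F
section
prune_inst 0x600000000000000000000022000c00000000430800000000000000240000000620000000101000800000000000000000000000000000000000000000000000020000400000000000000000000000000000000000000000000000000000000000000
set_option linter.all false
open scoped Cfsg.Agent.FastGrp

-- part: Cam/E8K/D
section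
/-!
# `E₈`: points of minimal norm, opposite points, the torus of a point (helper65)

* `ip` : the inner product; `Mn R v` : `v` is a lower bound for the norms of the points of the elements of `C(R)`;
* `Mn.supp`, `Mn.pos` : the support of an element of minimal norm lies on the ray of its point; `Mn.opp` : opposite points;
* `Tz φ c s` : `s` is the torus element with the character `c ^ φ`; `exists_phi`.
-/

set_option autoImplicit false
set_option maxRecDepth 100000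
set_option linter.unusedVariables false
set_option linter.unusedSectionVars false

namespace Cfsg.Agent.Cam.E8K

open CoxeterSystem Cfsg Cfsg.Lie Matrix
open Cfsg.Agent.ChevalleyStructure.CoxeterGeom Cfsg.Agent.Tits.Roots
open Cfsg.Agent.Nodes.BNOf Cfsg.Agent.Nodes.RGDChev Cfsg.Agent.KFacts.RgdChevCoord
open Cfsg.Agent.H942.E8Tab (e8T)
open Cfsg.Agent.H288.E8L (wt act8)
open Cfsg.Agent.E8A Cfsg.Agent.E8A.Par
open Cfsg.Agent.E8A.Kem (cw cw_apply nrm nrm_cw eq_of_nrm St Rad)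
open Cfsg.Agent.Cam.E8 (In CR Pt Lv)
open Subgroup (centralizer closure zpowers mem_centralizer_iff)

/-! ### the inner product -/

/-- the inner product -/
noncomputable def ip (l l' : Co) : ℝ :=
  haveI : Fintype W8 := Fintype.ofFinite W8
  ∑ w : W8, ∑ i : Fin 8, l (act8 w (sr i)) * l' (act8 w (sr i))

theorem ip_comm (l l' : Co) : ip l l' = ip l' l :=
  Finset.sum_congr rfl fun _ _ => Finset.sum_congr rfl fun _ _ => mul_comm _ _

theorem ip_self (l : Co) : ip l l = nrm l :=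
  Finset.sum_congr rfl fun _ _ => Finset.sum_congr rfl fun _ _ => (sq _).symm

theorem ip_lin (l l₁ l₂ : Co) (a b : ℝ) : ip l (a • l₁ + b • l₂) = a * ip l l₁ + b * ip l l₂ := by
  unfold ip
  rw [Finset.mul_sum, Finset.mul_sum, ← Finset.sum_add_distrib]
  refine Finset.sum_congr rfl fun w _ => ?_
  rw [Finset.mul_sum, Finset.mul_sum, ← Finset.sum_add_distrib]
  refine Finset.sum_congr rfl fun i _ => ?_
  rw [AddMonoidHom.add_apply, AddMonoidHom.smul_apply, AddMonoidHom.smul_apply, smul_eq_mul, smul_eq_mul]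
  ring

theorem nrm_lin (l₁ l₂ : Co) (a b : ℝ) :
    nrm (a • l₁ + b • l₂) = a ^ 2 * nrm l₁ + 2 * a * b * ip l₁ l₂ + b ^ 2 * nrm l₂ := by
  rw [← ip_self, ip_lin, ip_comm _ l₁, ip_comm _ l₂, ip_lin, ip_lin, ip_self, ip_self, ip_comm l₂ l₁]
  ring

theorem nrm_pos {l : Co} (h : l ≠ 0) : 0 < nrm l := not_le.1 fun e => h (eq_of_nrm (by rwa [sub_zero]))

theorem nrm_nonneg (l : Co) : 0 ≤ nrm l := (sq_nonneg _).trans (Kem.sq_le_nrm l 0)

section min

variable {K : Type} [Field K] {l l' m : Co} {x y r u w g : G8 K} {R : Subgroup (G8 K)}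

theorem cl_comm (hr : r ∈ Lev K l) (hr' : r ∈ Lev K l') (hx : Tr l l' x) (h : r * x = x * r) :
    r * cl l l' x = cl l l' x * r := by
  have h1 := cl_mul (tr_of hr'.1) hx
  rw [h, cl_mul hx (tr_of hr.1), cl_lev hr, cl_lev hr'] at h1
  exact h1.symm

theorem Lev_lin (h : x ∈ Lev K l) (h' : x ∈ Lev K l') (a b : ℝ) : x ∈ Lev K (a • l + b • l') := mem_Lev.2 fun c hc => by
  rw [AddMonoidHom.add_apply, AddMonoidHom.smul_apply, AddMonoidHom.smul_apply, mem_Lev.1 h c hc, mem_Lev.1 h' c hc,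
    smul_zero, smul_zero, add_zero]

/-- a lower bound for the norms of the points of the elements of the centralizer -/
def Mn (R : Subgroup (G8 K)) (v : ℝ) : Prop :=
  ∀ u ∈ centralizer (R : Set (G8 K)), u ≠ 1 → ∀ g l, g * u * g⁻¹ ∈ Rad K l → v ≤ nrm l

theorem mem_cent_conj : g * u * g⁻¹ ∈ centralizer (R.map (MulAut.conj g).toMonoidHom : Set (G8 K)) ↔
    u ∈ centralizer (R : Set (G8 K)) := Spor.map_centralizer_equiv (MulAut.conj g) R ▸ Spor.mem_map_equiv' (MulAut.conj g)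

theorem Mn.conj {v : ℝ} (h : Mn R v) (g : G8 K) : Mn (R.map (MulAut.conj g).toMonoidHom) v := fun u hu h1 g' l e => by
  refine h (g⁻¹ * u * g) (mem_cent_conj.1 (by rwa [show g * (g⁻¹ * u * g) * g⁻¹ = u by group])) (fun e' => h1 ?_) (g' * g) l ?_
  · rw [show u = g * (g⁻¹ * u * g) * g⁻¹ by group, e', mul_one, mul_inv_cancel]
  · rwa [show g' * g * (g⁻¹ * u * g) * (g' * g)⁻¹ = g' * u * g'⁻¹ by group]

/-- the support of an element of minimal norm -/
theorem Mn.supp (h : Mn R (nrm l)) (hl : R ≤ Lev K l) (hm : R ≤ Lev K m) (hu : u ∈ centralizer (R : Set (G8 K)))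
    (hu' : u ∈ Rad K l) (hip : ip l m ≤ 0) : ∀ a ∈ Sp u, m a ≤ 0 := by
  intro a₀ ha₀
  by_contra h0
  have h1 := mem_Rad.1 hu'
  obtain ⟨a, ha, hmax⟩ := Set.exists_max_image (Sp u) (fun a => m a / l a) (Sp_finite u) ⟨a₀, ha₀⟩
  have hM : 0 < m a / l a := (div_pos (not_le.1 h0) (zero_lt_one.trans_le (h1 a₀ ha₀))).trans_le (hmax a₀ ha₀)
  have hMa : m a / l a * l a = m a := div_mul_cancel₀ _ (zero_lt_one.trans_le (h1 a ha)).ne'
  generalize m a / l a = M at hmax hM hMa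
  have hk : ∀ b, (M • l + (-1 : ℝ) • m) b = M * l b - m b := fun b => by
    rw [AddMonoidHom.add_apply, AddMonoidHom.smul_apply, AddMonoidHom.smul_apply, smul_eq_mul, smul_eq_mul]
    ring
  have h2 : u ∈ St K (M • l + (-1 : ℝ) • m) := mem_St'.2 fun b hb => by
    rw [hk, sub_nonneg]
    exact (div_le_iff₀ (zero_lt_one.trans_le (h1 b hb))).1 (hmax b hb)
  have hN : 0 < nrm l := nrm_pos fun e => by
    have h3 := h1 a ha
    rw [e, AddMonoidHom.zero_apply] at h3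
    exact absurd h3 (by norm_num)
  have hZ := nrm_nonneg m
  obtain ⟨ε, hε, hε'⟩ : ∃ ε : ℝ, 0 < ε ∧ ε * (nrm m + 1) = M * nrm l :=
    ⟨M * nrm l / (nrm m + 1), by (clear * - hM hN hZ; positivity), div_mul_cancel₀ _ (by positivity)⟩
  obtain ⟨c, hc, hc'⟩ : ∃ c : ℝ, 0 < c ∧ c * (1 + ε * M) = 1 :=
    ⟨(1 + ε * M)⁻¹, by positivity, inv_mul_cancel₀ (by positivity)⟩
  have h3 := h (cl _ _ u) (mem_centralizer_iff.2 fun r hr => cl_comm (Lev_lin (hl hr) (hm hr) M (-1))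
    (Lev_lin (hl hr) (hm hr) M (-1)) (tr_of h2) (mem_centralizer_iff.1 hu r hr)) (fun e => by
      have h3 := (Sp_cl h2).2 ⟨ha, by rw [hk, hMa, sub_self]⟩
      rw [e] at h3
      obtain ⟨i, j, h4, -⟩ := h3
      exact h4 (by rw [mx_one, sub_self, Matrix.zero_apply])) 1 (c • l + (c * ε) • m) (by
      rw [one_mul, inv_one, mul_one]
      refine mem_Rad.2 fun b hb => ?_
      obtain ⟨h3, h4⟩ := (Sp_cl h2).1 hb
      rw [hk, sub_eq_zero] at h4
      rw [AddMonoidHom.add_apply, AddMonoidHom.smul_apply, AddMonoidHom.smul_apply, smul_eq_mul, smul_eq_mul, ← h4,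
        show c * l b + c * ε * (M * l b) = c * (1 + ε * M) * l b by ring, hc', one_mul]
      exact h1 b h3)
  rw [nrm_lin] at h3
  have h4 : (c * (1 + ε * M)) ^ 2 * nrm l ≤ c ^ 2 * (nrm l + ε ^ 2 * nrm m) := by
    rw [hc']
    linarith only [h3, mul_nonneg (mul_pos (mul_pos hc hc) hε).le (neg_nonneg.2 hip)]
  rw [mul_pow, mul_assoc, mul_le_mul_iff_right₀ (by positivity)] at h4
  have h5 : ε * (2 * (M * nrm l)) ≤ ε * (ε * nrm m) := by linarith only [h4, mul_pos (mul_pos (mul_pos hε hM) (mul_pos hε hM)) hN]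
  rw [mul_le_mul_iff_right₀ hε] at h5
  linarith only [hε, hε', h5, mul_pos hM hN]

theorem Mn.pos (h : Mn R (nrm l)) (hl : R ≤ Lev K l) (hm : R ≤ Lev K m) (hu : u ∈ centralizer (R : Set (G8 K)))
    (hu' : u ∈ Rad K l) (hip : 0 < ip l m) : u ∈ Ru K m := mem_Ru'.2 fun a ha => by
  have h1 := mem_Rad.1 hu' a ha
  have hN : 0 < nrm l := nrm_pos fun e => by
    rw [e, AddMonoidHom.zero_apply] at h1
    exact absurd h1 (by norm_num)
  have h2 := h.supp hl (fun r hr => Lev_lin (hl hr) (hm hr) (ip l m / nrm l) (-1)) hu hu' (by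
    rw [ip_lin, ip_self, div_mul_cancel₀ _ hN.ne']
    linarith) a ha
  rw [AddMonoidHom.add_apply, AddMonoidHom.smul_apply, AddMonoidHom.smul_apply, smul_eq_mul, smul_eq_mul] at h2
  linarith only [h2, mul_pos (div_pos hip hN) (zero_lt_one.trans_le h1)]

/-- **opposite points** -/
theorem Mn.opp (p : ℕ) [Fact p.Prime] [CharP K p] (h : Mn R (nrm l)) (hR : CR R) (hl : R ≤ Lev K l)
    (hu : u ∈ centralizer (R : Set (G8 K))) (hu' : u ∈ Rad K l) (hy : y ∈ centralizer (R : Set (G8 K)))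
    (hp : ¬ IsPGroup p (_root_.Subgroup.closure {u, y * u * y⁻¹} : Subgroup (G8 K))) : ∃ w ∈ Ru K l, Tr l (-l) (w * y) := by
  obtain ⟨g, m, h1, h2, h3, h4⟩ := apt hR (g₁ := 1) (g₂ := y⁻¹) (l₁ := l) (l₂ := l)
    (fun r hr => by rw [one_mul, inv_one, mul_one]; exact (hl hr).1)
    (fun r hr => by rw [inv_inv, mul_assoc, mem_centralizer_iff.1 hy r hr, inv_mul_cancel_left]; exact (hl hr).1)
  rw [inv_one, mul_one] at h1
  rw [inv_inv] at h2
  by_cases e : m = -l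
  · refine ⟨_, h1.cl_mul', ?_⟩
    rw [mul_assoc]
    exact (bl_cl h1).inv.2.mul (e ▸ h2)
  exfalso
  have h5 : R.map (MulAut.conj g).toMonoidHom ≤ Lev K l := by rintro _ ⟨r, hr, rfl⟩; exact h3 r hr
  have h6 : R.map (MulAut.conj g).toMonoidHom ≤ Lev K m := by rintro _ ⟨r, hr, rfl⟩; exact h4 r hr
  have h7 : R.map (MulAut.conj g).toMonoidHom ≤ Lev K ((1 : ℝ) • l + (1 : ℝ) • m) := fun r hr => Lev_lin (h5 hr) (h6 hr) 1 1
  have h8 := nrm_pos (l := (1 : ℝ) • l + (1 : ℝ) • m) fun e' => e (by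
    rw [one_smul, one_smul] at e'
    exact eq_neg_of_add_eq_zero_right e')
  have h9 := h2.nrm_eq
  rw [nrm_lin] at h8
  have h10 := (h.conj g).pos h5 h7 (mem_cent_conj.2 hu) (h1.conj_Rad hu') (by rw [ip_lin, ip_self]; linarith)
  have h11 := (h9 ▸ h.conj g).pos h6 h7 (mem_cent_conj.2 (mul_mem (mul_mem hy hu) (inv_mem hy)))
    (by
      rw [show g * (y * u * y⁻¹) * g⁻¹ = g * y * u * (g * y)⁻¹ by group]
      exact h2.conj_Rad hu') (by rw [ip_lin, ip_self, ip_comm]; linarith)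
  refine hp (((isPGroup_Ru p ((1 : ℝ) • l + (1 : ℝ) • m)).comap_of_injective (MulAut.conj g).toMonoidHom (MulAut.conj g).injective).to_le ?_)
  rw [Subgroup.closure_le]
  rintro _ (rfl | rfl)
  exacts [h10, h11]

theorem opp_comm (hw : w ∈ Ru K l) (h : Tr l (-l) (w * y)) (hr : r ∈ Lev K l) (hc : r * y = y * r) :
    r * w = w * r ∧ r * cl l (-l) (w * y) = cl l (-l) (w * y) * r := by
  have h1 : r * w * r⁻¹ * w⁻¹ = 1 := eq_one_of_Ru (mul_mem ((tr_of hr.1).conj_Ru hw) (inv_mem hw)) (by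
    have h2 := (((tr_of hr.2).mul h).mul (tr_of hr.1).inv).mul h.inv
    rw [show r * (w * y) * r⁻¹ * (w * y)⁻¹ = r * w * (y * r⁻¹ * y⁻¹) * w⁻¹ by group,
      show y * r⁻¹ * y⁻¹ = r⁻¹ by rw [mul_inv_eq_iff_eq_mul, eq_inv_mul_iff_mul_eq, ← mul_assoc, hc, mul_inv_cancel_right]] at h2
    exact h2.st)
  have h2 : r * w = w * r := by rwa [mul_inv_eq_one, mul_inv_eq_iff_eq_mul] at h1
  exact ⟨h2, cl_comm hr (by rwa [Lev_neg]) h (by rw [← mul_assoc, h2, mul_assoc, hc, mul_assoc])⟩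

/-! ### the torus of a point -/

theorem exists_phi (h : l ≠ 0) : ∃ φ : Q8 →+ ℤ, (∀ a, l a = 0 → φ a = 0) ∧ ∃ a, φ a = 1 := by
  let f : Q8 →ₗ[ℤ] ℝ := l.toIntLinearMap
  have : Module.Finite ℤ (LinearMap.range f) := Module.Finite.range f
  have : Nontrivial (LinearMap.range f) := by
    obtain ⟨a, ha⟩ := DFunLike.ne_iff.1 h
    exact ⟨⟨⟨f a, a, rfl⟩, 0, fun e => ha (congrArg Subtype.val e)⟩⟩
  let b := Module.Free.chooseBasis ℤ (LinearMap.range f)
  obtain ⟨i⟩ := b.index_nonempty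
  refine ⟨((b.coord i).comp f.rangeRestrict).toAddMonoidHom, fun a ha => ?_, ?_⟩
  · show b.coord i (f.rangeRestrict a) = 0
    rw [show f.rangeRestrict a = 0 from Subtype.ext ha, map_zero]
  · obtain ⟨a, ha⟩ := f.surjective_rangeRestrict (b i)
    refine ⟨a, ?_⟩
    show b.coord i (f.rangeRestrict a) = 1
    rw [ha]
    simp

/-- the torus element with the character `c ^ φ` -/
def Tz (φ : Q8 →+ ℤ) (c : Kˣ) (s : G8 K) : Prop := mx s = diagonal fun i => (c : K) ^ φ (wt i)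

variable {φ : Q8 →+ ℤ} {c : Kˣ} {s : G8 K}

theorem isMC_phi (φ : Q8 →+ ℤ) (c : Kˣ) : H129.TorusChar.IsMC fun a : Q8 => (c : K) ^ φ a :=
  ⟨by rw [map_zero, zpow_zero], fun a b => by rw [map_add, zpow_add₀ c.ne_zero]⟩

theorem exists_Tz (φ : Q8 →+ ℤ) (c : Kˣ) : ∃ s : G8 K, Tz φ c s := by
  obtain ⟨t, ht, h⟩ := H129.TorusChar.exists_cX e8T Frm.invB8 one_ne_zero (isMC_phi φ c) fun i => ⟨_, pow_one _⟩
  refine ⟨t, ?_⟩
  rw [Tz, mx_TT ht]
  congr 1
  exact funext fun i => h _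

theorem Tz.pow (h : Tz φ c s) (k : ℕ) : Tz φ (c ^ k) (s ^ k) := by
  rw [Tz, Kem.mx_pow, h, diagonal_pow]
  congr 1
  funext i
  rw [Pi.pow_apply, Units.val_pow_eq_pow_val, ← zpow_natCast, ← zpow_natCast, ← _root_.zpow_mul, ← _root_.zpow_mul, mul_comm]

theorem Tz.eq_one (h : Tz φ 1 s) : s = 1 := mx_injective (by
  rw [h, mx_one, ← diagonal_one]
  congr 1
  funext i
  rw [Units.val_one, _root_.one_zpow])

theorem Tz.eq_one' (h : Tz φ c (1 : G8 K)) {a : Q8} (ha : φ a = 1) : c = 1 := by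
  have h1 := (isMC_phi φ c).ext (ψ := fun _ => 1) ⟨rfl, fun _ _ => (mul_one _).symm⟩ (fun i => by
    obtain ⟨r, hr⟩ := H288.E8L.exists_idx (isRoot_sr cs8 e8T.isCartan i)
    have h2 := congrFun (congrFun h (Sum.inr r)) (Sum.inr r)
    rw [mx_one, Matrix.one_apply_eq, diagonal_apply_eq, H288.E8L.wt_inr, hr] at h2
    exact h2.symm) a
  rw [ha, zpow_one] at h1
  exact Units.ext h1

theorem Tz.lev (h : Tz φ c s) (l : Co) : s ∈ Lev K l := mem_Lev.2 (forall_Sp.2 fun i j e => by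
  by_cases e' : i = j
  · rw [e', sub_self, map_zero]
  · rw [sub_one_ne e', h, diagonal_apply_ne _ e'] at e
    exact absurd rfl e)

theorem Tz.sc (h : Tz φ c s) (hφ : ∀ a, l a = 0 → φ a = 0) : Sc l s := by
  classical
  refine ⟨(h.lev l).1, fun x => if e : ∃ a, l a = x then (c : K) ^ φ e.choose else 0, ?_⟩
  rw [msk_bl (bl_lev (h.lev l)), h]
  congr 1
  funext i
  have e : ∃ a, l a = l (wt i) := ⟨_, rfl⟩
  have h1 := hφ (e.choose - wt i) (by rw [map_sub, e.choose_spec, sub_self])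
  rw [map_sub, sub_eq_zero] at h1
  beta_reduce
  rw [dif_pos e, h1]

theorem Tz.comm (h : Tz φ c s) (hφ : ∀ a, l a = 0 → φ a = 0) (hy : y ∈ Lev K l) : y * s = s * y := mx_injective (by
  rw [mx_mul, mx_mul, h]
  refine diag_comm (f := fun a => (c : K) ^ φ a) (f' := fun a => (c : K) ^ φ a) fun i j e => ?_
  have h1 := hφ (wt j - wt i) (by rw [map_sub, (bl_lev hy).eq e, sub_self])
  rw [map_sub, sub_eq_zero] at h1
  rw [h1])

theorem Tz.inv (h : Tz φ c s) (hφ : ∀ a, l a = 0 → φ a = 0) (hy : Bl l (-l) y) : s * y * s = y := mx_injective (by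
  rw [mx_mul, mx_mul, h]
  ext i j
  rw [mul_diagonal, diagonal_mul]
  by_cases e : mx y i j = 0
  · rw [e, mul_zero, zero_mul]
  · have h1 := hφ (wt i + wt j) (by rw [map_add, hy.eq e, AddMonoidHom.neg_apply, add_neg_cancel])
    rw [mul_right_comm, ← zpow_add₀ c.ne_zero, ← map_add, h1, zpow_zero, one_mul])

end min

end Cfsg.Agent.Cam.E8K
end

-- part: Cam/E8K/E
section
/-!
# `E₈`: the centralizer of `R` has order prime to `p` (helper65)

* `H5 p τ R` : an element of order `p` of `C(R)` which centralizes an involution of `T` lies in `T`;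
* `uni` : `q ≥ 4`, and `q ≠ 5` or `H5 p τ R`: `p` does not divide the order of `C(R)`.
-/

set_option autoImplicit false
set_option maxRecDepth 100000
set_option linter.unusedVariables false
set_option linter.unusedSectionVars false

namespace Cfsg.Agent.Cam.E8K

open Cfsg Cfsg.Lie
open Cfsg.Agent.E8A Cfsg.Agent.E8A.Par
open Cfsg.Agent.E8A.Kem (nrm St Rad)
open Cfsg.Agent.Cam.E8 (In CR Pt Lv AllCR)
open Cfsg.Agent.Cam.Spor
open Subgroup

section grp

variable {L : Type} [Group L]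

theorem pow_coset {T : Subgroup L} {a b : L} (ha : a ∈ normalizer (T : Set L)) (h : a⁻¹ * b ∈ T) (k : ℕ) :
    (a ^ k)⁻¹ * b ^ k ∈ T := by
  induction k with
  | zero => rw [pow_zero, pow_zero, inv_one, one_mul]; exact one_mem _
  | succ k ih =>
    rw [show (a ^ (k + 1))⁻¹ * b ^ (k + 1) = a⁻¹ * ((a ^ k)⁻¹ * b ^ k) * a⁻¹⁻¹ * (a⁻¹ * b) by rw [pow_succ, pow_succ]; group]
    exact mul_mem (conj_mem_of_norm (inv_mem ha) ih) h

/-- Baer–Suzuki inside a group with two generators -/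
theorem exists_pair2 [Finite L] {p : ℕ} [Fact p.Prime] {a b : L} (hb : b ^ p = 1)
    (h : ¬ IsPGroup p (_root_.Subgroup.closure {a, b} : Subgroup L)) :
    ∃ y ∈ closure ({a, b} : Set L), ¬ IsPGroup p (closure {a, y * a * y⁻¹} : Subgroup L) := by
  by_contra e
  push Not at e
  set H := _root_.Subgroup.closure ({a, b} : Set L) with hH
  have ha : a ∈ H := _root_.Subgroup.subset_closure (Or.inl rfl)
  have hb' : b ∈ H := _root_.Subgroup.subset_closure (Or.inr rfl)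
  have h1 := Involutions.BaerSuzuki.baer_suzuki_element (p := p) (⟨a, ha⟩ : H) fun g => by
    refine ((e g.1 g.2).comap_of_injective H.subtype H.subtype_injective).to_le ?_
    rw [closure_le]
    rintro _ (rfl | rfl)
    · exact _root_.Subgroup.subset_closure (Or.inl rfl)
    · exact _root_.Subgroup.subset_closure (Or.inr rfl)
  have h2 : IsPGroup p (zpowers (⟨b, hb'⟩ : H)) := by
    rintro ⟨_, k, rfl⟩
    refine ⟨1, Subtype.ext (Subtype.ext ?_)⟩
    show (b ^ k) ^ p ^ 1 = 1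
    rw [pow_one, ← zpow_natCast, zpow_comm, zpow_natCast, hb, one_zpow]
  refine h (((h1.to_sup_of_normal_left h2).map H.subtype).to_le ?_)
  rw [closure_le]
  rintro _ (rfl | rfl)
  · exact ⟨⟨_, ha⟩, mem_sup_left (subset_normalClosure rfl), rfl⟩
  · exact ⟨⟨_, hb'⟩, mem_sup_right (mem_zpowers _), rfl⟩

/-- an element of order `p` of the centralizer of `R` which centralizes an involution of `T` lies in `T` -/
def H5 (p : ℕ) {U : Type} [Group U] (τ : U →* L) (R : Subgroup L) : Prop :=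
  ∀ c ∈ centralizer (R : Set L), c ^ p = 1 → ∀ z ∈ τ.range, z ≠ 1 → z ^ 2 = 1 → c * z = z * c → c ∈ τ.range

theorem H5.map {p : ℕ} {U : Type} [Group U] {τ : U →* L} {R : Subgroup L} (h : H5 p τ R) (e : L ≃* L) :
    H5 p (e.toMonoidHom.comp τ) (R.map e.toMonoidHom) := by
  rintro c hc hp _ ⟨v, rfl⟩ h1 h2 h3
  obtain ⟨c, rfl⟩ := e.surjective c
  rw [← map_centralizer_equiv, mem_map_equiv'] at hc
  obtain ⟨x, hx⟩ := h c hc (e.injective (by rw [map_pow, hp, map_one])) (τ v) ⟨v, rfl⟩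
    (fun e' => h1 (by rw [MonoidHom.comp_apply, e', map_one])) (e.injective (by rw [map_pow, map_one]; exact h2))
    (e.injective (by rw [map_mul, map_mul]; exact h3))
  exact ⟨x, congrArg e hx⟩

end grp

variable {F : Type} [Field F] [Finite F] {p : ℕ} [Fact p.Prime] [CharP F p] {U : Type} [Group U] [Finite U]
  {τ α β : U →* G8 F} {R R' : Subgroup (G8 F)}

theorem coprime_card (p : ℕ) [Fact p.Prime] [CharP F p] : p.Coprime (Nat.card F - 1) := by
  obtain ⟨n, hn, he⟩ := exists_card_eq p (F := F)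
  have hp : p.Prime := Fact.out
  refine hp.coprime_iff_not_dvd.2 fun h => hp.one_lt.ne' (Nat.dvd_one.1 ?_)
  have h1 := Nat.dvd_sub (he ▸ dvd_pow_self p hn.ne' : p ∣ Nat.card F) h
  rwa [Nat.sub_sub_self (Nat.card_pos (α := F))] at h1

theorem uni0 (hq : 4 ≤ Nat.card F) (h5 : Nat.card F ≠ 5 ∨ H5 p τ R) (c : Core τ α β R R') (hA : CR α.range) (hR : CR R) {l : Co}
    (hl : R ≤ Lev F l) (hm : Mn R (nrm l)) {u : G8 F} (hu : u ∈ centralizer (R : Set (G8 F))) (hu1 : u ≠ 1)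
    (hup : u ^ p = 1) (hu' : u ∈ Rad F l) : False := by
  have := finite8 (F := F)
  have := c.simple
  have hs : IsSimpleGroup τ.range := (MonoidHom.ofInjective c.pair.inj).symm.isSimpleGroup
  have hn : ¬ IsMulCommutative τ.range := fun h => c.noncomm ⟨⟨fun a b => c.pair.inj (by
    rw [map_mul, map_mul]
    exact congrArg Subtype.val (h.1.1 ⟨τ a, a, rfl⟩ ⟨τ b, b, rfl⟩))⟩⟩
  have hT : τ.range ≤ centralizer (R : Set (G8 F)) := by
    rintro _ ⟨v, rfl⟩
    exact mem_centralizer_iff.2 fun r hr => (c.pair.comm v r hr).symm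
  have hN := c.pair.cnorm
  obtain ⟨t, ht, hp⟩ := Ex.E2.exists_pair hs hn (p := p) (hN hu) fun h => hu1 (c.pair.cfaith u hu fun v => h _ ⟨v, rfl⟩)
  obtain ⟨w, hw, hwt⟩ := hm.opp p hR hl hu hu' (hT ht) hp
  have hw' : w ∈ centralizer (R : Set (G8 F)) := mem_centralizer_iff.2 fun r hr =>
    (opp_comm hw hwt (hl hr) (mem_centralizer_iff.1 (hT ht) r hr)).1
  have hn' : cl l (-l) (w * t) ∈ centralizer (R : Set (G8 F)) := mem_centralizer_iff.2 fun r hr =>
    (opp_comm hw hwt (hl hr) (mem_centralizer_iff.1 (hT ht) r hr)).2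
  have hb := bl_cl hwt
  have hw3 := hwt.cl_mul'
  generalize cl l (-l) (w * t) = n at hn' hb hw3
  obtain ⟨w3, rfl⟩ : ∃ w3, n = w * t * w3⁻¹ := ⟨n⁻¹ * (w * t), by group⟩
  rw [show (w * t * w3⁻¹)⁻¹ * (w * t) = w3 by group] at hw3
  have hw3' : w3 ∈ centralizer (R : Set (G8 F)) := by
    rw [show w3 = (w * t * w3⁻¹)⁻¹ * (w * t) by group]
    exact mul_mem (inv_mem hn') (mul_mem hw' (hT ht))
  -- the torus element
  obtain ⟨φ, hφ, a₀, ha₀⟩ := exists_phi (l := l) fun e => hu1 (Ru_zero (e ▸ Rad_le_Ru l hu'))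
  obtain ⟨ζ, hζ⟩ := IsCyclic.exists_ofOrder_eq_natCard (α := Fˣ)
  rw [Nat.card_units] at hζ
  obtain ⟨s, hs0⟩ := exists_Tz φ ζ
  have hsq : ∀ k, s ^ k = 1 ↔ Nat.card F - 1 ∣ k := fun k => by
    rw [← hζ, orderOf_dvd_iff_pow_eq_one]
    exact ⟨fun e => (e ▸ hs0.pow k).eq_one' ha₀, fun e => (e ▸ hs0.pow k).eq_one⟩
  have hs' : s ∈ centralizer (R : Set (G8 F)) := mem_centralizer_iff.2 fun r hr => hs0.comm hφ (hl hr)
  have hinv := hs0.inv hφ hb
  have hcop := coprime_card (F := F) p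
  obtain ⟨h₀, hh₀⟩ : s ^ 2 ∈ τ.range := by
    have he : w * w3⁻¹ ∈ Ru F l := mul_mem hw (inv_mem hw3)
    have he' := mul_mem hw' (inv_mem hw3')
    have ht' := conj_mem_of_norm (hN hw3') ht
    rw [show w * t * w3⁻¹ = w * w3⁻¹ * (w3 * t * w3⁻¹) by group] at hinv
    generalize w * w3⁻¹ = e at he he' hinv
    generalize w3 * t * w3⁻¹ = t' at ht' hinv
    obtain ⟨k, hk⟩ := Ru_pow p (mul_mem ((tr_of (hs0.lev l).1).conj_Ru he) (inv_mem he))
    have h1 := pow_coset (b := s ^ 2) (hN (mul_mem (mul_mem (mul_mem hs' he') (inv_mem hs')) (inv_mem he'))) (by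
      have h2 : (s * e * s⁻¹ * e⁻¹)⁻¹ * s ^ 2 = e * (s * t' * s⁻¹ * t'⁻¹) * e⁻¹ :=
        calc _ = (s * e * s⁻¹ * e⁻¹)⁻¹ * s * (s * (e * t') * s) * s⁻¹ * (e * t')⁻¹ := by rw [sq]; group
          _ = _ := by rw [hinv]; group
      rw [h2]
      exact conj_mem_of_norm (hN he') (mul_mem (conj_mem_of_norm (hN hs') ht') (inv_mem ht'))) (p ^ k)
    rw [hk, inv_one, one_mul] at h1
    refine (zpowers_le.2 h1) (mem_zpowers_pow_iff.2 ?_)
    exact (hcop.pow_left k).coprime_dvd_right (orderOf_dvd_of_pow_eq_one (by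
      rw [← pow_mul]; exact (hsq _).2 (dvd_mul_left _ _)))
  have hz1 : s ^ 2 ≠ 1 := fun e => by
    have := Nat.le_of_dvd two_pos ((hsq 2).1 e)
    omega
  by_cases hc : ∃ v, v ≠ 1 ∧ τ v ∈ Rad F l
  · obtain ⟨v, hv, hv'⟩ := hc
    have h1 : orderOf h₀ ≠ 1 := fun e => hz1 (by rw [← hh₀, orderOf_eq_one_iff.1 e, map_one])
    have h2 := Nat.minFac_prime h1
    have h3 := Nat.minFac_dvd (orderOf h₀)
    have h4 := orderOf_pow_orderOf_div (orderOf_pos h₀).ne' h3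
    generalize (orderOf h₀).minFac = r at h2 h3 h4
    have h6 : τ (h₀ ^ (orderOf h₀ / r)) = s ^ (2 * (orderOf h₀ / r)) := by rw [map_pow, hh₀, pow_mul]
    have h7 := ml (p := p) c hA (P := (Rad F l).comap τ)
      (((isPGroup_Ru p l).to_le (Rad_le_Ru l)).comap_of_injective τ c.pair.inj) h2
      (fun e => (Fact.out : p.Prime).coprime_iff_not_dvd.1 hcop (e ▸ h3.trans (orderOf_dvd_of_pow_eq_one (c.pair.inj (by
        rw [map_pow, hh₀, map_one, ← pow_mul]
        exact (hsq _).2 (dvd_mul_left _ _))))))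
      (h := h₀ ^ (orderOf h₀ / r)) (orderOf_dvd_iff_pow_eq_one.1 h4.dvd) (fun x hx => by
        rw [mem_comap, map_mul, map_mul, map_inv, h6]
        exact Kem.Rad.conj (pow_mem (hs0.lev l).1 _) hx) (g₂ := 1) (m := l)
      ⟨by
        rintro _ ⟨x, hx, rfl⟩
        rwa [one_mul, inv_one, mul_one], fun g' l' h' =>
        hm (τ v) (hT ⟨v, rfl⟩) (fun e => hv (c.pair.inj (e.trans (map_one τ).symm))) g' l' (h' _ ⟨v, hv', rfl⟩)⟩
      (by rw [one_mul, inv_one, mul_one, h6]; exact (hs0.pow _).sc hφ)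
    rw [h7, orderOf_one] at h4
    exact h2.one_lt.ne h4
  push Not at hc
  have hz : ∀ x ∈ centralizer (R : Set (G8 F)), x ∈ Rad F l → s ^ 2 * x = x * s ^ 2 := fun x hx hx' => by
    have h1 : s ^ 2 * x * (s ^ 2)⁻¹ * x⁻¹ ∈ τ.range := by
      rw [show s ^ 2 * x * (s ^ 2)⁻¹ * x⁻¹ = s ^ 2 * (x * (s ^ 2)⁻¹ * x⁻¹) by group]
      exact mul_mem ⟨h₀, hh₀⟩ (conj_mem_of_norm (hN hx) (inv_mem ⟨h₀, hh₀⟩))
    obtain ⟨v, hv⟩ := h1
    have h2 : v = 1 := by
      by_contra e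
      exact hc v e (hv ▸ mul_mem (Kem.Rad.conj (pow_mem (hs0.lev l).1 2) hx') (inv_mem hx'))
    rw [h2, map_one, eq_comm, mul_inv_eq_one, mul_inv_eq_iff_eq_mul] at hv
    exact hv
  by_cases e5 : Nat.card F = 5
  · obtain ⟨v, hv⟩ := h5.resolve_left (not_not.2 e5) u hu hup _ ⟨h₀, hh₀⟩ hz1
      (by rw [← pow_mul]; exact (hsq _).2 (by rw [e5])) (hz u hu hu').symm
    exact hc v (fun e => hu1 (by rw [← hv, e, map_one])) (hv ▸ hu')
  have hinv2 : ∀ n, s * n * s = n → s ^ 2 * n * s ^ 2 = n := fun n e => by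
    rw [show s ^ 2 * n * s ^ 2 = s * (s * n * s) * s by rw [sq]; group, e, e]
  have h1 := mul_mem (mul_mem hw' hu) (inv_mem hw')
  have h2 := Kem.Rad.conj hw.1 hu'
  obtain ⟨y, hy, hp'⟩ := exists_pair2 (p := p) (a := w * u * w⁻¹) (b := w * t * u * (w * t)⁻¹)
    (by rw [conj_pow, hup, mul_one, mul_inv_cancel]) fun h => hp
      ((h.comap_of_injective (MulAut.conj w).toMonoidHom (MulAut.conj w).injective).to_le (by
        rw [closure_le]
        rintro _ (rfl | rfl)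
        · exact subset_closure (Or.inl rfl)
        · refine subset_closure (Or.inr ?_)
          show w * (t * u * t⁻¹) * w⁻¹ = _
          group))
  have h3 : _root_.Subgroup.closure {w * u * w⁻¹, w * t * u * (w * t)⁻¹} ≤ centralizer (R : Set (G8 F)) ⊓ centralizer {s ^ 2} := by
    rw [closure_le]
    rintro _ (rfl | rfl)
    · exact mem_inf.2 ⟨h1, mem_centralizer_singleton_iff.2 (hz _ h1 h2).symm⟩
    · have h3 := mul_mem hw' (hT ht)
      refine mem_inf.2 ⟨mul_mem (mul_mem h3 hu) (inv_mem h3), mem_centralizer_singleton_iff.2 ?_⟩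
      have h4 := hz _ (mul_mem (mul_mem hw3' hu) (inv_mem hw3')) (Kem.Rad.conj hw3.1 hu')
      have h6 := hinv2 _ hinv
      rw [show w * t * u * (w * t)⁻¹ = w * t * w3⁻¹ * (w3 * u * w3⁻¹) * (w * t * w3⁻¹)⁻¹ by group]
      generalize w * t * w3⁻¹ = n at h6
      generalize w3 * u * w3⁻¹ = x at h4
      generalize s ^ 2 = z at h4 h6
      have h7 : z * n = n * z⁻¹ := eq_mul_inv_of_mul_eq h6
      calc n * x * n⁻¹ * z = n * z⁻¹ * (z * x) * n⁻¹ * (z * n) * n⁻¹ := by group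
        _ = z * n * (x * z) * n⁻¹ * (n * z⁻¹) * n⁻¹ := by rw [h4, h7]
        _ = _ := by group
  obtain ⟨w2, hw2, hy2⟩ := hm.opp p hR hl h1 h2 (h3 hy).1 hp'
  have h4 := (opp_comm hw2 hy2 (pow_mem (hs0.lev l) 2) (mem_centralizer_singleton_iff.1 (h3 hy).2).symm).2
  have h6 := hinv2 _ (hs0.inv hφ (bl_cl hy2))
  rw [h4, mul_assoc, mul_eq_left, ← pow_add] at h6
  have h7 := (hsq _).1 h6
  have h8 := Nat.le_of_dvd (by norm_num) h7
  obtain e : Nat.card F - 1 = 3 := by omega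
  rw [e] at h7
  exact absurd h7 (by norm_num)

theorem cr_conj {K : Type} [Field K] {A : Subgroup (G8 K)} (h : CR A) (g : G8 K) :
    CR (A.map (MulAut.conj g).toMonoidHom) := fun g' l e => by
  obtain ⟨r, hr, h1⟩ := h (g' * g) l fun a ha => by
    have h1 := e _ ⟨a, ha, rfl⟩
    rwa [show g' * g * a * (g' * g)⁻¹ = g' * (g * a * g⁻¹) * g'⁻¹ by group]
  refine ⟨r, hr, ?_⟩
  rintro _ ⟨a, ha, rfl⟩
  have h2 := h1 a ha
  rwa [show r * (g' * g) * a * (r * (g' * g))⁻¹ = r * g' * (g * a * g⁻¹) * (r * g')⁻¹ by group] at h2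

theorem dr_zpowers {K : Type} [Field K] {u g : G8 K} {l : Co} (h : g * u * g⁻¹ ∈ Rad K l) : DR (zpowers u) g l :=
  fun _ ha => (zpowers_le (H := (Rad K l).comap (MulAut.conj g).toMonoidHom)).2 h ha

/-- **the centralizer of `R` has order prime to `p`** -/
theorem uni (hq : 4 ≤ Nat.card F) (h5 : Nat.card F ≠ 5 ∨ H5 p τ R) (c : Core τ α β R R') (hA : CR α.range) (hR : CR R) :
    ¬ p ∣ Nat.card (centralizer (R : Set (G8 F))) := by
  intro hp
  have := finite8 (F := F)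
  obtain ⟨u₀, hu₀⟩ := exists_prime_orderOf_dvd_card' p hp
  let S := {u : G8 F // u ∈ centralizer (R : Set (G8 F)) ∧ u ≠ 1 ∧ IsPGroup p (zpowers u)}
  have : Nonempty S := ⟨⟨u₀, u₀.2, fun e => (Fact.out : p.Prime).one_lt.ne (by
    rw [← hu₀, show u₀ = 1 from Subtype.ext e, orderOf_one]), IsPGroup.of_card (n := 1) (by
      rw [Nat.card_zpowers, orderOf_coe, hu₀, pow_one])⟩⟩
  choose g l ho using fun u : S => exists_opt p u.2.2.2
  obtain ⟨u, hu⟩ := Finite.exists_min fun u => nrm (l u)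
  have hm : Mn R (nrm (l u)) := fun x hx hx1 g' l' e => by
    have h1 := dr_zpowers e
    refine (hu ⟨x, hx, hx1, ?_⟩).trans ((ho _).2 g' l' h1)
    exact (((isPGroup_Ru p l').to_le (Rad_le_Ru l')).comap_of_injective (MulAut.conj g').toMonoidHom
      (MulAut.conj g').injective).to_le h1
  obtain ⟨r, hr, h1⟩ := cr_iff.1 hR (g u) (l u) fun x hx => opt_norm (ho u) fun a ha => by
    rw [mem_centralizer_iff.1 (zpowers_le.2 u.2.1 ha) x hx, mul_inv_cancel_right]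
    exact ha
  have h2 := (ho u).1.tr (tr_of hr.1)
  obtain ⟨x, hx⟩ := exists_prime_orderOf_dvd_card' (G := zpowers u.1) p (by
    obtain ⟨k, hk⟩ := u.2.2.2.exists_card_eq
    rcases k with _ | k
    · rw [pow_zero, Nat.card_zpowers, orderOf_eq_one_iff] at hk
      exact absurd hk u.2.2.1
    · exact hk ▸ dvd_pow_self p k.succ_ne_zero)
  refine uni0 (p := p) hq (h5.imp_right fun h => h.map _) (c.map (MulAut.conj (r * g u))) (by rw [range_comp_equiv]; exact cr_conj hA _) (cr_conj hR _)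
    (l := l u) (by rintro _ ⟨a, ha, rfl⟩; exact h1 a ha) (hm.conj _) (u := r * g u * x * (r * g u)⁻¹)
    (mem_cent_conj.2 (zpowers_le.2 u.2.1 x.2)) (fun e => (Fact.out : p.Prime).one_lt.ne ?_) ?_ (h2 _ x.2)
  · rw [mul_inv_eq_one, mul_eq_left] at e
    rw [show x = 1 from Subtype.ext e, orderOf_one] at hx
    exact hx
  · rw [conj_pow, ← coe_pow, orderOf_dvd_iff_pow_eq_one.1 hx.dvd, coe_one, mul_one, mul_inv_cancel]

end Cfsg.Agent.Cam.E8K
end

-- part: Cam/E8/Crk0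
section
/-!
# Kempf for tuples, the polynomial part (helper53)

* `Fil w c f` : all monomials of `f` have `w`-weight at most `c`;
* `comp_van` : the ideal of a set which is stable under the torus is graded;
* `exists_H` : an orbit of tuples of matrices is open in its closure.
-/

set_option autoImplicit false

namespace Cfsg.Agent.Cam.E8.Crk

open MvPolynomial Matrix
open Cfsg.Agent.LangThm (van mem_van Gam ev mp mp_mem exists_dense exists_open)
open Cfsg.Agent.H129.TorusChar (IsMC)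

universe u

variable {K : Type u} [Field K] {σ τ : Type}

/-! ### Filtrations -/

/-- all monomials have weight at most `c` -/
def Fil (w : σ → ℝ) (c : ℝ) (f : MvPolynomial σ K) : Prop := ∀ m ∈ f.support, Finsupp.weight w m ≤ c

variable {w : σ → ℝ} {c c' : ℝ} {f g : MvPolynomial σ K}

theorem Fil.mono (h : Fil w c f) (hc : c ≤ c') : Fil w c' f := fun m hm => (h m hm).trans hc

theorem Fil.of_support (h : Fil w c f) {L : Type u} [Field L] {g : MvPolynomial σ L} (hs : g.support ⊆ f.support) :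
    Fil w c g := fun m hm => h m (hs hm)

theorem fil_zero : Fil w c (0 : MvPolynomial σ K) := fun m hm => by simp at hm

theorem Fil.add (h : Fil w c f) (h' : Fil w c g) : Fil w c (f + g) := by
  classical
  intro m hm
  rcases Finset.mem_union.1 (support_add hm) with h1 | h1
  exacts [h m h1, h' m h1]

theorem fil_sum {ι : Type*} (s : Finset ι) (F : ι → MvPolynomial σ K) (h : ∀ i ∈ s, Fil w c (F i)) :
    Fil w c (∑ i ∈ s, F i) :=
  Finset.sum_induction _ (Fil w c) (fun _ _ => Fil.add) fil_zero h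

theorem Fil.mul (h : Fil w c f) (h' : Fil w c' g) : Fil w (c + c') (f * g) := by
  classical
  intro m hm
  obtain ⟨a, ha, b, hb, rfl⟩ := Finset.mem_add.1 (support_mul f g hm)
  rw [map_add]
  exact add_le_add (h a ha) (h' b hb)

theorem fil_monomial (m : σ →₀ ℕ) (a : K) (h : a ≠ 0 → Finsupp.weight w m ≤ c) : Fil w c (monomial m a) := by
  classical
  intro m' hm'
  rw [support_monomial] at hm'
  by_cases ha : a = 0
  · simp [ha] at hm'
  · rw [if_neg ha, Finset.mem_singleton] at hm'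
    exact hm' ▸ h ha

theorem fil_C (a : K) : Fil w 0 (C a : MvPolynomial σ K) := fil_monomial 0 a fun _ => by rw [map_zero]

theorem fil_CX (a : K) (s : σ) (h : a ≠ 0 → w s ≤ c) : Fil w c (C a * X s : MvPolynomial σ K) := by
  rw [C_mul_X_eq_monomial]
  refine fil_monomial _ _ fun ha => ?_
  rw [Finsupp.weight_single, one_smul]
  exact h ha

theorem fil_X (s : σ) (h : w s ≤ c) : Fil w c (X s : MvPolynomial σ K) := by
  have := fil_CX (1 : K) s fun _ => h
  rwa [C_1, one_mul] at this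

theorem Fil.pow (h : Fil w c f) (n : ℕ) : Fil w (n • c) (f ^ n) := by
  induction n with
  | zero => simpa using fil_C (w := w) (1 : K)
  | succ n ih => rw [pow_succ, succ_nsmul]; exact ih.mul h

theorem fil_prod {ι : Type*} (s : Finset ι) (F : ι → MvPolynomial σ K) (e : ι → ℝ) (h : ∀ i ∈ s, Fil w (e i) (F i)) :
    Fil w (∑ i ∈ s, e i) (∏ i ∈ s, F i) := by
  classical
  induction s using Finset.induction_on with
  | empty => simpa using fil_C (w := w) (1 : K)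
  | insert a s ha ih =>
    rw [Finset.sum_insert ha, Finset.prod_insert ha]
    exact (h a (Finset.mem_insert_self _ _)).mul (ih fun i hi => h i (Finset.mem_insert_of_mem hi))

/-- substitution -/
theorem Fil.aeval {w' : τ → ℝ} {u : σ → MvPolynomial τ K} (hu : ∀ s, Fil w' (w s) (u s)) (h : Fil w c f) :
    Fil w' c (aeval u f) := by
  rw [f.as_sum, map_sum]
  refine fil_sum _ _ fun m hm => ?_
  rw [aeval_monomial]
  have h1 := (fil_C (w := w') (coeff m f)).mul (fil_prod m.support (fun s => u s ^ m s) (fun s => m s • w s)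
    fun s _ => (hu s).pow _)
  rw [zero_add] at h1
  exact h1.mono (h m hm)

theorem exists_fil (w : σ → ℝ) (f : MvPolynomial σ K) : ∃ c, Fil w c f := by
  obtain ⟨c, hc⟩ := (f.support.finite_toSet.image (Finsupp.weight w)).bddAbove
  exact ⟨c, fun m hm => hc ⟨m, hm, rfl⟩⟩

theorem finite_deg [Finite σ] (d : ℝ) : {m : σ →₀ ℕ | Finsupp.weight (fun _ => (1 : ℝ)) m ≤ d}.Finite := by
  refine (Finsupp.finite_of_degree_le (σ := σ) ⌈d⌉₊).subset fun m hm => ?_
  have h1 : Finsupp.weight (fun _ => (1 : ℝ)) m = (m.degree : ℝ) := by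
    rw [Finsupp.weight_apply, Finsupp.degree_apply, Nat.cast_sum]
    exact Finset.sum_congr rfl fun s _ => by simp
  have h2 : (m.degree : ℝ) ≤ ⌈d⌉₊ := (h1 ▸ hm : (m.degree : ℝ) ≤ d).trans (Nat.le_ceil d)
  exact_mod_cast h2

/-! ### Monomials and components -/

theorem aeval_eq_sum (v : σ → K) (f : MvPolynomial σ K) :
    aeval v f = ∑ m ∈ f.support, coeff m f * ∏ s ∈ m.support, v s ^ m s := by
  conv_lhs => rw [f.as_sum, map_sum]
  exact Finset.sum_congr rfl fun m _ => by rw [aeval_monomial]; rfl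

theorem exists_mon {v : σ → K} (h : aeval v f ≠ 0) : ∃ m ∈ f.support, ∀ s ∈ m.support, v s ≠ 0 := by
  rw [aeval_eq_sum] at h
  obtain ⟨m, hm, h1⟩ := Finset.exists_ne_zero_of_sum_ne_zero h
  refine ⟨m, hm, fun s hs h2 => right_ne_zero_of_mul h1 (Finset.prod_eq_zero hs ?_)⟩
  rw [h2, zero_pow (Finsupp.mem_support_iff.1 hs)]

theorem weight_comp {Q : Type} [AddCommGroup Q] (l : Q →+ ℝ) (wv : σ → Q) (m : σ →₀ ℕ) :
    Finsupp.weight (fun s => l (wv s)) m = l (Finsupp.weight wv m) := by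
  rw [Finsupp.weight_apply, Finsupp.weight_apply, map_finsuppSum]
  exact Finset.sum_congr rfl fun s _ => (map_nsmul l _ _).symm

theorem sum_comp {Q : Type} [AddCommGroup Q] [DecidableEq Q] (wv : σ → Q) (f : MvPolynomial σ K) :
    ∑ χ ∈ f.support.image (Finsupp.weight wv), weightedHomogeneousComponent wv χ f = f := by
  simp only [weightedHomogeneousComponent_apply]
  rw [Finset.sum_fiberwise_of_maps_to fun m hm => Finset.mem_image_of_mem _ hm]
  exact f.as_sum.symm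

theorem support_comp {Q : Type} [AddCommGroup Q] (wv : σ → Q) (χ : Q) (f : MvPolynomial σ K) :
    (weightedHomogeneousComponent wv χ f).support ⊆ f.support := by
  classical
  rw [support_weightedHomogeneousComponent]
  exact Finset.filter_subset _ _

theorem exists_comp {Q : Type} [AddCommGroup Q] (wv : σ → Q) {v : σ → K} (h : aeval v f ≠ 0) :
    ∃ m ∈ f.support, aeval v (weightedHomogeneousComponent wv (Finsupp.weight wv m) f) ≠ 0 := by
  classical
  rw [← sum_comp wv f, map_sum] at h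
  obtain ⟨χ, hχ, h1⟩ := Finset.exists_ne_zero_of_sum_ne_zero h
  obtain ⟨m, hm, rfl⟩ := Finset.mem_image.1 hχ
  exact ⟨m, hm, h1⟩

theorem aeval_scale {n : ℕ} {wv : σ → Fin n → ℤ} {χ : Fin n → ℤ} (h : IsWeightedHomogeneous wv f χ)
    {φ : (Fin n → ℤ) → K} (hφ : IsMC φ) (v : σ → K) : aeval (fun s => φ (wv s) * v s) f = φ χ * aeval v f := by
  rw [aeval_eq_sum, aeval_eq_sum, Finset.mul_sum]
  refine Finset.sum_congr rfl fun m hm => ?_
  rw [← h (mem_support_iff.1 hm), Finsupp.weight_apply, Finsupp.sum, hφ.sum]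
  simp only [mul_pow, Finset.prod_mul_distrib, hφ.nsmul]
  ring

theorem exists_pow_ne [Infinite K] {n : ℕ} (hn : n ≠ 0) : ∃ u : K, u ≠ 0 ∧ u ^ n ≠ 1 := by
  classical
  obtain ⟨u, hu⟩ := Infinite.exists_notMem_finset (insert (0 : K) (Polynomial.nthRootsFinset n (1 : K)))
  rw [Finset.mem_insert, not_or, Polynomial.mem_nthRootsFinset (Nat.pos_of_ne_zero hn)] at hu
  exact ⟨u, hu⟩

/-- the character of the torus -/
def chr {n : ℕ} (χ : Fin n → ℤ) : (Fin n → Kˣ) →* K where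
  toFun c := ∏ i, (c i : K) ^ χ i
  map_one' := by simp only [_root_.Pi.one_apply, _root_.Units.val_one, _root_.one_zpow, _root_.Finset.prod_const_one]
  map_mul' a b := by simp only [mul_zpow, Finset.prod_mul_distrib, _root_.Pi.mul_apply, _root_.Units.val_mul, _root_.mul_zpow, _root_.Finset.prod_mul_distrib]

theorem chr_injective [Infinite K] {n : ℕ} : Function.Injective (chr : (Fin n → ℤ) → (Fin n → Kˣ) →* K) := by
  intro χ ψ h
  funext i
  by_contra hne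
  obtain ⟨u, hu0, hu⟩ := exists_pow_ne (K := K) (Int.natAbs_ne_zero.2 (sub_ne_zero.2 hne))
  have key : ∀ ξ : Fin n → ℤ, chr ξ (Pi.mulSingle i (Units.mk0 u hu0)) = u ^ ξ i := fun ξ => by
    show ∏ j, ((Pi.mulSingle (M := fun _ => Kˣ) i (Units.mk0 u hu0) j : Kˣ) : K) ^ ξ j = _
    rw [Finset.prod_eq_single i (fun j _ hj => by simp [Pi.mulSingle_eq_of_ne hj]) (by simp only [_root_.Finset.mem_univ, _root_.not_true_eq_false, _root_.Pi.mulSingle_eq_same, _root_.Units.val_mk0, _root_.IsEmpty.forall_iff])]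
    simp
  have h1 : u ^ χ i = u ^ ψ i := by rw [← key, ← key, h]
  have h2 : u ^ (χ i - ψ i) = 1 := by rw [zpow_sub₀ hu0, h1, div_self (zpow_ne_zero _ hu0)]
  apply hu
  rw [← zpow_natCast]
  rcases Int.natAbs_eq (χ i - ψ i) with h3 | h3
  · rw [← h3, h2]
  · rw [show ((χ i - ψ i).natAbs : ℤ) = -(χ i - ψ i) by omega, _root_.zpow_neg, h2, inv_one]

/-- **the ideal of a set which is stable under the torus is graded** -/
theorem comp_van [Infinite K] {n : ℕ} (wv : σ → Fin n → ℤ) {v : σ → K}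
    (h : ∀ φ : (Fin n → ℤ) → K, IsMC φ → aeval (fun s => φ (wv s) * v s) f = 0) (χ : Fin n → ℤ) :
    aeval v (weightedHomogeneousComponent wv χ f) = 0 := by
  classical
  by_cases hχ : χ ∈ f.support.image (Finsupp.weight wv)
  · have li := (linearIndependent_monoidHom (Fin n → Kˣ) K).comp _ (chr_injective (K := K) (n := n))
    refine linearIndependent_iff'.1 li _ (fun ψ => aeval v (weightedHomogeneousComponent wv ψ f)) ?_ χ hχ
    funext c
    have hφ := IsMC.of_prod (fun i => (c i : K)) fun i => (c i).ne_zero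
    have h1 := h _ hφ
    rw [← sum_comp wv f, map_sum] at h1
    rw [Finset.sum_apply, Pi.zero_apply, ← h1]
    refine Finset.sum_congr rfl fun ψ _ => ?_
    rw [aeval_scale (weightedHomogeneousComponent_isWeightedHomogeneous ψ f) hφ, mul_comm]
    rfl
  · rw [weightedHomogeneousComponent_eq_zero' χ f fun m hm e => hχ (e ▸ Finset.mem_image_of_mem _ hm), map_zero]

/-! ### Tuples of matrices -/

variable {N : Type} [Fintype N] [DecidableEq N] {κ : Type}

/-- the coordinates of a tuple of matrices -/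
def cm {R : Type*} (y : κ → Matrix N N R) : κ × N × N → R := fun s => y s.1 s.2.1 s.2.2

/-- the substitution `y ↦ A y B` -/
noncomputable def sb (A B : Matrix N N K) : κ × N × N → MvPolynomial (κ × N × N) K :=
  fun s => ∑ k, ∑ m, C (A s.2.1 k * B m s.2.2) * X (s.1, k, m)

omit [DecidableEq N] in
theorem aeval_sb (A B : Matrix N N K) (y : κ → Matrix N N K) (f : MvPolynomial (κ × N × N) K) :
    aeval (cm y) (aeval (sb A B) f) = aeval (cm fun a => A * y a * B) f := by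
  rw [comp_aeval_apply]
  congr 2
  funext s
  simp only [sb, cm, map_sum, map_mul, aeval_C, aeval_X, Matrix.mul_apply, Finset.sum_mul]
  rw [Finset.sum_comm]
  refine Finset.sum_congr rfl fun m _ => Finset.sum_congr rfl fun k _ => ?_
  show A _ _ * B _ _ * _ = _
  ring

omit [DecidableEq N] in
theorem fil_sb {A B : Matrix N N K} {w w' : κ × N × N → ℝ}
    (h : ∀ a i j k m, A i k ≠ 0 → B m j ≠ 0 → w' (a, k, m) ≤ w (a, i, j)) (s : κ × N × N) :
    Fil w' (w s) (sb A B s) :=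
  fil_sum _ _ fun k _ => fil_sum _ _ fun m _ => fil_CX _ _ fun h1 =>
    h _ _ _ k m (left_ne_zero_of_mul h1) (right_ne_zero_of_mul h1)

/-- the conjugate of a tuple by a matrix of determinant one -/
noncomputable def cv (x : κ → Matrix N N K) {R : Type*} [CommRing R] [Algebra K R] (M : Matrix N N R) :
    κ × N × N → R := cm fun a => M * (x a).map (algebraMap K R) * M.adjugate

theorem map_cv (x : κ → Matrix N N K) {R S : Type*} [CommRing R] [Algebra K R] [CommRing S] [Algebra K S]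
    (φ : R →ₐ[K] S) (M : Matrix N N R) (s : κ × N × N) : φ (cv x M s) = cv x (M.map φ) s := by
  have h1 : φ.mapMatrix (M * (x s.1).map (algebraMap K R) * M.adjugate) =
      M.map φ * (x s.1).map (algebraMap K S) * (M.map φ).adjugate := by
    rw [map_mul, map_mul, AlgHom.map_adjugate]
    congr 2
    ext i j
    exact φ.commutes _
  exact congrFun (congrFun h1 s.2.1) s.2.2

theorem cv_eq (x : κ → Matrix N N K) (g : GL N K) (hg : (g : Matrix N N K).det = 1) :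
    cv x (g : Matrix N N K) = cm fun a => (g : Matrix N N K) * x a * ((g⁻¹ : GL N K) : Matrix N N K) := by
  have h1 : ((g⁻¹ : GL N K) : Matrix N N K) = (g : Matrix N N K).adjugate :=
    Units.inv_eq_of_mul_eq_one_right (by rw [mul_adjugate, hg, one_smul])
  rw [h1]
  rfl

/-- **an orbit is open in its closure** -/
theorem exists_H [IsAlgClosed K] [Finite κ] {ι : Type*} {X : ι → GL N (Polynomial K)} (h0 : ∀ i, ev (0 : K) (X i) = 1)
    (x : κ → Matrix N N K) : ∃ H : MvPolynomial (κ × N × N) K,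
      (∃ g ∈ Gam X K, aeval (cm fun a => (g : Matrix N N K) * x a * ((g⁻¹ : GL N K) : Matrix N N K)) H ≠ 0) ∧
      ∀ y : κ × N × N → K, (∀ f : MvPolynomial (κ × N × N) K, (∀ g ∈ Gam X K,
        aeval (cm fun a => (g : Matrix N N K) * x a * ((g⁻¹ : GL N K) : Matrix N N K)) f = 0) → aeval y f = 0) →
        aeval y H ≠ 0 → ∃ g ∈ Gam X K, y = cm fun a => (g : Matrix N N K) * x a * ((g⁻¹ : GL N K) : Matrix N N K) := by
  obtain ⟨τ, _, γ, hγ, hd⟩ := exists_dense h0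
  let Xg : Matrix N N (MvPolynomial (N × N) K) := Matrix.of fun i j => MvPolynomial.X (i, j)
  have hX : ∀ {R : Type u} [CommRing R] [Algebra K R] (g : GL N R),
      Xg.map (aeval (LangThm.co g) : MvPolynomial (N × N) K →ₐ[K] R) = (g : Matrix N N R) := fun g => by
    ext i j
    simp [Xg, LangThm.co]
  have hdet : ∀ g ∈ Gam X K, (g : Matrix N N K).det = 1 := by
    obtain ⟨c, -, hc⟩ := isUnit_iff_eq_C_of_isReduced.1 (Matrix.isUnits_det_units γ)
    have h1 : ∀ g ∈ Gam X K, (g : Matrix N N K).det = c := fun g hg => by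
      have h2 : Xg.det - C c ∈ van K (LangThm.co γ) := by
        rw [mem_van, map_sub, AlgHom.map_det, AlgHom.mapMatrix_apply, hX, hc, aeval_C, algebraMap_eq, sub_self]
      have h3 := mem_van.1 (hd g hg h2)
      rwa [map_sub, AlgHom.map_det, AlgHom.mapMatrix_apply, hX, aeval_C, sub_eq_zero] at h3
    intro g hg
    rw [h1 g hg, ← h1 1 (one_mem _), Units.val_one, det_one]
  obtain ⟨H, hH, h⟩ := exists_open (cv x (γ : Matrix N N (MvPolynomial τ K)))
  have hs : ∀ s : τ → K, (fun i => (aeval s : MvPolynomial τ K →ₐ[K] K) (cv x (γ : Matrix N N (MvPolynomial τ K)) i)) =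
      cm fun a => (mp (aeval s : MvPolynomial τ K →ₐ[K] K) γ : Matrix N N K) * x a *
        (((mp (aeval s : MvPolynomial τ K →ₐ[K] K) γ)⁻¹ : GL N K) : Matrix N N K) := fun s => by
    rw [← cv_eq x _ (hdet _ (mp_mem _ hγ))]
    funext i
    exact map_cv x _ _ i
  refine ⟨H, ?_, fun y hy hyH => ?_⟩
  · by_contra hc
    push Not at hc
    refine hH (mem_van.2 (MvPolynomial.funext fun s => ?_))
    have h1 := hc _ (mp_mem (aeval s : MvPolynomial τ K →ₐ[K] K) hγ)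
    rw [← hs, ← comp_aeval_apply] at h1
    rw [map_zero]
    exact h1
  · obtain ⟨s, hs'⟩ := h y (fun f hf => mem_van.2 (hy f fun g hg => by
      have h1 : aeval (cv x Xg) f ∈ van K (LangThm.co γ) := by
        rw [mem_van, comp_aeval_apply]
        simp only [map_cv, hX]
        exact mem_van.1 hf
      have h2 := mem_van.1 (hd g hg h1)
      rw [comp_aeval_apply] at h2
      simp only [map_cv, hX] at h2
      rw [← cv_eq x g (hdet g hg)]
      exact h2)) hyH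
    exact ⟨_, mp_mem (aeval s : MvPolynomial τ K →ₐ[K] K) hγ, by rw [← hs]; exact (_root_.funext hs').symm⟩

end Cfsg.Agent.Cam.E8.Crk
end

-- part: Cam/E8/Crk1
section
/-!
# Kempf for tuples in `E₈`, the class of destabilizing pairs (helper53)

* `DT S d z l` : the tuple `z` lies in the parabolic subgroup of `l`, and the weight vectors of degree at most `d` in
  the ideal of `S` which do not vanish at `z` have weight at least one; `ks_DK` : this is a class of the type `KS`;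
* `Bd x` : the limits of the conjugates of `x` which are not conjugate to `x`; `exists_d`, `exists_DT`;
* `DT.tw` : transport by automorphisms of the field and permutations of the tuple.
-/

set_option autoImplicit false
set_option maxRecDepth 100000

namespace Cfsg.Agent.Cam.E8.Crk

open MvPolynomial Cfsg Cfsg.Lie
open Cfsg.Agent.Nodes.RGDChev Cfsg.Agent.KFacts.RgdChevCoord
open Cfsg.Agent.H942.E8Tab (e8T)
open Cfsg.Agent.H288.E8L (wt)
open Cfsg.Agent.H129.TorusChar (IsMC cX exists_cX cX_mul cX_one invC_E8)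
open Cfsg.Agent.E8A Cfsg.Agent.E8A.Par Cfsg.Agent.Cam.E8K
open Cfsg.Agent.E8A.Kem (cw mk continuous_mk St PL sp_le_PL PL_le_St)

universe u

variable {K : Type u} [Field K] {κ : Type}

/-- the variables -/
abbrev Vr (κ : Type) : Type := κ × chevE8.Idx × chevE8.Idx

/-- the coordinates of a tuple -/
def c8 (z : κ → G8 K) : Vr κ → K := cm fun a => mx (z a)

/-- the weights of the variables -/
noncomputable def wv : Vr κ → Q8 := fun s => wt s.2.1 - wt s.2.2

/-- the conjugate tuple -/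
def cj (g : G8 K) (z : κ → G8 K) : κ → G8 K := fun a => g * z a * g⁻¹

theorem cj_cj (g h : G8 K) (z : κ → G8 K) : cj g (cj h z) = cj (g * h) z := _root_.funext fun a => by
  simp only [cj]
  group

theorem cj_one (z : κ → G8 K) : cj 1 z = z := _root_.funext fun a => by simp [cj]

theorem c8_injective : Function.Injective (c8 : (κ → G8 K) → Vr κ → K) := fun _ _ h =>
  _root_.funext fun a => mx_injective (Matrix.ext fun i j => congrFun h (a, i, j))

/-- the conjugate polynomial -/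
noncomputable def pc (g : G8 K) (f : MvPolynomial (Vr κ) K) : MvPolynomial (Vr κ) K := aeval (sb (mx g) (mx g⁻¹)) f

theorem aeval_pc (g : G8 K) (z : κ → G8 K) (f : MvPolynomial (Vr κ) K) :
    aeval (c8 z) (pc g f) = aeval (c8 (cj g z)) f := aeval_sb _ _ _ f

/-- `f` vanishes on `S` -/
def Van (S : Set (κ → G8 K)) (f : MvPolynomial (Vr κ) K) : Prop := ∀ z ∈ S, aeval (c8 z) f = 0

/-- `S` is a union of orbits -/
def Stb (S : Set (κ → G8 K)) : Prop := ∀ g, ∀ z ∈ S, cj g z ∈ S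

/-- the degree is at most `d` -/
def Dg (d : ℝ) (f : MvPolynomial (Vr κ) K) : Prop := Fil (fun _ => 1) d f

variable {S : Set (κ → G8 K)} {d c : ℝ} {f : MvPolynomial (Vr κ) K} {l l' l₁ l₂ : Co} {z : κ → G8 K} {g : G8 K}
  {χ : Q8}

theorem Dg.pc (h : Dg d f) (g : G8 K) : Dg d (pc g f) := Fil.aeval (fil_sb fun _ _ _ _ _ _ _ => le_rfl) h

theorem fil_pc (hg : Tr l l' g) (h : Fil (fun s => l' (wv s)) c f) : Fil (fun s => l (wv s)) c (pc g f) :=
  Fil.aeval (fil_sb fun a i j k m h1 h2 => by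
    have e1 := hg.1 i k h1
    have e2 := hg.2 m j h2
    simp only [wv, map_sub]
    linarith) h

theorem Van.pc (hS : Stb S) (h : Van S f) (g : G8 K) : Van S (pc g f) := fun z hz => by
  rw [aeval_pc]
  exact h _ (hS g z hz)

theorem Van.comp [Infinite K] (hS : Stb S) (h : Van S f) (χ : Q8) : Van S (weightedHomogeneousComponent wv χ f) := by
  intro z hz
  refine comp_van wv (fun φ hφ => ?_) χ
  obtain ⟨t, ht, e⟩ := exists_cX (k := K) e8T invC_E8 one_ne_zero hφ fun i => ⟨_, pow_one _⟩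
  have e' : ∀ x, cX e8T t⁻¹ x = (φ x)⁻¹ := fun x => by
    have h1 := cX_mul e8T ht (inv_mem ht) x
    rw [mul_inv_cancel, cX_one, e] at h1
    exact (eq_inv_of_mul_eq_one_right h1.symm)
  have h1 : (fun s => φ (wv s) * c8 z s) = c8 (cj t z) := _root_.funext fun s => by
    show φ (wt s.2.1 - wt s.2.2) * mx (z s.1) s.2.1 s.2.2 = (mx t * mx (z s.1) * mx t⁻¹) s.2.1 s.2.2
    rw [mx_TT ht, mx_TT (inv_mem ht), Matrix.mul_diagonal, Matrix.diagonal_mul, e, e', hφ.sub]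
    ring
  rw [h1]
  exact h _ (hS t z hz)

theorem fil_hom (h : IsWeightedHomogeneous wv f χ) (l : Co) : Fil (fun s => l (wv s)) (l χ) f := fun m hm => by
  rw [weight_comp, h (mem_support_iff.1 hm)]

/-! ### The class -/

/-- destabilized tuples -/
def DT (S : Set (κ → G8 K)) (d : ℝ) (z : κ → G8 K) (l : Co) : Prop :=
  (∀ a, z a ∈ St K l) ∧ ∀ f χ, Van S f → Dg d f → IsWeightedHomogeneous wv f χ → aeval (c8 z) f ≠ 0 → 1 ≤ l χ

theorem DT.strong [Infinite K] (hS : Stb S) (h : DT S d z l) (h1 : Van S f) (h2 : Dg d f)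
    (h3 : Fil (fun s => l (wv s)) c f) (h4 : aeval (c8 z) f ≠ 0) : 1 ≤ c := by
  obtain ⟨m, hm, h5⟩ := exists_comp wv h4
  refine (h.2 _ _ (h1.comp hS _) (h2.of_support (support_comp _ _ _))
    (weightedHomogeneousComponent_isWeightedHomogeneous _ _) h5).trans ?_
  rw [← weight_comp]
  exact h3 m hm

theorem DT.conj [Infinite K] (hS : Stb S) (h : DT S d z l) (hg : Tr l l' g) : DT S d (cj g z) l' :=
  ⟨fun a => hg.conj (h.1 a), fun f _ h1 h2 h3 h4 =>
    h.strong hS (h1.pc hS g) (h2.pc g) (fil_pc hg (fil_hom h3 l')) (by rwa [aeval_pc])⟩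

theorem St_comb {x : G8 K} (h₁ : x ∈ St K l₁) (h₂ : x ∈ St K l₂) {a b : ℝ} (ha : 0 ≤ a) (hb : 0 ≤ b) :
    x ∈ St K (a • l₁ + b • l₂) := by
  have key : ∀ y : G8 K, y ∈ St K l₁ → y ∈ St K l₂ → Up (a • l₁ + b • l₂) (a • l₁ + b • l₂) (mx y) :=
    fun y e₁ e₂ i j hij => add_le_add (mul_le_mul_of_nonneg_left (up_of_St e₁ i j hij) ha)
      (mul_le_mul_of_nonneg_left (up_of_St e₂ i j hij) hb)
  exact mem_St (key x h₁ h₂) (key _ (inv_mem h₁) (inv_mem h₂))

theorem St_smul {x : G8 K} (h : x ∈ St K l) {a : ℝ} (ha : 0 ≤ a) : x ∈ St K (a • l) := by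
  have h1 := St_comb h h ha le_rfl
  rwa [zero_smul, add_zero] at h1

theorem St_zero (x : G8 K) : x ∈ St K (0 : Co) := mem_St (fun _ _ _ => le_rfl) fun _ _ _ => le_rfl

theorem DT.mid (h₁ : DT S d z l₁) (h₂ : DT S d z l₂) : DT S d z ((1 / 2 : ℝ) • (l₁ + l₂)) := by
  refine ⟨fun a => ?_, fun f χ h1 h2 h3 h4 => ?_⟩
  · rw [smul_add]
    exact St_comb (h₁.1 a) (h₂.1 a) (by norm_num) (by norm_num)
  · have e₁ := h₁.2 f χ h1 h2 h3 h4
    have e₂ := h₂.2 f χ h1 h2 h3 h4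
    simp only [AddMonoidHom.smul_apply, AddMonoidHom.add_apply, smul_eq_mul]
    linarith

/-- the weights in degree at most `d` -/
def Wd (κ : Type) (d : ℝ) : Set Q8 :=
  Finsupp.weight (wv : Vr κ → Q8) '' {m : Vr κ →₀ ℕ | Finsupp.weight (fun _ => (1 : ℝ)) m ≤ d}

theorem finite_Wd [Finite κ] (d : ℝ) : (Wd κ d).Finite := (finite_deg d).image _

theorem mem_Wd (h2 : Dg d f) (h3 : IsWeightedHomogeneous wv f χ) (h4 : aeval (c8 z) f ≠ 0) : χ ∈ Wd κ d := by
  obtain ⟨m, hm, -⟩ := exists_mon h4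
  exact ⟨m, h2 m hm, h3 (mem_support_iff.1 hm)⟩

/-- the class of the destabilizing pairs of a tuple -/
def DK (S : Set (κ → G8 K)) (d : ℝ) (x : κ → G8 K) (g : G8 K) (l : Co) : Prop := DT S d (cj g x) l

theorem DK.mul [Infinite K] (hS : Stb S) {x : κ → G8 K} (h : DK S d x g l) {y : G8 K} (hy : Tr l l' y) :
    DK S d x (y * g) l' := by
  have h1 := DT.conj hS h hy
  rwa [cj_cj] at h1

theorem isClosed_DK [Finite κ] (S : Set (κ → G8 K)) (d : ℝ) (x : κ → G8 K) :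
    IsClosed {v : Fin 8 → ℝ | ∃ g, DK S d x g (mk v)} := by
  have e : {v : Fin 8 → ℝ | ∃ g, DK S d x g (mk v)} =
      ⋃ T ∈ {T : Set (chevE8.Idx × chevE8.Idx) × Set Q8 | T.2 ⊆ Wd κ d ∧ ∃ g : G8 K,
          (∀ a i j, mx (cj g x a) i j ≠ 0 → (i, j) ∈ T.1) ∧ (∀ a i j, mx (cj g x a)⁻¹ i j ≠ 0 → (i, j) ∈ T.1) ∧
          ∀ f χ, Van S f → Dg d f → IsWeightedHomogeneous wv f χ → aeval (c8 (cj g x)) f ≠ 0 → χ ∈ T.2},
        (⋂ e ∈ T.1, {v : Fin 8 → ℝ | mk v (wt e.2) ≤ mk v (wt e.1)}) ∩ ⋂ χ ∈ T.2, {v : Fin 8 → ℝ | 1 ≤ mk v χ} := by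
    ext v
    simp only [Set.mem_ofPred_eq, Set.mem_iUnion, Set.mem_iInter, Set.mem_inter_iff]
    constructor
    · rintro ⟨g, hg⟩
      exact ⟨({e | mk v (wt e.2) ≤ mk v (wt e.1)}, {χ | χ ∈ Wd κ d ∧ 1 ≤ mk v χ}), ⟨fun _ h => h.1, g,
        fun a => up_of_St (hg.1 a), fun a => up_of_St (inv_mem (hg.1 a)),
        fun f χ h1 h2 h3 h4 => ⟨mem_Wd h2 h3 h4, hg.2 f χ h1 h2 h3 h4⟩⟩, fun _ hi => hi, fun _ hi => hi.2⟩
    · rintro ⟨T, ⟨-, g, hg, hg', hg''⟩, hv, hv'⟩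
      exact ⟨g, fun a => mem_St (fun i j hij => (hv _ (hg a i j hij) :)) fun i j hij => (hv _ (hg' a i j hij) :),
        fun f χ h1 h2 h3 h4 => hv' _ (hg'' f χ h1 h2 h3 h4)⟩
  rw [e]
  refine ((Set.finite_univ.prod (finite_Wd (κ := κ) d).finite_subsets).subset
    fun T hT => ⟨Set.mem_univ _, hT.1⟩).isClosed_biUnion fun T _ => IsClosed.inter ?_ ?_
  · exact isClosed_biInter fun i _ => isClosed_le (continuous_mk _) (continuous_mk _)
  · exact isClosed_biInter fun χ _ => isClosed_le continuous_const (continuous_mk _)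

theorem ks_DK [Finite κ] [Infinite K] (hS : Stb S) (d : ℝ) (x : κ → G8 K) : KS (DK S d x) where
  closed := isClosed_DK S d x
  mid _ _ _ h₁ h₂ := DT.mid h₁ h₂
  sp _ lam _ h hm := h.mul hS (tr_of (PL_le_St lam (sp_le_PL lam hm)))
  rep _ lam _ _ h hn := h.mul hS (bl_rep hn lam).1.inv

/-! ### Limits -/

theorem wv_nonneg (hz : ∀ a, z a ∈ St K l) {s : Vr κ} (h : c8 z s ≠ 0) : 0 ≤ l (wv s) := by
  have h1 := up_of_St (hz s.1) s.2.1 s.2.2 h
  simp only [wv, map_sub]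
  linarith

theorem hom_nonneg (hz : ∀ a, z a ∈ St K l) (h3 : IsWeightedHomogeneous wv f χ) (h4 : aeval (c8 z) f ≠ 0) :
    0 ≤ l χ := by
  obtain ⟨m, hm, h⟩ := exists_mon h4
  rw [← h3 (mem_support_iff.1 hm), ← weight_comp, Finsupp.weight_apply]
  exact Finset.sum_nonneg fun s hs => nsmul_nonneg (wv_nonneg hz (h s hs)) _

theorem hom_zero (hz : ∀ a, z a ∈ Lev K l) (h3 : IsWeightedHomogeneous wv f χ) (h4 : aeval (c8 z) f ≠ 0) :
    l χ = 0 := by
  have h1 := hom_nonneg (fun a => (hz a).1) h3 h4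
  have h2 : 0 ≤ -l χ := hom_nonneg (l := -l) (fun a => (hz a).2) h3 h4
  linarith

/-- the limit of a tuple -/
noncomputable def lm (l : Co) (z : κ → G8 K) : κ → G8 K := fun a => cl l l (z a)

theorem lm_mem (hz : ∀ a, z a ∈ St K l) (a : κ) : lm l z a ∈ Lev K l := cl_mem (hz a)

theorem aeval_lm (hz : ∀ a, z a ∈ St K l) (h3 : IsWeightedHomogeneous wv f χ) (h0 : l χ = 0) :
    aeval (c8 (lm l z)) f = aeval (c8 z) f := by
  have e : ∀ s, c8 (lm l z) s = msk l l (mx (z s.1)) s.2.1 s.2.2 := fun s =>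
    congrFun (congrFun (mx_cl (tr_of (hz s.1))) s.2.1) s.2.2
  rw [aeval_eq_sum, aeval_eq_sum]
  refine Finset.sum_congr rfl fun m hm => ?_
  congr 1
  by_cases h : ∀ s ∈ m.support, c8 z s ≠ 0
  · have h1 : ∑ s ∈ m.support, m s • l (wv s) = 0 := by
      rw [← h0, ← h3 (mem_support_iff.1 hm), ← weight_comp]
      rfl
    rw [Finset.sum_eq_zero_iff_of_nonneg fun s hs => nsmul_nonneg (wv_nonneg hz (h s hs)) _] at h1
    refine Finset.prod_congr rfl fun s hs => ?_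
    have h2 := (smul_eq_zero.1 (h1 s hs)).resolve_left (Finsupp.mem_support_iff.1 hs)
    simp only [wv, map_sub] at h2
    rw [e, msk_of_eq (by linarith)]
    rfl
  · push Not at h
    obtain ⟨s, hs, h1⟩ := h
    have h2 : c8 (lm l z) s = 0 := by
      rw [e]
      by_contra h3
      exact (msk_ne h3).2 h1
    rw [Finset.prod_eq_zero hs (by rw [h2, zero_pow (Finsupp.mem_support_iff.1 hs)]),
      Finset.prod_eq_zero hs (by rw [h1, zero_pow (Finsupp.mem_support_iff.1 hs)])]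

/-- the limit lies in the closure -/
theorem Van.lm [Infinite K] (hS : Stb S) (h : Van S f) (hzS : z ∈ S) (hz : ∀ a, z a ∈ St K l) :
    aeval (c8 (lm l z)) f = 0 := by
  by_contra h1
  obtain ⟨m, -, h2⟩ := exists_comp wv h1
  have h3 := weightedHomogeneousComponent_isWeightedHomogeneous (w := wv) (Finsupp.weight wv m) f
  rw [aeval_lm hz h3 (hom_zero (lm_mem hz) h3 h2)] at h2
  exact h2 (h.comp hS _ z hzS)

theorem exists_DT [Finite κ] (d : ℝ) (hz : ∀ a, z a ∈ St K l) (hS : lm l z ∈ S) : ∃ l', DT S d z l' := by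
  obtain ⟨M, hM⟩ := ((finite_Wd (κ := κ) d).image fun χ => (l χ)⁻¹).bddAbove
  refine ⟨max M 1 • l, fun a => St_smul (hz a) (le_max_of_le_right zero_le_one), fun f χ h1 h2 h3 h4 => ?_⟩
  have h5 : 0 < l χ := lt_of_le_of_ne (hom_nonneg hz h3 h4) fun e => h4 (by
    rw [← aeval_lm hz h3 e.symm]
    exact h1 _ hS)
  have h6 : (l χ)⁻¹ ≤ max M 1 := (hM ⟨χ, mem_Wd h2 h3 h4, rfl⟩).trans (le_max_left _ _)
  calc (1 : ℝ) = (l χ)⁻¹ * l χ := (inv_mul_cancel₀ h5.ne').symm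
    _ ≤ _ := mul_le_mul_of_nonneg_right h6 h5.le

theorem DT.zero (h : DT S d z l) (hz : ∀ a, z a ∈ Lev K l) : DT S d z 0 :=
  ⟨fun _ => St_zero _, fun f χ h1 h2 h3 h4 => by
    have h5 := h.2 f χ h1 h2 h3 h4
    rw [hom_zero hz h3 h4] at h5
    exact h5⟩

/-- the orbit -/
def Orb (x : κ → G8 K) : Set (κ → G8 K) := {y | ∃ g, y = cj g x}

/-- the limits outside the orbit -/
def Bd (x : κ → G8 K) : Set (κ → G8 K) :=
  {y | (∃ h l, ∃ z ∈ Orb x, (∀ a, z a ∈ St K l) ∧ y = cj h (lm l z)) ∧ y ∉ Orb x}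

theorem stb_Orb (x : κ → G8 K) : Stb (Orb x) := by
  rintro g _ ⟨h, rfl⟩
  exact ⟨g * h, cj_cj _ _ _⟩

theorem stb_Bd (x : κ → G8 K) : Stb (Bd x) := by
  rintro g _ ⟨⟨h, l, z, hz, hl, rfl⟩, hn⟩
  refine ⟨⟨g * h, l, z, hz, hl, cj_cj _ _ _⟩, fun h1 => hn ?_⟩
  have h2 := stb_Orb x g⁻¹ _ h1
  rwa [cj_cj, inv_mul_cancel, cj_one] at h2

theorem gam_iff (g : GL chevE8.Idx K) : g ∈ LangThm.Gam (fun r : {r : ℕ | r < chevE8.nroots} =>
    LangThm.xP e8T.inList (r : ℕ) (Polynomial.X : Polynomial K)) K ↔ g ∈ chevE8.group K := by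
  rw [LangThm.gam_eq]
  constructor
  · intro hg
    refine (Subgroup.closure_le _).2 ?_ hg
    rintro _ ⟨r, -, t, rfl⟩
    exact ChevalleyStructure.Elts.xG_mem_group _ _ _
  · intro hg
    have h1 : (LangThm.MM e8T.inList {r : ℕ | r < chevE8.nroots} K).subgroupOf (chevE8.group K) = ⊤ :=
      eq_top_of_xr fun r t => Subgroup.subset_closure ⟨r, r.2, t, rfl⟩
    have h2 : (⟨g, hg⟩ : G8 K) ∈ (LangThm.MM e8T.inList {r : ℕ | r < chevE8.nroots} K).subgroupOf (chevE8.group K) :=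
      h1 ▸ Subgroup.mem_top _
    exact h2

/-- **the zero cocharacter does not destabilize** -/
theorem exists_d [IsAlgClosed K] [Finite κ] (x : κ → G8 K) : ∃ d, ∀ g, ¬ DK (Bd x) d x g 0 := by
  obtain ⟨H, ⟨k, hk, h1⟩, h2⟩ := exists_H (X := fun r : {r : ℕ | r < chevE8.nroots} =>
    LangThm.xP e8T.inList (r : ℕ) (Polynomial.X : Polynomial K)) (fun r => by
      rw [LangThm.ev_xP, Polynomial.eval_X, ChevalleyStructure.Elts.xG_zero]) fun a => mx (x a)
  obtain ⟨d, hd⟩ := exists_fil (fun _ => (1 : ℝ)) H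
  have hv : Van (Bd x) H := by
    rintro _ ⟨⟨h, l, z, hz, hl, rfl⟩, hn⟩
    by_contra h3
    obtain ⟨g, hg, e⟩ := h2 _ (fun f hf => by
      have h4 : Van (Orb x) f := by
        rintro _ ⟨g, rfl⟩
        exact hf g ((gam_iff _).2 g.2)
      rw [← aeval_pc]
      exact (h4.pc (stb_Orb x) h).lm (stb_Orb x) hz hl) h3
    exact hn ⟨⟨g, (gam_iff g).1 hg⟩, c8_injective e⟩
  refine ⟨d, fun g hg => ?_⟩
  have h3 := hg.mul (stb_Bd x) (y := (⟨k, (gam_iff k).1 hk⟩ : G8 K) * g⁻¹) (l' := 0) (tr_of (St_zero _))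
  rw [inv_mul_cancel_right] at h3
  have h4 := DT.strong (stb_Bd x) h3 hv hd (c := 0) (fun m _ => by
    rw [weight_comp]
    exact le_rfl) h1
  exact absurd h4 (by norm_num)

/-! ### Transport -/

/-- the twisted tuple -/
noncomputable def tw (σ : K ≃+* K) (π : κ → κ) (z : κ → G8 K) : κ → G8 K := fun a => _root_.Cfsg.Agent.E8A.em σ.toRingHom (z (π a))

theorem tw_cj (σ : K ≃+* K) (π : κ → κ) (g : G8 K) (z : κ → G8 K) :
    tw σ π (cj g z) = cj (_root_.Cfsg.Agent.E8A.em σ.toRingHom g) (tw σ π z) := _root_.funext fun a => by simp only [tw, cj, _root_.Cfsg.Agent.Cam.E8.Crk.tw, _root_.RingEquiv.toRingHom_eq_coe, _root_.Cfsg.Agent.Cam.E8.Crk.cj, _root_.map_mul, _root_.map_inv]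

theorem em_St {F : Type u} [Field F] (f : F →+* K) {y : G8 F} : _root_.Cfsg.Agent.E8A.em f y ∈ St K l ↔ y ∈ St F l := by
  have key : ∀ y : G8 F, Up l l (mx (_root_.Cfsg.Agent.E8A.em f y)) ↔ Up l l (mx y) := fun y =>
    forall_congr' fun i => forall_congr' fun j => by
      rw [mx_em, Matrix.map_apply, map_ne_zero]
  rw [← tr_iff, ← tr_iff, Tr, Tr, ← map_inv, key, key]

theorem em_cl {F : Type u} [Field F] (f : F →+* K) {y : G8 F} (h : y ∈ St F l) :
    _root_.Cfsg.Agent.E8A.em f (cl l l y) = cl l l (em f y) := by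
  apply mx_injective
  rw [mx_em, mx_cl (tr_of h), mx_cl (tr_of ((em_St f).2 h)), mx_em]
  ext i j
  by_cases e : l (wt j) = l (wt i)
  · rw [Matrix.map_apply, msk_of_eq e, msk_of_eq e, Matrix.map_apply]
  · rw [Matrix.map_apply, msk_of_ne e, msk_of_ne e, map_zero]

theorem em_symm (σ : K ≃+* K) (y : G8 K) : _root_.Cfsg.Agent.E8A.em σ.toRingHom (_root_.Cfsg.Agent.E8A.em σ.symm.toRingHom y) = y := by
  apply mx_injective
  rw [mx_em, mx_em]
  ext i j
  exact σ.apply_symm_apply _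

theorem tw_Bd {σ : K ≃+* K} {π : κ → κ} (hπ : Function.Surjective π) {x : κ → G8 K} (hx : tw σ π x ∈ Orb x)
    {y : κ → G8 K} (hy : y ∈ Bd x) : tw σ π y ∈ Bd x := by
  obtain ⟨⟨h, l, _, ⟨g, rfl⟩, hl, rfl⟩, hn⟩ := hy
  refine ⟨⟨_root_.Cfsg.Agent.E8A.em σ.toRingHom h, l, tw σ π (cj g x), ?_, fun a => (em_St _).2 (hl _), ?_⟩, ?_⟩
  · rw [tw_cj]
    exact stb_Orb x _ _ hx
  · rw [tw_cj]
    congr 1
    exact _root_.funext fun a => em_cl _ (hl _)
  · rintro ⟨m, hm⟩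
    obtain ⟨k, hk⟩ := hx
    refine hn ⟨_root_.Cfsg.Agent.E8A.em σ.symm.toRingHom (m * k⁻¹), _root_.funext fun a => ?_⟩
    obtain ⟨b, rfl⟩ := hπ a
    refine em_injective σ.toRingHom ?_
    have h1 : tw σ π (cj (em σ.symm.toRingHom (m * k⁻¹)) x) = cj m x := by
      rw [tw_cj, em_symm, hk, cj_cj, inv_mul_cancel_right]
    exact (congrFun hm b).trans (congrFun h1 b).symm

theorem DT.tw [Infinite K] (hS : Stb S) {σ : K ≃+* K} {π : κ → κ} (hσ : ∀ y ∈ S, tw σ π y ∈ S) (h : DT S d z l) :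
    DT S d (tw σ π z) l := by
  refine ⟨fun a => (em_St _).2 (h.1 _), fun f χ h1 h2 h3 h4 => ?_⟩
  let u : Vr κ → MvPolynomial (Vr κ) K := fun s => X (π s.1, s.2)
  have key : ∀ y : κ → G8 K, σ (aeval (c8 y) (aeval u (map σ.symm.toRingHom f))) = aeval (c8 (Crk.tw σ π y)) f := by
    intro y
    rw [comp_aeval_apply, aeval_eq_sum, aeval_eq_sum, support_map_of_injective _ σ.symm.injective, map_sum]
    refine Finset.sum_congr rfl fun m _ => ?_
    rw [map_mul, coeff_map, map_prod]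
    congr 1
    · exact σ.apply_symm_apply _
    · refine Finset.prod_congr rfl fun s _ => ?_
      rw [map_pow]
      simp only [u, aeval_X]
      rfl
  refine h.strong hS (f := aeval u (map σ.symm.toRingHom f)) (fun y hy => ?_)
    (Fil.aeval (fun s => fil_X _ le_rfl) (h2.of_support (support_map_subset _ _)))
    (Fil.aeval (fun s => fil_X _ le_rfl) ((fil_hom h3 l).of_support (support_map_subset _ _))) fun h5 => h4 ?_
  · have h5 := key y
    rw [h1 _ (hσ y hy)] at h5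
    exact (map_eq_zero σ).1 h5
  · rw [← key, h5, map_zero]

theorem DK.tw [Infinite K] {σ : K ≃+* K} {π : κ → κ} (hπ : Function.Surjective π) {x : κ → G8 K} {k : G8 K}
    (hx : tw σ π x = cj k x) (h : DK (Bd x) d x g l) : DK (Bd x) d x (_root_.Cfsg.Agent.E8A.em σ.toRingHom g * k) l := by
  have h1 := DT.tw (stb_Bd x) (fun y hy => tw_Bd hπ ⟨k, hx⟩ hy) h
  rwa [tw_cj, hx, cj_cj] at h1

end Cfsg.Agent.Cam.E8.Crk
end

-- part: Cam/E8/Crk2
section
/-!
# Kempf for tuples in `E₈`: the boxes CRK and CRN (helper53)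

* `ru_eq` : the two definitions of the unipotent radical agree;
* `cr_of_orb` : a tuple which is conjugate to all its limits is completely reducible;
* `boxCRK : BoxCRK`, `boxCRN : BoxCRN`.
-/

set_option autoImplicit false
set_option maxRecDepth 100000

namespace Cfsg.Agent.Cam.E8.Crk

open Cfsg Cfsg.Lie Subgroup
open Cfsg.Agent.ChevalleyStructure.CoxeterGeomTypes Cfsg.Agent.Nodes.RGDChev Cfsg.Agent.KFacts.RgdChevCoord
open Cfsg.Agent.H942.E8Tab (e8T)
open Cfsg.Agent.H288.E8L (wt)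
open Cfsg.Agent.H129.TorusChar (invC_E8)
open Cfsg.Agent.E8A Cfsg.Agent.E8A.Par Cfsg.Agent.Cam.E8K
open Cfsg.Agent.E8A.Kem (cw St PL PL_le_St TT_le_PL Rad Dm Ge mem_Ge exists_split)

universe u

section Levi

variable {K : Type u} [Field K] {κ : Type} {l : Co}

theorem exists_rad {x : G8 K} (hx : x ∈ E8K.Ru K l) : ∃ c : ℝ, 0 < c ∧ x ∈ Rad K (c • l) := by
  obtain ⟨M, hM⟩ := (Set.finite_range fun e : chevE8.Idx × chevE8.Idx => (l (wt e.1) - l (wt e.2))⁻¹).bddAbove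
  have hc : (0 : ℝ) < max M 1 := lt_max_of_lt_right one_pos
  refine ⟨max M 1, hc, St_smul hx.1 hc.le, fun c v hv => ?_⟩
  rw [act_sub_self]
  refine mulVec_LS (fun i j hij hj => mem_Ge.2 ?_) hv
  have h1 := sub_pos.2 ((mem_Ru.1 hx).2 i j hij)
  have h2 : (l (wt i) - l (wt j))⁻¹ ≤ max M 1 := (hM ⟨(i, j), rfl⟩).trans (le_max_left _ _)
  have h3 : 1 ≤ max M 1 * (l (wt i) - l (wt j)) :=
    calc (1 : ℝ) = (l (wt i) - l (wt j))⁻¹ * (l (wt i) - l (wt j)) := (inv_mul_cancel₀ h1.ne').symm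
      _ ≤ _ := mul_le_mul_of_nonneg_right h2 h1.le
  have h4 : c ≤ max M 1 * l (wt j) := mem_Ge.1 hj
  show c + 1 ≤ max M 1 * l (wt i)
  linarith

theorem rad_le {c : ℝ} (hc : 0 < c) : Rad K (c • l) ≤ E8K.Ru K l := by
  intro x hx
  refine mem_Ru.2 ⟨?_, fun i j hij => ?_⟩
  · have h1 := St_smul hx.1 (inv_pos.2 hc).le
    rwa [smul_smul, inv_mul_cancel₀ hc.ne', one_smul] at h1
  · have h1 := hx.2 _ (ee K j) (ee_mem_LS (mem_Ge.2 le_rfl)) i (by rwa [act_sub_self, mulVec_ee])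
    have h2 : c * l (wt j) + 1 ≤ c * l (wt i) := mem_Ge.1 h1
    exact lt_of_mul_lt_mul_left (by linarith) hc.le

theorem exists_eps (l l' : Co) : ∃ ε : ℝ, 0 < ε ∧ ∀ r : Fin chevE8.nroots,
    l (vec chevE8 8 r) + ε * l' (vec chevE8 8 r) = 0 → l (vec chevE8 8 r) = 0 ∧ l' (vec chevE8 8 r) = 0 := by
  obtain ⟨ε, h1, h2⟩ := (Set.Ioi_infinite (0 : ℝ)).exists_notMem_finite
    (Set.finite_range fun r : Fin chevE8.nroots => -l (vec chevE8 8 r) / l' (vec chevE8 8 r))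
  refine ⟨ε, h1, fun r hr => ?_⟩
  have h3 : l' (vec chevE8 8 r) = 0 := by
    by_contra h3
    exact h2 ⟨r, by rw [div_eq_iff h3]; linarith⟩
  rw [h3, mul_zero, add_zero] at hr
  exact ⟨hr, h3⟩

/-- the roots of the Levi subgroup -/
def rt0 (l : Co) : Set (Fin chevE8.nroots) := {r | l (vec chevE8 8 r) = 0}

/-- a tuple in a minimal Levi subgroup is completely reducible -/
theorem cr_of_min {x : κ → G8 K} {l₀ : Co} {g₀ : G8 K} (h₀ : ∀ a, cj g₀ x a ∈ Lev K l₀)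
    (hm : ∀ g l, (∀ a, cj g x a ∈ St K l) → (rt0 l₀).ncard ≤ (rt0 l).ncard) (g : G8 K) (l : Co)
    (hg : ∀ a, cj g x a ∈ St K l) : ∃ r ∈ E8K.Ru K l, ∀ a, cj (r * g) x a ∈ Lev K l := by
  obtain ⟨z, hz, w, ht⟩ := exists_apt l₀ l (g₀ * g⁻¹)
  generalize cw l w = l' at ht
  have h1 : ∀ a, cj (z * g₀) x a ∈ St K l₀ := fun a => by
    rw [← cj_cj]
    exact mul_mem (mul_mem hz (h₀ a).1) (inv_mem hz)
  have h2 : ∀ a, cj (z * g₀) x a ∈ St K l' := fun a => by
    rw [show z * g₀ = z * (g₀ * g⁻¹) * g by group, ← cj_cj]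
    exact ht.conj (hg a)
  obtain ⟨ε, hε, he⟩ := exists_eps l₀ l'
  have h3 : rt0 ((1 : ℝ) • l₀ + ε • l') = rt0 l₀ :=
    Set.eq_of_subset_of_ncard_le (fun r hr => (he r (by simpa only [rt0, _root_.one_smul, _root_.AddMonoidHom.add_apply, _root_.AddMonoidHom.smul_apply, _root_.smul_eq_mul, _root_.Set.mem_ofPred_eq] using hr)).1)
      (hm _ _ fun a => St_comb (h1 a) (h2 a) zero_le_one hε.le)
  have h4 : Lev K l₀ ≤ Lev K l' := Lev_mono fun a ha h => by
    obtain ⟨r, rfl⟩ := Frm.exists_idx ha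
    have h5 : r ∈ rt0 ((1 : ℝ) • l₀ + ε • l') := h3 ▸ h
    exact (he r (by simpa only [rt0, _root_.one_smul, _root_.AddMonoidHom.add_apply, _root_.AddMonoidHom.smul_apply, _root_.smul_eq_mul, _root_.Set.mem_ofPred_eq] using h5)).2
  obtain ⟨a₁, -, b₁, -, ha, hb, e⟩ := dec l' (tr_of hz).mul_cl
  have hc := cl_mem hz
  generalize cl l₀ l₀ z = c at e hc
  have hz' : z = a₁ * b₁ * c := by rw [← e, inv_mul_cancel_right]
  have h5 : ∀ a, cj (a₁⁻¹ * (z * g₀)) x a ∈ Lev K l' := fun a => by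
    have hm : cj (c * g₀) x a ∈ Lev K l' := h4 (by
      rw [← cj_cj]
      exact mul_mem (mul_mem hc (h₀ a)) (inv_mem hc))
    have e1 : cj (a₁⁻¹ * (z * g₀)) x a = b₁ * cj (c * g₀) x a * b₁⁻¹ := by
      rw [hz']
      simp only [cj]
      group
    have h6 : b₁ * cj (c * g₀) x a * b₁⁻¹ ∈ St K l' := by
      rw [← e1, ← cj_cj]
      exact (tr_of (inv_mem ha)).conj (h2 a)
    generalize cj (c * g₀) x a = m at hm e1 h6
    have h7 : b₁ * (m * b₁⁻¹ * m⁻¹) = 1 :=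
      eq_one_of_Ru' (mul_mem hb ((tr_of hm.2).conj_Ru (inv_mem hb))) (by
        rw [show b₁ * (m * b₁⁻¹ * m⁻¹) = b₁ * m * b₁⁻¹ * m⁻¹ by group]
        exact mul_mem h6 (inv_mem hm.1))
    rw [e1, show b₁ * m * b₁⁻¹ = b₁ * (m * b₁⁻¹ * m⁻¹) * m by group, h7, one_mul]
    exact hm
  have hs : Tr l l' (a₁⁻¹ * (z * (g₀ * g⁻¹))) := (tr_of (inv_mem ha)).mul ht
  refine ⟨_, hs.cl_mul', fun a => ?_⟩
  have hB := bl_cl hs
  generalize cl l l' (a₁⁻¹ * (z * (g₀ * g⁻¹))) = s at hB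
  have e2 : cj (s⁻¹ * (a₁⁻¹ * (z * (g₀ * g⁻¹))) * g) x a = s⁻¹ * cj (a₁⁻¹ * (z * g₀)) x a * s := by
    simp only [cj]
    group
  rw [e2]
  exact ((hB.inv.mul (bl_lev (h5 a))).mul hB).lev

/-- **a tuple which is conjugate to all its limits is completely reducible** -/
theorem cr_of_orb {x : κ → G8 K} (h : ∀ g l, (∀ a, cj g x a ∈ St K l) → lm l (cj g x) ∈ Orb x) (g : G8 K) (l : Co)
    (hg : ∀ a, cj g x a ∈ St K l) : ∃ r ∈ E8K.Ru K l, ∀ a, cj (r * g) x a ∈ Lev K l := by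
  obtain ⟨⟨g₁, l₀⟩, h1, hm⟩ := (measure fun q : G8 K × Co => (rt0 q.2).ncard).wf.has_min
    {q | ∀ a, cj q.1 x a ∈ St K q.2} ⟨(g, l), hg⟩
  obtain ⟨g₀, e⟩ := h g₁ l₀ h1
  exact cr_of_min (l₀ := l₀) (g₀ := g₀) (fun a => e ▸ lm_mem h1 a) (fun g l hg => not_lt.1 (hm (g, l) hg)) g l hg

theorem em_refl (y : G8 K) : _root_.Cfsg.Agent.E8A.em (RingEquiv.refl K).toRingHom y = y := by
  apply mx_injective
  rw [mx_em]
  rfl

end Levi

/-- the two definitions of the unipotent radical agree -/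
theorem ru_eq (K : Type) [Field K] (l : Co) : E8.Ru K l = E8K.Ru K l := by
  refine le_antisymm (iSup_le fun c => rad_le c.2) fun x hx => ?_
  obtain ⟨c, hc, h⟩ := exists_rad hx
  exact le_iSup (fun c : {c : ℝ // 0 < c} => Rad K (c.1 • l)) ⟨c, hc⟩ h

variable {F : Type} [Field F]

/-- the tuple of the elements -/
noncomputable def tup (A : Subgroup (G8 F)) : A → G8 (Kb F) := fun a => emb0 (a : G8 F)

theorem in_iff {A : Subgroup (G8 F)} {g : G8 (Kb F)} {B : Subgroup (G8 (Kb F))} :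
    In g (bar A) B ↔ ∀ a, cj g (tup A) a ∈ B :=
  ⟨fun h a => h _ ⟨a, a.2, rfl⟩, by rintro h _ ⟨a, ha, rfl⟩; exact h ⟨a, ha⟩⟩

theorem exists_opt [Finite F] {A : Subgroup (G8 F)} (h : ¬ CR (bar A)) : ∃ d g l,
    Opt (DK (Bd (tup A)) d (tup A)) g l ∧ Dm l ∧ ∀ g, ¬ DK (Bd (tup A)) d (tup A) g 0 := by
  have : Finite (G8 F) := finite8
  obtain ⟨d, hd⟩ := exists_d (tup A)
  have h1 : ∃ g l, (∀ a, cj g (tup A) a ∈ St (Kb F) l) ∧ lm l (cj g (tup A)) ∉ Orb (tup A) := by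
    by_contra h1
    push Not at h1
    refine h fun g l hg => ?_
    obtain ⟨r, hr, h2⟩ := cr_of_orb h1 g l (in_iff.1 hg)
    exact ⟨r, (ru_eq (Kb F) l).ge hr, in_iff.2 h2⟩
  obtain ⟨g, l, h2, h3⟩ := h1
  obtain ⟨l', h4⟩ := exists_DT (S := Bd (tup A)) d h2 ⟨⟨1, l, _, ⟨g, rfl⟩, h2, (cj_one _).symm⟩, h3⟩
  obtain ⟨g', l'', ho, hdm⟩ := (ks_DK (stb_Bd _) d (tup A)).exists_opt (g₀ := g) h4
  exact ⟨d, g', l'', ho, hdm, hd⟩

/-- **normal subgroups of completely reducible groups** -/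
theorem boxCRN : BoxCRN := by
  intro F _ _ A Γ hA hN hΓ
  by_contra h
  have : Finite (G8 F) := finite8
  obtain ⟨d, g, l, ho, hdm, h0⟩ := exists_opt h
  have h1 : In g (bar Γ) (St (Kb F) l) := by
    rintro _ ⟨γ, hγ, rfl⟩
    have h2 := DK.tw (σ := RingEquiv.refl _) (π := fun a : A => ⟨γ * a * γ⁻¹, (mem_normalizer_iff.1 (hN hγ) a).1 a.2⟩)
      (fun b => ⟨⟨γ⁻¹ * b * γ, (mem_normalizer_iff.1 (hN hγ) _).2 (by
        rw [show γ * (γ⁻¹ * b * γ) * γ⁻¹ = b by group]; exact b.2)⟩, Subtype.ext (by simp only [mul_assoc, _root_.mul_assoc, _root_.mul_inv_cancel_left, _root_.mul_inv_cancel, _root_.mul_one])⟩)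
      (k := emb0 γ) (funext fun a => by
        show E8A.em (RingEquiv.refl _).toRingHom (emb0 (γ * (a : G8 F) * γ⁻¹)) = emb0 γ * emb0 (a : G8 F) * (emb0 γ)⁻¹
        rw [em_refl, map_mul, map_mul, map_inv]) ho.1
    rw [em_refl] at h2
    exact PL_le_St _ ((ks_DK (stb_Bd _) d (tup A)).rel hdm ho h2)
  obtain ⟨r, hr, h2⟩ := hΓ g l h1
  rw [ru_eq] at hr
  exact h0 (r * g) (DT.zero (ho.1.mul (stb_Bd _) (tr_of hr.1)) fun a => h2 _ ⟨a, hA a.2, rfl⟩)

/-- a stable point is rational -/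
theorem exists_rat [Finite F] {l : Co} {g : G8 (Kb F)} (h : sg g * g⁻¹ ∈ PL (Kb F) l) :
    ∃ y : G8 F, emb0 y * g⁻¹ ∈ PL (Kb F) l := by
  obtain ⟨p, hp, hch⟩ := exists_char F
  have := Fact.mk hp
  obtain ⟨e, he0, he⟩ := Frm.exists_exp (F := F) p
  have h1 : g * (Frm.sg F p e g)⁻¹ ∈ PL (Kb F) l := by
    have h2 := inv_mem h
    rwa [mul_inv_rev, inv_inv, sg_eq_phi p he] at h2
  obtain ⟨z, hz, t, ht, fr⟩ := exists_split he0 h1
  obtain ⟨s, hs, e1⟩ := H720.TorusReal.torus_lang e8T cs8 he0 (Frm.sg_isFrob p) (Frm.sg_fr p) invC_E8 one_ne_zero ht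
  obtain ⟨y, hy⟩ := Frm.exists_emb0 he (x := s⁻¹ * (z * g)) (by
    have e2 : Frm.sg F p e (z * g) = t⁻¹ * (z * g) := by rw [← fr.eq]; group
    rw [map_mul, map_inv, e2, ← mul_assoc, ← mul_inv_rev, ← e1])
  refine ⟨y, ?_⟩
  rw [hy, show s⁻¹ * (z * g) * g⁻¹ = s⁻¹ * z by group]
  exact mul_mem (inv_mem (TT_le_PL _ hs)) hz

/-- the Frobenius automorphism of the algebraic closure -/
noncomputable def fqE (F : Type) [Field F] [Finite F] : Kb F ≃+* Kb F :=
  RingEquiv.ofBijective (fq F) ⟨(fq F).injective, fun x => by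
    obtain ⟨y, hy⟩ := IsAlgClosed.exists_pow_nat_eq x (Nat.card_pos (α := F))
    exact ⟨y, by rw [fq_apply, hy]⟩⟩

/-- automorphisms of the finite group come from automorphisms of the algebraic group -/
theorem exists_ext [Finite F] (θ : MulAut (G8 F)) : ∃ (y : G8 F) (σ : F ≃+* F) (τ : Kb F ≃+* Kb F),
    (∀ b, θ b = y * _root_.Cfsg.Agent.E8A.em σ.toRingHom b * y⁻¹) ∧ ∀ b, _root_.Cfsg.Agent.E8A.em τ.toRingHom (emb0 b) = emb0 (em σ.toRingHom b) := by
  obtain ⟨y, φ, ⟨σ, hσ⟩, rfl⟩ := H460.IFO.fac8 θ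
  have h1 : φ.toMonoidHom.eqLocus (_root_.Cfsg.Agent.E8A.em σ.toRingHom) = ⊤ := eq_top_of_xr fun r t => by
    show φ (xr r t) = em σ.toRingHom (xr r t)
    rw [em_xr]
    exact mx_injective ((hσ _ r t r.2 (mx_xr r t)).trans (mx_xr r _).symm)
  refine ⟨y, σ, IsAlgClosure.equivOfEquiv (Kb F) (Kb F) σ, fun b => ?_, fun b => ?_⟩
  · have h2 : b ∈ φ.toMonoidHom.eqLocus (em σ.toRingHom) := h1 ▸ mem_top b
    rw [← show φ b = em σ.toRingHom b from h2]
    rfl
  · apply mx_injective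
    rw [mx_em, emb0, mx_em, mx_em, mx_em]
    ext i j
    exact IsAlgClosure.equivOfEquiv_algebraMap _ _ σ _

/-- **Kempf for tuples** -/
theorem boxCRK : BoxCRK := by
  intro F _ _ A h
  have : Finite (G8 F) := finite8
  obtain ⟨d, g₀, l, ho₀, hdm, h0⟩ := exists_opt h
  have ks := ks_DK (stb_Bd (tup A)) d (tup A)
  obtain ⟨g, hg⟩ : ∃ g : G8 F, emb0 g * g₀⁻¹ ∈ PL (Kb F) l := by
    have h1 := DK.tw (σ := fqE F) (π := id) Function.surjective_id (k := 1)
      (by rw [cj_one]; exact funext fun a => sg_emb0 _) ho₀.1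
    rw [mul_one] at h1
    exact exists_rat (ks.rel hdm ho₀ h1)
  have ho : Opt (DK (Bd (tup A)) d (tup A)) (emb0 g) l := ho₀.of (by
    have h1 := ho₀.1.mul (stb_Bd _) (tr_of (PL_le_St _ hg))
    rwa [inv_mul_cancel_right] at h1) rfl
  refine ⟨g, l, fun e => h0 _ (e ▸ ho.1), fun θ hθ b => ?_⟩
  obtain ⟨y, σ, τ, h1, h2⟩ := exists_ext θ
  have hA : ∀ a, θ a ∈ A ↔ a ∈ A := fun a => by
    conv_lhs => rw [← hθ]
    exact mem_map_iff_mem θ.injective
  have h3 := DK.tw (σ := τ) (π := fun a : A => ⟨θ.symm a, (hA _).1 (by rw [θ.apply_symm_apply]; exact a.2)⟩)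
    (fun b => ⟨⟨θ b, (hA _).2 b.2⟩, Subtype.ext (θ.symm_apply_apply _)⟩) (k := (emb0 y)⁻¹) (funext fun a => by
      show _root_.Cfsg.Agent.E8A.em τ.toRingHom (emb0 (θ.symm a)) = (emb0 y)⁻¹ * emb0 (a : G8 F) * (emb0 y)⁻¹⁻¹
      conv_rhs => rw [← θ.apply_symm_apply a, h1]
      rw [h2, map_mul, map_mul, map_inv]
      group) ho.1
  have h4 := PL_le_St _ (ks.rel hdm ho h3)
  rw [h2, ← map_inv, ← map_inv, ← map_mul, ← map_mul, emb0, em_St] at h4
  have e : g * θ b * g⁻¹ = (_root_.Cfsg.Agent.E8A.em σ.toRingHom g * y⁻¹ * g⁻¹)⁻¹ * em σ.toRingHom (g * b * g⁻¹) *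
      (em σ.toRingHom g * y⁻¹ * g⁻¹) := by
    rw [h1, map_mul, map_mul, map_inv]
    group
  rw [e, mul_mem_cancel_right h4, mul_mem_cancel_left (inv_mem h4), em_St]

end Cfsg.Agent.Cam.E8.Crk
end

-- part: Cam/E8/Cra
section
/-!
# S3690, the row `E₈`: complete reducibility and automorphisms (helper59)
-/

set_option autoImplicit false
set_option maxRecDepth 100000

namespace Cfsg.Agent.Cam.E8.Cra

open Cfsg Cfsg.Lie Subgroup
open Cfsg.Agent.E8A Cfsg.Agent.E8A.Kem Cfsg.Agent.E8A.Par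
open Cfsg.Agent.H288.E8L (wt)

section

variable {K L : Type} [Field K] [Field L]

theorem up_em (f : K →+* L) {l l' : Q8 →+ ℝ} {y : G8 K} : Up l l' (mx (_root_.Cfsg.Agent.E8A.em f y)) ↔ Up l l' (mx y) :=
  forall₂_congr fun i j => by
    rw [show mx (_root_.Cfsg.Agent.E8A.em f y) i j = f (mx y i j) from rfl, map_ne_zero]

theorem em_St (f : K →+* L) {lam : Q8 →+ ℝ} {y : G8 K} : _root_.Cfsg.Agent.E8A.em f y ∈ St L lam ↔ y ∈ St K lam :=
  ⟨fun h => mem_St ((up_em f).1 (up_of_St h)) ((up_em f).1 (by rw [map_inv]; exact up_of_St (inv_mem h))),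
    fun h => mem_St ((up_em f).2 (up_of_St h)) (by rw [← map_inv]; exact (up_em f).2 (up_of_St (inv_mem h)))⟩

theorem em_Lv (f : K →+* L) {lam : Q8 →+ ℝ} {y : G8 K} : _root_.Cfsg.Agent.E8A.em f y ∈ Lv L lam ↔ y ∈ Lv K lam :=
  and_congr (em_St f) (em_St f)

theorem mem_Rad {lam : Q8 →+ ℝ} {u : G8 K} :
    u ∈ Rad K lam ↔ u ∈ St K lam ∧ ∀ i j, (mx u - 1) i j ≠ 0 → lam (wt j) + 1 ≤ lam (wt i) := by
  refine and_congr_right fun _ => ⟨fun h i j hij => ?_, fun h c v hv => ?_⟩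
  · exact h (lam (wt j)) (ee K j) (ee_mem_LS (mem_Ge.2 le_rfl)) i (by rwa [act_sub_self, mulVec_ee])
  · rw [act_sub_self]
    exact mulVec_LS (fun i j hij hj => mem_Ge.2 (by linarith [h i j hij, mem_Ge.1 hj])) hv

theorem em_Rad (f : K →+* L) {lam : Q8 →+ ℝ} {u : G8 K} : _root_.Cfsg.Agent.E8A.em f u ∈ Rad L lam ↔ u ∈ Rad K lam := by
  rw [mem_Rad, mem_Rad]
  refine and_congr (em_St f) (forall₂_congr fun i j => ?_)
  have e : (mx (_root_.Cfsg.Agent.E8A.em f u) - 1) i j = f ((mx u - 1) i j) := by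
    rw [Matrix.sub_apply, Matrix.sub_apply, map_sub, Matrix.one_apply, Matrix.one_apply, apply_ite f, map_one, map_zero]
    rfl
  rw [e, map_ne_zero]

theorem em_Ru (f : K →+* L) {lam : Q8 →+ ℝ} {u : G8 K} (h : u ∈ Ru K lam) : _root_.Cfsg.Agent.E8A.em f u ∈ Ru L lam :=
  (iSup_le fun c _ hx => le_iSup (fun c : {c : ℝ // 0 < c} => Rad L (c.1 • lam)) c ((em_Rad f).2 hx) :
    Ru K lam ≤ (Ru L lam).comap (_root_.Cfsg.Agent.E8A.em f)) h

theorem em_symm (f : K ≃+* L) (g : G8 L) : _root_.Cfsg.Agent.E8A.em f.toRingHom (_root_.Cfsg.Agent.E8A.em f.symm.toRingHom g) = g :=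
  mx_injective (Matrix.ext fun i j => f.apply_symm_apply (mx g i j))

theorem in_em (f : K →+* L) {g : G8 K} {A B : Subgroup (G8 K)} {B' : Subgroup (G8 L)} (h : ∀ y, _root_.Cfsg.Agent.E8A.em f y ∈ B' ↔ y ∈ B) :
    In (em f g) (A.map (em f)) B' ↔ In g A B := by
  refine ⟨fun k a ha => (h _).1 ?_, ?_⟩
  · rw [map_mul, map_mul, map_inv]
    exact k _ ⟨a, ha, rfl⟩
  · rintro k _ ⟨a, ha, rfl⟩
    rw [← map_inv, ← map_mul, ← map_mul, h]
    exact k a ha

theorem in_conj {g y : G8 K} {A B : Subgroup (G8 K)} : In g (A.map (MulAut.conj y).toMonoidHom) B ↔ In (g * y) A B := by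
  have e : ∀ a, g * (MulAut.conj y).toMonoidHom a * g⁻¹ = g * y * a * (g * y)⁻¹ := fun a => by
    show g * (y * a * y⁻¹) * g⁻¹ = _
    group
  refine ⟨fun k a ha => e a ▸ k _ ⟨a, ha, rfl⟩, ?_⟩
  rintro k _ ⟨a, ha, rfl⟩
  rw [e]
  exact k a ha

theorem cr_em (f : K ≃+* L) {A : Subgroup (G8 K)} (h : CR A) : CR (A.map (_root_.Cfsg.Agent.E8A.em f.toRingHom)) := by
  intro g lam hg
  rw [← em_symm f g] at hg ⊢
  obtain ⟨r, hr, h1⟩ := h _ lam ((in_em _ fun _ => em_St _).1 hg)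
  exact ⟨_, em_Ru f.toRingHom hr, by rw [← map_mul]; exact (in_em _ fun _ => em_Lv _).2 h1⟩

theorem cr_conj {A : Subgroup (G8 K)} (h : CR A) (y : G8 K) : CR (A.map (MulAut.conj y).toMonoidHom) := by
  intro g lam hg
  obtain ⟨r, hr, h1⟩ := h _ lam (in_conj.1 hg)
  exact ⟨r, hr, in_conj.2 (by rwa [mul_assoc])⟩

theorem noTor_em (f : K ≃+* L) {A : Subgroup (G8 K)} (h : NoTor A) : NoTor (A.map (_root_.Cfsg.Agent.E8A.em f.toRingHom)) := by
  intro g lam h0 hg
  rw [← em_symm f g] at hg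
  exact h _ lam h0 ((in_em _ fun _ => em_Lv _).1 hg)

theorem noTor_conj {A : Subgroup (G8 K)} (h : NoTor A) (y : G8 K) : NoTor (A.map (MulAut.conj y).toMonoidHom) :=
  fun _ lam h0 hg => h _ lam h0 (in_conj.1 hg)

end

/-- the automorphisms of the finite group -/
theorem exists_fac {F : Type} [Field F] [Finite F] (θ : MulAut (G8 F)) :
    ∃ (y : G8 F) (σ : F ≃+* F), ∀ x, θ x = y * _root_.Cfsg.Agent.E8A.em σ.toRingHom x * y⁻¹ := by
  obtain ⟨y, φ, ⟨σ, hσ⟩, rfl⟩ := H460.IFO.fac8 θ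
  have h1 : φ.toMonoidHom.eqLocus (_root_.Cfsg.Agent.E8A.em σ.toRingHom) = ⊤ := eq_top_of_xr fun r t => by
    show φ (xr r t) = em σ.toRingHom (xr r t)
    rw [em_xr]
    exact mx_injective (hσ _ r t r.2 rfl)
  exact ⟨y, σ, fun x => by rw [← (show φ x = em σ.toRingHom x from (h1 ▸ mem_top x : x ∈ φ.toMonoidHom.eqLocus _))]; rfl⟩

/-- they extend to the algebraic group -/
theorem exists_ext {F : Type} [Field F] [Finite F] (θ : MulAut (G8 F)) :
    ∃ (y : G8 (Kb F)) (f : Kb F ≃+* Kb F), ∀ x, emb0 (θ x) = y * _root_.Cfsg.Agent.E8A.em f.toRingHom (emb0 x) * y⁻¹ := by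
  obtain ⟨y, σ, h⟩ := exists_fac θ
  refine ⟨emb0 y, IsAlgClosure.equivOfEquiv (Kb F) (Kb F) σ, fun x => ?_⟩
  rw [h, map_mul, map_mul, map_inv]
  congr 2
  exact mx_injective (Matrix.ext fun i j => (IsAlgClosure.equivOfEquiv_algebraMap (Kb F) (Kb F) σ (mx x i j)).symm)

/-- **Box `CRA`.** -/
theorem boxCRA : BoxCRA := by
  intro F _ _ A θ
  obtain ⟨y, f, h⟩ := exists_ext θ
  have e : bar (A.map θ.toMonoidHom) = ((bar A).map (_root_.Cfsg.Agent.E8A.em f.toRingHom)).map (MulAut.conj y).toMonoidHom := by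
    rw [bar, bar, map_map, map_map, map_map]
    congr 1
    exact MonoidHom.ext h
  rw [e]
  exact ⟨fun k => cr_conj (cr_em f k) y, fun k => noTor_conj (noTor_em f k) y⟩

end Cfsg.Agent.Cam.E8.Cra
end

-- part: Cam/E8/Crf
section
/-!
# S3690, the row `E₈`: descent of complete reducibility (helper52)

* `lang_graded` : Lang's theorem for a group of matrices which a one-dimensional torus contracts to the identity;
* `Ru_eq` : the two descriptions of the radical; `exists_int` : an integral cocharacter in the same facet;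
* `boxCRF : BoxCRF`.
-/

set_option autoImplicit false
set_option maxRecDepth 100000
set_option maxHeartbeats 400000
set_option linter.unusedVariables false
set_option linter.unusedSectionVars false

namespace Cfsg.Agent.Cam.E8.Crf

universe u

section Lang

open Polynomial
open Cfsg.Agent.LangThm

variable {k : Type u} [Field k] {ι : Type} [Fintype ι] [DecidableEq ι]

/-- the polynomial matrix of the contraction -/
noncomputable def pm (d : ι → ℤ) (M : Matrix ι ι k) : Matrix ι ι k[X] :=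
  Matrix.of fun i j => C (M i j) * X ^ (d i - d j).toNat

theorem pm_mul (d : ι → ℤ) {M N : Matrix ι ι k} (hM : ∀ i j, M i j ≠ 0 → d j ≤ d i)
    (hN : ∀ i j, N i j ≠ 0 → d j ≤ d i) : pm d M * pm d N = pm d (M * N) := by
  ext1 i j
  rw [Matrix.mul_apply]
  show ∑ l, C (M i l) * X ^ (d i - d l).toNat * (C (N l j) * X ^ (d l - d j).toNat) =
    C ((M * N) i j) * X ^ (d i - d j).toNat
  rw [Matrix.mul_apply, map_sum, Finset.sum_mul]
  refine Finset.sum_congr rfl fun l _ => ?_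
  by_cases h1 : M i l = 0
  · rw [h1, zero_mul, map_zero, zero_mul, zero_mul, zero_mul]
  by_cases h2 : N l j = 0
  · rw [h2, mul_zero, map_zero, zero_mul, mul_zero, zero_mul]
  have h3 := hM i l h1
  have h4 := hN l j h2
  rw [show (d i - d j).toNat = (d i - d l).toNat + (d l - d j).toNat by omega, pow_add, map_mul]
  ring

theorem pm_one (d : ι → ℤ) : pm d (1 : Matrix ι ι k) = 1 := by
  ext1 i j
  show C ((1 : Matrix ι ι k) i j) * X ^ (d i - d j).toNat = _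
  by_cases h : i = j
  · subst h
    rw [Matrix.one_apply_eq, Matrix.one_apply_eq, sub_self, map_one, one_mul, Int.toNat_zero, pow_zero]
  · rw [Matrix.one_apply_ne h, Matrix.one_apply_ne h, map_zero, zero_mul]

theorem le_of_lt_sub {d : ι → ℤ} {M : Matrix ι ι k} (h : ∀ i j, (M - 1) i j ≠ 0 → d j < d i) (i j : ι)
    (hij : M i j ≠ 0) : d j ≤ d i := by
  by_cases e : i = j
  · rw [e]
  · exact (h i j (by rwa [Matrix.sub_apply, Matrix.one_apply_ne e, sub_zero])).le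

/-- **Lang's theorem for a group which a torus contracts** -/
theorem lang_graded [IsAlgClosed k] (p e : ℕ) [Fact p.Prime] [CharP k p] (he : 0 < e) (d : ι → ℤ)
    (N : Subgroup (GL ι k)) (hN : ∀ u ∈ N, ∀ i j, ((u : Matrix ι ι k) - 1) i j ≠ 0 → d j < d i)
    (hf : ∀ u ∈ N, frob p e u ∈ N)
    (ht : ∀ a : k, a ≠ 0 → ∀ u ∈ N, ∃ v ∈ N, ∀ i j, (v : Matrix ι ι k) i j = (u : Matrix ι ι k) i j * a ^ (d i - d j))
    {u : GL ι k} (hu : u ∈ N) : ∃ z ∈ N, u = z⁻¹ * frob p e z := by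
  have hle : ∀ u ∈ N, ∀ i j, (u : Matrix ι ι k) i j ≠ 0 → d j ≤ d i := fun u hu => le_of_lt_sub (hN u hu)
  let P : N → GL ι k[X] := fun u =>
    { val := pm d (u.1 : Matrix ι ι k)
      inv := pm d ((u.1⁻¹ : GL ι k) : Matrix ι ι k)
      val_inv := by rw [pm_mul d (hle _ u.2) (hle _ (inv_mem u.2)), ← Units.val_mul, mul_inv_cancel, Units.val_one, pm_one]
      inv_val := by rw [pm_mul d (hle _ (inv_mem u.2)) (hle _ u.2), ← Units.val_mul, inv_mul_cancel, Units.val_one, pm_one] }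
  have hev : ∀ (u : N) (a : k) (i j : ι), ((ev a (P u) : GL ι k) : Matrix ι ι k) i j =
      (u.1 : Matrix ι ι k) i j * a ^ (d i - d j).toNat := by
    intro u a i j
    show aeval a (C ((u.1 : Matrix ι ι k) i j) * X ^ (d i - d j).toNat) = _
    rw [map_mul, map_pow, aeval_X, aeval_C]
    rfl
  have h0 : ∀ u : N, ev (0 : k) (P u) = 1 := by
    intro u
    refine Units.ext (Matrix.ext fun i j => ?_)
    rw [hev, Units.val_one]
    by_cases h : ((u.1 : Matrix ι ι k) - 1) i j = 0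
    · rw [Matrix.sub_apply, sub_eq_zero] at h
      rw [h]
      by_cases e : i = j
      · subst e
        rw [sub_self, Int.toNat_zero, pow_zero, mul_one]
      · rw [Matrix.one_apply_ne e, zero_mul]
    · have h1 := hN _ u.2 i j h
      rw [zero_pow (by omega), mul_zero, Matrix.one_apply_ne (fun e => by rw [e] at h1; exact lt_irrefl _ h1)]
  have h1 : ∀ u : N, ev (1 : k) (P u) = u.1 := fun u =>
    Units.ext (Matrix.ext fun i j => by rw [hev, one_pow, mul_one])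
  have h2 : ∀ (u : N) (a : k), ev a (P u) ∈ N := by
    intro u a
    by_cases ha : a = 0
    · rw [ha, h0]
      exact one_mem _
    obtain ⟨v, hv, e⟩ := ht a ha u.1 u.2
    have h3 : ev a (P u) = v := by
      refine Units.ext (Matrix.ext fun i j => ?_)
      rw [hev, e]
      by_cases h : (u.1 : Matrix ι ι k) i j = 0
      · rw [h, zero_mul, zero_mul]
      · have h4 := hle _ u.2 i j h
        rw [← zpow_natCast, Int.toNat_of_nonneg (by omega)]
    rwa [h3]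
  have hG : Gam P k = N := by
    refine le_antisymm ((Subgroup.closure_le _).2 ?_) fun u hu => ?_
    · rintro _ ⟨u, a, rfl⟩
      exact h2 u a
    · have h3 := ev_mem (X := P) (⟨u, hu⟩ : N) (1 : k)
      rwa [h1] at h3
  let Fr : Monoid.End ↥(Gam P k) :=
    { toFun := fun g => ⟨frob p e g, hG.ge (hf _ (hG.le g.2))⟩
      map_one' := Subtype.ext (map_one (frob p e))
      map_mul' := fun g h => Subtype.ext (map_mul (frob p e) _ _) }
  have hF : ∀ (u : N) (a : k), (Fr ⟨ev a (P u), ev_mem u a⟩ : GL ι k) =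
      ev a (ev ((X : k[X]) ^ p ^ e) (P ⟨frob p e u.1, hf _ u.2⟩) : GL ι k[X]) := by
    intro u a
    have h3 := mp_ev (aeval a : k[X] →ₐ[k] k) ((X : k[X]) ^ p ^ e) (P ⟨frob p e u.1, hf _ u.2⟩)
    rw [map_pow, aeval_X] at h3
    refine Eq.trans ?_ h3.symm
    refine Units.ext (Matrix.ext fun i j => ?_)
    rw [hev]
    refine (co_frob p e (ev a (P u)) (i, j)).trans ?_
    show ((ev a (P u) : GL ι k) : Matrix ι ι k) i j ^ p ^ e = co (frob p e u.1) (i, j) * _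
    rw [hev, co_frob, mul_pow, ← pow_mul, ← pow_mul, mul_comm (p ^ e)]
    rfl
  obtain ⟨z, hz⟩ := lang (X := P) p e 1 he h0 Fr
    (Y := fun u => ev ((X : k[X]) ^ p ^ e) (P ⟨frob p e u.1, hf _ u.2⟩)) (fun u => ev_mem _ _) hF 1
      (fun g => by rw [pow_one, one_mul, inv_one, mul_one]; rfl) ⟨u, hG.ge hu⟩
  exact ⟨z, hG.le z.2, congrArg Subtype.val hz⟩

theorem exists_scale {α : Type*} [Finite α] (f : α → ℝ) : ∃ c : ℝ, 0 < c ∧ ∀ i j, f j < f i → c * f j + 1 ≤ c * f i := by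
  obtain ⟨B, hB⟩ := (Set.finite_range fun ij : α × α => (f ij.1 - f ij.2)⁻¹).bddAbove
  refine ⟨max B 1, lt_max_of_lt_right one_pos, fun i j h => ?_⟩
  have h1 : (f i - f j)⁻¹ ≤ max B 1 := (hB ⟨(i, j), rfl⟩).trans (le_max_left _ _)
  have h2 : 0 < f i - f j := sub_pos.2 h
  have h3 := mul_le_mul_of_nonneg_right h1 h2.le
  rw [inv_mul_cancel₀ h2.ne'] at h3
  linarith

end Lang

open CoxeterSystem Cfsg Cfsg.Lie Matrix
open Cfsg.Agent.ChevalleyStructure.CoxeterGeom Cfsg.Agent.ChevalleyStructure.CoxeterGeomTypes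
open Cfsg.Agent.Tits.Roots Cfsg.Agent.Nodes.RGDChev
open Cfsg.Agent.KFacts.RgdChevCoord Cfsg.Agent.H129.TorusChar
open Cfsg.Agent.H942.E8Tab (e8T)
open Cfsg.Agent.H288.E8L (wt act8)
open Cfsg.Agent.E8A Cfsg.Agent.E8A.Par
open Cfsg.Agent.E8A.Kem (cw cw_apply mk mk_apply mk_sr mk_eq Dm exists_dm Ge mem_Ge SP PL St Rad)
open Cfsg.Agent.Cam.E8K (Co Tr Bl tr_iff tr_of bl_rep Lev bl_lev Lev_mono cl cl_mul cl_inv cl_lev cl_mem cl_Ru
  mem_Ru eq_one_of_Ru sup_le_St TT_le_Lev exists_rep cw_inv')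

section Par

variable {K : Type u} [Field K] {l l' : Co} {x : G8 K}

theorem up_smul {c : ℝ} (hc : 0 < c) {M : E8K.Mat K} : Up (c • l) (c • l) M ↔ Up l l M :=
  forall_congr' fun i => forall_congr' fun j => imp_congr_right fun _ => mul_le_mul_iff_right₀ hc

theorem St_smul {c : ℝ} (hc : 0 < c) : x ∈ St K (c • l) ↔ x ∈ St K l := by
  rw [← tr_iff, ← tr_iff]
  exact and_congr (up_smul hc) (up_smul hc)

theorem Rad_le {c : ℝ} (hc : 0 < c) : Rad K (c • l) ≤ E8K.Ru K l := fun u hu =>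
  mem_Ru.2 ⟨(St_smul hc).1 hu.1, fun i j hij => by
    have h1 := hu.2 _ _ (ee_mem_LS (K := K) (i := j) (mem_Ge.2 le_rfl))
    rw [act_sub_self] at h1
    have h2 : c * l (wt j) + 1 ≤ c * l (wt i) := h1 i (by rwa [mulVec_ee])
    exact lt_of_mul_lt_mul_left (by linarith) hc.le⟩

theorem exists_le_Rad (l : Co) : ∃ c : ℝ, 0 < c ∧ E8K.Ru K l ≤ Rad K (c • l) := by
  obtain ⟨c, hc, h⟩ := exists_scale fun i => l (wt i)
  refine ⟨c, hc, fun u hu => ⟨(St_smul hc).2 hu.1, fun b v hv => ?_⟩⟩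
  rw [act_sub_self]
  refine mulVec_LS (fun i j hij hj => ?_) hv
  have h1 : b ≤ c * l (wt j) := hj
  have h2 := h i j ((mem_Ru.1 hu).2 i j hij)
  show b + 1 ≤ c * l (wt i)
  linarith

theorem St_mono (h : ∀ a, Rt a → 0 ≤ l a → 0 ≤ l' a) : St K l ≤ St K l' := fun y hy => by
  obtain ⟨w, hw⟩ := exists_dm l
  obtain ⟨n, hn⟩ := exists_rep (K := K) w
  obtain ⟨m, hm, t, ht, e⟩ := St_le_PL hw (St_conj hn hy)
  have h1 : n⁻¹ * y * n ∈ St K (cw l' w) := by
    rw [e]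
    exact mul_mem (sup_le_St (l := cw l' w) (S := SP (cw l w))
      (fun a ha => ⟨ha.1, h (act8 w a) (ha.1.act w) ha.2⟩) hm) (TT_le_Lev _ ht).1
  have h2 := (bl_rep hn l').1.conj h1
  rwa [show n * (n⁻¹ * y * n) * n⁻¹ = y by group] at h2

theorem zero_of_sign (h : ∀ a, Rt a → 0 ≤ l a → 0 ≤ l' a) (a : Q8) (ha : Rt a) (e : l a = 0) : l' a = 0 := by
  have h1 := h _ ha.neg (by rw [map_neg, e, neg_zero])
  rw [map_neg] at h1
  exact le_antisymm (by linarith) (h a ha e.ge)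

theorem Ru_mono (h : ∀ a, Rt a → (0 ≤ l a ↔ 0 ≤ l' a)) : E8K.Ru K l ≤ E8K.Ru K l' := fun u hu => by
  have h1 : u ∈ St K l' := St_mono (fun a ha => (h a ha).1) hu.1
  exact ⟨h1, eq_one_of_Ru (cl_Ru h1 hu) (Lev_mono (zero_of_sign fun a ha => (h a ha).2) (cl_mem h1)).2⟩

/-- an integral cocharacter as a real one -/
noncomputable def zc (μ : Q8 →+ ℤ) : Co := (Int.castAddHom ℝ).comp μ

theorem exists_int0 (hd : Dm l) : ∃ μ : Q8 →+ ℤ, ∀ a, Rt a → (0 ≤ l a ↔ 0 ≤ zc μ a) := by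
  classical
  let x : Fin 8 → ℤ := fun i => if 0 < l (sr i) then 1 else 0
  let μ : Q8 →+ ℤ := AddMonoidHom.mk' (fun a => ∑ i, a i * x i) fun a b => by
    rw [← Finset.sum_add_distrib]
    exact Finset.sum_congr rfl fun i _ => add_mul _ _ _
  have h1 : ∀ a, zc μ a = ∑ i, (a i : ℝ) * (x i : ℝ) := fun a => by
    show ((∑ i, a i * x i : ℤ) : ℝ) = _
    push_cast
    rfl
  have h2 : ∀ a, l a = ∑ i, (a i : ℝ) * l (sr i) := fun a => by rw [← mk_apply, mk_eq]
  have hx : ∀ i, (0 : ℝ) ≤ (x i : ℝ) := fun i => by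
    simp only [x]
    split_ifs <;> simp
  have hx' : ∀ i, (x i : ℝ) = 0 ↔ l (sr i) = 0 := fun i => by
    simp only [x]
    split_ifs with h
    · simp [h.ne']
    · simp [le_antisymm (not_lt.1 h) (hd i)]
  refine ⟨μ, fun a ha => ?_⟩
  rcases ha.pos_or_neg with h | h
  · refine iff_of_true (hd.nonneg h) ?_
    rw [h1]
    exact Finset.sum_nonneg fun i _ => mul_nonneg (Int.cast_nonneg_iff.2 (h i)) (hx i)
  · have h3 : ∀ y : Fin 8 → ℝ, (∀ i, 0 ≤ y i) → (0 ≤ ∑ i, (a i : ℝ) * y i ↔ ∀ i, a i = 0 ∨ y i = 0) := fun y hy => by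
      have h4 : ∀ i ∈ Finset.univ, (a i : ℝ) * y i ≤ 0 := fun i _ =>
        mul_nonpos_of_nonpos_of_nonneg (Int.cast_nonpos.2 (h i)) (hy i)
      refine Iff.trans ⟨fun e => le_antisymm (Finset.sum_nonpos h4) e, fun e => e.ge⟩ ?_
      rw [Finset.sum_eq_zero_iff_of_nonpos h4]
      simp
    rw [h1, h2, h3 _ hd, h3 _ hx]
    exact forall_congr' fun i => or_congr_right (hx' i).symm

/-- **an integral cocharacter in the same facet** -/
theorem exists_int (l : Co) : ∃ μ : Q8 →+ ℤ, ∀ a, Rt a → (0 ≤ l a ↔ 0 ≤ zc μ a) := by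
  obtain ⟨w, hw⟩ := exists_dm l
  obtain ⟨μ, h⟩ := exists_int0 hw
  refine ⟨μ.comp (rp8 w⁻¹).toAddMonoidHom, fun a ha => ?_⟩
  have h1 := h _ (ha.act w⁻¹)
  rw [cw_apply] at h1
  erw [act8_act_inv] at h1
  exact h1

theorem exists_tor (μ : Q8 →+ ℤ) {a : K} (ha : a ≠ 0) :
    ∃ t ∈ TT chevE8 K, mx t = Matrix.diagonal fun i => a ^ μ (wt i) := by
  obtain ⟨t, ht, h⟩ := exists_cX e8T Frm.invB8 one_ne_zero (φ := fun x => a ^ μ x)
    ⟨by show a ^ μ 0 = 1; rw [map_zero, zpow_zero], fun x y => by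
      show a ^ μ (x + y) = a ^ μ x * a ^ μ y
      rw [map_add, zpow_add₀ ha]⟩ fun i => ⟨_, pow_one _⟩
  refine ⟨t, ht, ?_⟩
  rw [mx_TT ht]
  exact congrArg _ (funext fun i => h _)

variable {L : Type u} [Field L] (f : K →+* L)

theorem up_map {M : E8K.Mat K} : Up l l' (M.map f) ↔ Up l l' M :=
  forall_congr' fun i => forall_congr' fun j => imp_congr_left (map_ne_zero f)

theorem em_St : _root_.Cfsg.Agent.E8A.em f x ∈ St L l ↔ x ∈ St K l := by
  rw [← tr_iff, ← tr_iff]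
  refine and_congr (up_map f) ?_
  rw [← map_inv]
  exact up_map f

theorem em_Lev : _root_.Cfsg.Agent.E8A.em f x ∈ Lev L l ↔ x ∈ Lev K l := and_congr (em_St f) (em_St f)

theorem em_Ru : _root_.Cfsg.Agent.E8A.em f x ∈ E8K.Ru L l ↔ x ∈ E8K.Ru K l := by
  rw [mem_Ru, mem_Ru]
  refine and_congr (em_St f) (forall_congr' fun i => forall_congr' fun j => imp_congr_left ?_)
  have h1 : (mx (_root_.Cfsg.Agent.E8A.em f x) - 1) i j = f ((mx x - 1) i j) := by
    rw [Matrix.sub_apply, Matrix.sub_apply, map_sub, mx_em, Matrix.map_apply]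
    by_cases e : i = j
    · rw [e, Matrix.one_apply_eq, Matrix.one_apply_eq, map_one]
    · rw [Matrix.one_apply_ne e, Matrix.one_apply_ne e, map_zero]
  rw [h1]
  exact map_ne_zero f

end Par

theorem Ru_eq {K : Type} [Field K] (l : Co) : Ru K l = E8K.Ru K l := by
  obtain ⟨c, hc, h⟩ := exists_le_Rad (K := K) l
  exact le_antisymm (iSup_le fun c => Rad_le c.2) (h.trans (le_iSup (fun c : {c : ℝ // 0 < c} => Rad K (c.1 • l)) ⟨c, hc⟩))

/-- **Lang's theorem for the centralizer in the radical of a stable subset of the Levi subgroup** -/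
theorem lang_Ru {F : Type u} [Field F] [Finite F] (l : Co) (S : Set (G8 (Kb F))) (hS : ∀ c ∈ S, c ∈ Lev (Kb F) l)
    (hf : ∀ c ∈ S, sg c = c) {u : G8 (Kb F)} (hu : u ∈ E8K.Ru (Kb F) l ⊓ Subgroup.centralizer S) :
    ∃ z ∈ E8K.Ru (Kb F) l ⊓ Subgroup.centralizer S, u = z⁻¹ * sg z := by
  obtain ⟨p, hp, _⟩ := exists_char F
  have := Fact.mk hp
  obtain ⟨e, he0, he⟩ := exists_card_eq (F := F) p
  obtain ⟨μ, hμ⟩ := exists_int l
  have hfr : ∀ g : G8 (Kb F), LangThm.frob p e (g : GL chevE8.Idx (Kb F)) = (sg g : G8 (Kb F)) := fun g =>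
    LangThm.co_injective (funext fun ij => (LangThm.co_frob p e _ ij).trans (by rw [← he]; exact (fq_apply _).symm))
  refine (lang_graded p e he0 (fun i => μ (wt i))
    ((E8K.Ru (Kb F) l ⊓ Subgroup.centralizer S).map (chevE8.group (Kb F)).subtype) ?_ ?_ ?_ ⟨u, hu, rfl⟩).elim ?_
  rotate_right
  · rintro _ ⟨⟨z, hz, rfl⟩, h⟩
    refine ⟨z, hz, Subtype.ext ?_⟩
    rw [Subgroup.coe_mul, ← hfr]
    exact h
  · rintro _ ⟨v, hv, rfl⟩ i j hij
    exact Int.cast_lt.1 ((mem_Ru.1 (Ru_mono hμ hv.1)).2 i j hij)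
  · rintro _ ⟨v, hv, rfl⟩
    refine ⟨sg v, ⟨(em_Ru (fq F)).2 hv.1, Subgroup.mem_centralizer_iff.2 fun c hc => ?_⟩, (hfr v).symm⟩
    have h1 := congrArg sg (Subgroup.mem_centralizer_iff.1 hv.2 c hc)
    rwa [map_mul, map_mul, hf c hc] at h1
  · rintro a ha _ ⟨v, hv, rfl⟩
    obtain ⟨t, ht, e⟩ := exists_tor μ ha
    have h1 : ∀ c ∈ S, c * t = t * c := fun c hc => mx_injective (by
      rw [mx_mul, mx_mul, e]
      ext i j
      rw [Matrix.mul_diagonal, Matrix.diagonal_mul]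
      by_cases h2 : mx c i j = 0
      · rw [h2, zero_mul, mul_zero]
      · have h3 := (bl_lev (Lev_mono (zero_of_sign fun a ha => (hμ a ha).1) (hS c hc))).eq h2
        rw [show μ (wt j) = μ (wt i) from Int.cast_injective h3, mul_comm])
    have h2 : t ∈ Subgroup.centralizer S := Subgroup.mem_centralizer_iff.2 h1
    refine ⟨_, ⟨t * v * t⁻¹, ⟨(tr_of (TT_le_Lev l ht).1).conj_Ru hv.1,
      (Subgroup.centralizer S).mul_mem (mul_mem h2 hv.2) (inv_mem h2)⟩, rfl⟩,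
      fun i j => ?_⟩
    have h3 : mx (t * v * t⁻¹) * mx t = mx t * mx v := by rw [← mx_mul, ← mx_mul, inv_mul_cancel_right]
    have h4 := congrFun (congrFun h3 i) j
    rw [e, Matrix.mul_diagonal, Matrix.diagonal_mul] at h4
    show mx (t * v * t⁻¹) i j = mx v i j * a ^ (μ (wt i) - μ (wt j))
    rw [zpow_sub₀ ha, ← mul_div_assoc, eq_div_iff (zpow_ne_zero _ ha), h4, mul_comm]

/-- **descent of complete reducibility** -/
theorem boxCRF : BoxCRF := by
  intro F _ _ A hA g l hg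
  obtain ⟨r, hr, h⟩ := hA (emb0 g) l (by
    rintro _ ⟨a, ha, rfl⟩
    rw [← map_inv, ← map_mul, ← map_mul]
    exact (em_St _).2 (hg a ha))
  rw [Ru_eq] at hr
  have hy : ∀ a ∈ A, emb0 (g * a * g⁻¹) ∈ St (Kb F) l := fun a ha => (em_St _).2 (hg a ha)
  have h1 : ∀ a ∈ A, r * emb0 (g * a * g⁻¹) * r⁻¹ ∈ Lev (Kb F) l := fun a ha => by
    have h2 := h _ ⟨a, ha, rfl⟩
    rwa [show r * emb0 g * emb0 a * (r * emb0 g)⁻¹ = r * emb0 (g * a * g⁻¹) * r⁻¹ by
      rw [map_mul, map_mul, map_inv]; group] at h2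
  have h2 : ∀ s ∈ E8K.Ru (Kb F) l, ∀ y ∈ St (Kb F) l, s * y * s⁻¹ ∈ Lev (Kb F) l → s * y * s⁻¹ = cl l l y := by
    intro s hs y hy h3
    rw [← cl_lev h3, cl_mul (tr_of (mul_mem hs.1 hy)) (tr_of (inv_mem hs.1)), cl_mul (tr_of hs.1) (tr_of hy), hs.2,
      (inv_mem hs).2, one_mul, mul_one]
  have hr' : sg r ∈ E8K.Ru (Kb F) l := (em_Ru (fq F)).2 hr
  have h3 : ∀ a, sg (r * emb0 a * r⁻¹) = sg r * emb0 a * (sg r)⁻¹ := fun a => by
    rw [map_mul, map_mul, map_inv, sg_emb0]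
  have h4 : ∀ a ∈ A, sg (r * emb0 (g * a * g⁻¹) * r⁻¹) = r * emb0 (g * a * g⁻¹) * r⁻¹ := fun a ha => by
    have h5 : sg (r * emb0 (g * a * g⁻¹) * r⁻¹) ∈ Lev (Kb F) l := (em_Lev (fq F)).2 (h1 a ha)
    rw [h3] at h5
    rw [h3, h2 _ hr' _ (hy a ha) h5, h2 _ hr _ (hy a ha) (h1 a ha)]
  obtain ⟨z, hz, e⟩ := lang_Ru l {c | ∃ a ∈ A, c = r * emb0 (g * a * g⁻¹) * r⁻¹}
    (by rintro _ ⟨a, ha, rfl⟩; exact h1 a ha) (by rintro _ ⟨a, ha, rfl⟩; exact h4 a ha)
    (u := r * (sg r)⁻¹) ⟨(E8K.Ru (Kb F) l).mul_mem hr (inv_mem hr'), Subgroup.mem_centralizer_iff.2 (by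
      rintro _ ⟨a, ha, rfl⟩
      have h5 := h4 a ha
      rw [h3] at h5
      generalize emb0 (g * a * g⁻¹) = y at h5
      calc r * y * r⁻¹ * (r * (sg r)⁻¹) = r * (sg r)⁻¹ * (sg r * y * (sg r)⁻¹) := by group
        _ = _ := by rw [h5])⟩
  obtain ⟨x, hx⟩ := fix_G (g := z * r) (by
    rw [map_mul, show sg z = z * (r * (sg r)⁻¹) by rw [e]; group]
    group)
  refine ⟨x, ?_, fun a ha => ?_⟩
  · rw [Ru_eq]
    exact (em_Ru (algebraMap F (Kb F))).1 (show emb0 x ∈ _ from hx ▸ (mul_mem hz.1 hr :))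
  · refine (em_Lev (algebraMap F (Kb F))).1 (show emb0 _ ∈ _ from ?_)
    have h5 := Subgroup.mem_centralizer_iff.1 hz.2 _ ⟨a, ha, rfl⟩
    rw [show x * g * a * (x * g)⁻¹ = x * (g * a * g⁻¹) * x⁻¹ by group, map_mul, map_mul _ x, map_inv, hx,
      show z * r * emb0 (g * a * g⁻¹) * (z * r)⁻¹ = z * (r * emb0 (g * a * g⁻¹) * r⁻¹) * z⁻¹ by group, ← h5,
      mul_inv_cancel_right]
    exact h1 a ha

end Cfsg.Agent.Cam.E8.Crf
end

-- part: Cam/E8/Crg
section
/-!
# S3690, the row `E₈`: the group `T R` of a core is completely reducible (helper59)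
-/

set_option autoImplicit false
set_option maxRecDepth 100000

namespace Cfsg.Agent.Cam.E8.Crg

open Cfsg Cfsg.Lie Subgroup
open Cfsg.Agent.E8A Cfsg.Agent.E8A.Kem Cfsg.Agent.E8A.Par Cfsg.Agent.Cam.Spor
open Cfsg.Agent.Nodes.RGDChev Cfsg.Agent.ChevalleyStructure.CoxeterGeom Cfsg.Agent.Tits.Roots
open Cfsg.Agent.H942.E8Tab (e8T)
open scoped commutatorElement

/-- no canonical `p`-subgroup whose normalizer has characteristic `p` -/
theorem core_false {L U : Type} [Group L] [Group U] [Finite U] {τ α β : U →* L} {R R' : Subgroup L}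
    (c : Core τ α β R R') {p : ℕ} [Fact p.Prime] {Q : Subgroup L} (hN : normalizer (Q : Set L) ≠ ⊤)
    (hθ : ∀ θ : MulAut L, (τ.range ⊔ R).map θ.toMonoidHom = τ.range ⊔ R → Q.map θ.toMonoidHom = Q)
    (hloc : centralizer (pCore p ↥(normalizer (Q : Set L)) : Set ↥(normalizer (Q : Set L))) ≤
      pCore p ↥(normalizer (Q : Set L))) : False := by
  have hs := c.simple
  have h1 : normalizer (Q : Set L) ≤ normalizer ((τ.range ⊔ R : Subgroup L) : Set L) := c.max _ hN fun θ h => by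
    ext y
    obtain ⟨y, rfl⟩ := θ.surjective y
    rw [mem_map_equiv', ← mem_normalizer_equiv θ, hθ θ h]
  have h2 : τ.range ⊔ R ≤ normalizer (Q : Set L) := fun a ha =>
    H230.map_conj_eq_iff_mem_normalizer.1 (hθ _ (H230.map_conj_eq_iff_mem_normalizer.2 (le_normalizer ha)))
  have hT : ∀ u, τ u ∈ normalizer (Q : Set L) := fun u => h2 (mem_sup_left ⟨u, rfl⟩)
  set O := pCoreOf p (normalizer (Q : Set L)) with hO
  have hOn : ∀ y ∈ normalizer (Q : Set L), ∀ x ∈ O, y * x * y⁻¹ ∈ O := fun y hy x hx =>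
    (mem_normalizer_iff.1 (H230.le_normalizer_pCoreOf p _ hy) x).1 hx
  have h3 : O.comap τ = ⊥ := by
    have hn : (O.comap τ).Normal := ⟨fun v hv u => by
      rw [mem_comap, map_mul, map_mul, map_inv]
      exact hOn _ (hT u) _ hv⟩
    refine hn.eq_bot_or_eq_top.resolve_right fun h => ?_
    have h4 : IsPGroup p ↥(O.comap τ) := (H230.isPGroup_pCoreOf p _).comap_of_injective τ c.pair.inj
    rw [h] at h4
    have h5 := (h4.of_equiv topEquiv).center_nontrivial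
    rcases (inferInstance : (center U).Normal).eq_bot_or_eq_top with h6 | h6
    · rw [h6] at h5
      exact not_subsingleton ↥(⊥ : Subgroup U) inferInstance
    · exact c.noncomm ⟨⟨fun x y => mem_center_iff.1 (h6 ▸ mem_top y) x⟩⟩
  have h4 : O ⊓ (τ.range ⊔ R) ≤ centralizer (τ.range : Set L) := by
    rintro y ⟨hy, hy'⟩
    have hc : τ.range ≤ normalizer (R : Set L) := by
      refine le_trans ?_ (centralizer_le_normalizer _)
      rintro _ ⟨u, rfl⟩
      exact mem_centralizer_iff.2 fun r hr => (c.pair.comm u r hr).symm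
    have h5 : y ∈ ((τ.range ⊔ R : Subgroup L) : Set L) := hy'
    rw [coe_mul_of_left_le_normalizer_right _ _ hc] at h5
    obtain ⟨_, ⟨v, rfl⟩, r, hr, rfl⟩ := h5
    rw [mem_centralizer_iff]
    rintro _ ⟨u, rfl⟩
    have e : τ u * (τ v * r) * (τ u)⁻¹ * (τ v * r)⁻¹ = τ (u * v * u⁻¹ * v⁻¹) := by
      rw [map_mul, map_mul, map_mul, map_inv, map_inv]
      calc τ u * (τ v * r) * (τ u)⁻¹ * (τ v * r)⁻¹ = τ u * τ v * (τ u)⁻¹ * (τ u * r) * ((τ u)⁻¹ * r⁻¹ * (τ v)⁻¹) := by group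
        _ = _ := by rw [c.pair.comm u r hr]; group
    have h6 : u * v * u⁻¹ * v⁻¹ ∈ O.comap τ := by
      rw [mem_comap, ← e]
      exact mul_mem (hOn _ (hT u) _ hy) (inv_mem hy)
    rw [h3, mem_bot] at h6
    rw [h6, map_one, mul_inv_eq_one, mul_inv_eq_iff_eq_mul] at e
    exact e
  have h5 : ⁅τ.range, O⁆ ≤ O ⊓ (τ.range ⊔ R) := commutator_le.2 (by
    rintro _ ⟨u, rfl⟩ x hx
    rw [commutatorElement_def]
    refine mem_inf.2 ⟨mul_mem (hOn _ (hT u) _ hx) (inv_mem hx), ?_⟩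
    rw [mul_assoc, mul_assoc, ← mul_assoc x]
    exact mul_mem (mem_sup_left ⟨u, rfl⟩) ((mem_normalizer_iff.1 (h1 (H230.pCoreOf_le' p _ hx)) _).1
      (inv_mem (mem_sup_left ⟨u, rfl⟩))))
  have h6 : ⁅⁅τ.range, O⁆, τ.range⁆ = ⊥ := commutator_eq_bot_iff_le_centralizer.2 (h5.trans h4)
  have h7 := commutator_commutator_eq_bot_of_rotate h6 (by rwa [commutator_comm O])
  have h8 : ⁅(⊤ : Subgroup U), (⊤ : Subgroup U)⁆ = ⊤ :=
    (inferInstance : (⁅(⊤ : Subgroup U), (⊤ : Subgroup U)⁆).Normal).eq_bot_or_eq_top.resolve_left fun h =>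
      c.noncomm ⟨⟨fun x y => mem_centralizer_iff.1
        (commutator_eq_bot_iff_le_centralizer.1 h (mem_top y)) x (mem_top x)⟩⟩
  rw [MonoidHom.range_eq_map, ← map_commutator, h8, commutator_eq_bot_iff_le_centralizer] at h7
  obtain ⟨u, hu⟩ := exists_ne (1 : U)
  refine hu (mem_bot.1 (h3 ▸ (⟨⟨τ u, hT u⟩, hloc (mem_centralizer_iff.2 fun x hx => Subtype.ext ?_), rfl⟩ : τ u ∈ O)))
  exact mem_centralizer_iff.1 (h7 ⟨u, mem_top u, rfl⟩) x ⟨x, hx, rfl⟩

theorem St_smul {K : Type} [Field K] {lam : Q8 →+ ℝ} {c : ℝ} (hc : 0 < c) : St K (c • lam) = St K lam := by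
  have key : ∀ y : G8 K, Up (c • lam) (c • lam) (mx y) ↔ Up lam lam (mx y) := fun y =>
    forall₃_congr fun i j _ => mul_le_mul_iff_right₀ hc
  ext y
  exact ⟨fun h => mem_St ((key _).1 (up_of_St h)) ((key _).1 (up_of_St (inv_mem h))),
    fun h => mem_St ((key _).2 (up_of_St h)) ((key _).2 (up_of_St (inv_mem h)))⟩

theorem exists_root_pos {lam : Q8 →+ ℝ} (h : lam ≠ 0) : ∃ r : Fin chevE8.nroots, 0 < lam (vec chevE8 8 r) := by
  by_contra hc
  push Not at hc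
  refine h (E8A.Frm.hom_ext fun i => ?_)
  obtain ⟨r, hr⟩ := H288.E8L.exists_idx (isRoot_sr H942.CB.cs8 e8T.isCartan i)
  obtain ⟨s, hs⟩ := H288.E8L.exists_idx (isRoot_sr H942.CB.cs8 e8T.isCartan i).neg
  have h1 := hc r
  have h2 := hc s
  rw [hs, map_neg] at h2
  rw [hr] at h1
  exact le_antisymm h1 (by simpa only [_root_.AddMonoidHom.zero_apply, _root_.Left.neg_nonpos_iff] using h2)

/-- **Box `CRG`.** -/
theorem boxCRG (crk : BoxCRK) : BoxCRG := by
  intro F _ _ U _ _ τ α β R R' c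
  by_contra hc
  obtain ⟨g, lam, h0, h⟩ := crk F _ hc
  obtain ⟨p, hp, _⟩ := exists_char F
  have := Fact.mk hp
  obtain ⟨r, hr⟩ := exists_root_pos h0
  have hQ := H230.isPGroup_pCoreOf p ((St F lam).comap (MulAut.conj g).toMonoidHom)
  have hne : pCoreOf p ((St F lam).comap (MulAut.conj g).toMonoidHom) ≠ ⊥ := fun hb => by
    have h1 : (Rad F ((lam (vec chevE8 8 r))⁻¹ • lam)).comap (MulAut.conj g).toMonoidHom ≤ ⊥ := by
      rw [← hb, ← St_smul (inv_pos.2 hr)]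
      refine H230.le_pCoreOf (fun x hx => hx.1) (fun y hy => ?_) fun x => ?_
      · have key : ∀ y ∈ (St F ((lam (vec chevE8 8 r))⁻¹ • lam)).comap (MulAut.conj g).toMonoidHom,
            ∀ x ∈ (Rad F ((lam (vec chevE8 8 r))⁻¹ • lam)).comap (MulAut.conj g).toMonoidHom,
            y * x * y⁻¹ ∈ (Rad F ((lam (vec chevE8 8 r))⁻¹ • lam)).comap (MulAut.conj g).toMonoidHom :=
          fun y hy x hx => by
            rw [mem_comap, map_mul, map_mul, map_inv]
            exact Rad.conj hy hx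
        refine mem_normalizer_iff.2 fun x => ⟨key y hy x, fun hx => ?_⟩
        have h2 := key _ (inv_mem hy) _ hx
        rwa [show y⁻¹ * (y * x * y⁻¹) * y⁻¹⁻¹ = x by group] at h2
      · obtain ⟨k, hk⟩ := Rad.pow p (mem_comap.1 x.2)
        refine ⟨k, Subtype.ext ((MulAut.conj g).injective ?_)⟩
        rw [coe_pow, map_pow, coe_one, map_one]
        exact hk
    have h2 := mem_bot.1 (h1 (show g⁻¹ * xr r (1 : F) * g ∈ _ from by
      show g * (g⁻¹ * xr r (1 : F) * g) * g⁻¹ ∈ Rad F _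
      rw [show g * (g⁻¹ * xr r (1 : F) * g) * g⁻¹ = xr r 1 by group]
      exact xr_mem_Rad (by rw [AddMonoidHom.smul_apply, smul_eq_mul, inv_mul_cancel₀ hr.ne']) 1))
    rw [mul_assoc, inv_mul_eq_one, eq_comm, mul_eq_right, xr_eq_one_iff] at h2
    exact one_ne_zero h2
  refine core_false c (p := p) (fun ht => ?_) (fun θ hθ => ?_)
    (H143.ChevBlocks.local_char e8T p H143.ChevBlocks.conn_E8 hQ hne)
  · have := (simple8 (F := F)).1
    exact (normalizer_eq_top_iff.1 ht).eq_bot_or_eq_top.elim hne (ne_top_of_pgroup hQ)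
  · rw [← H209.pCoreOf_map_equiv]
    congr 1
    ext y
    obtain ⟨y, rfl⟩ := θ.surjective y
    rw [mem_map_equiv']
    exact (h θ hθ y).symm

end Cfsg.Agent.Cam.E8.Crg
end

-- part: Cam/E8/Crk3
section
/-!
# The groups of a core in `E₈` are completely reducible (helper53)
-/

set_option autoImplicit false

namespace Cfsg.Agent.Cam.E8.Crk

open Cfsg.Agent.E8A Cfsg.Agent.Cam.Spor

theorem boxCRG : BoxCRG := Crg.boxCRG boxCRK

/-- **all completely reducible groups of a core** -/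
theorem allCR8 {F : Type} [Field F] [Finite F] {U : Type} [Group U] [Finite U] {τ α β : U →* G8 F}
    {R R' : Subgroup (G8 F)} (c : Core τ α β R R') : AllCR τ α R R' :=
  allCR boxCRN Cra.boxCRA Crf.boxCRF boxCRG c

theorem noCore_of {q : ℕ} (h : BoxQ q) (F : Type) [Field F] [Finite F] (hq : Nat.card F = q) {U : Type} [Group U]
    [Finite U] {τ α β : U →* G8 F} {R R' : Subgroup (G8 F)} (c : Core τ α β R R') : False :=
  h F hq U τ α β R R' c (allCR8 c)

end Cfsg.Agent.Cam.E8.Crk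
end

-- part: Cam/E8K/F
section
/-!
# `E₈`: the characteristic does not divide the order of the component (helper65)
-/

set_option autoImplicit false
set_option linter.unusedVariables false

namespace Cfsg.Agent.Cam.E8K

open Cfsg Cfsg.Lie Subgroup
open Cfsg.Agent.E8A Cfsg.Agent.Cam.Spor

variable {F : Type} [Field F] [Finite F] (p : ℕ) [Fact p.Prime] [CharP F p] {U : Type} [Group U] [Finite U]
  {τ α β : U →* G8 F} {R R' : Subgroup (G8 F)}

/-- the centralizer of `R` has order prime to `p` -/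
theorem uni8 (hq : 4 ≤ Nat.card F) (h5 : Nat.card F ≠ 5 ∨ H5 p τ R) (c : Core τ α β R R') :
    ¬ p ∣ Nat.card (centralizer (R : Set (G8 F))) :=
  uni hq h5 c (E8.Crk.allCR8 c).a (E8.Crk.allCR8 c).r

/-- the component has order prime to `p` -/
theorem ml8 (hq : 4 ≤ Nat.card F) (h5 : Nat.card F ≠ 5 ∨ H5 p τ R) (c : Core τ α β R R') : ¬ p ∣ Nat.card U := by
  intro hp
  refine uni8 p hq h5 c (hp.trans ?_)
  have h1 : τ.range ≤ centralizer (R : Set (G8 F)) := by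
    rintro _ ⟨u, rfl⟩
    exact mem_centralizer_iff.2 fun r hr => (c.pair.comm u r hr).symm
  have h2 : Finite (G8 F) := finite8
  rw [Nat.card_congr (MonoidHom.ofInjective c.pair.inj).toEquiv]
  exact card_dvd_of_le h1

theorem le_card : p ≤ Nat.card F := by
  obtain ⟨n, hn, he⟩ := exists_card_eq p (F := F)
  exact he ▸ Nat.le_self_pow hn.ne' p

/-- characteristic two, `q ≥ 4` -/
theorem ml_two [CharP F 2] (hq : 4 ≤ Nat.card F) (c : Core τ α β R R') : ¬ 2 ∣ Nat.card U := by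
  refine ml8 2 hq (Or.inl fun e => ?_) c
  obtain ⟨n, hn, he⟩ := exists_card_eq 2 (F := F)
  exact absurd (e ▸ he ▸ dvd_pow_self 2 hn.ne' : 2 ∣ 5) (by norm_num)

end Cfsg.Agent.Cam.E8K
end

private theorem dce_f64922ecb3da : _root_.True := by
  try have : _root_.True := by simp only [_root_.Cfsg.Agent.Cam.E8.Crk.wv.eq_1]
  try have : _root_.True := by simp only [_root_.Cfsg.Agent.Cam.E8.Crk.cv.congr_simp]
  try have : _root_.True := by simp only [_root_.Cfsg.Agent.LangThm.co.eq_1]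
  try have : _root_.True := by simp only [_root_.Cfsg.Agent.Cam.E8.bar.eq_1]
  try have : _root_.True := by simp only [_root_.Cfsg.Agent.Cam.E8.Crk.sb.eq_1]
  try have : _root_.True := by simp only [_root_.Cfsg.Agent.Cam.E8.Crk.rt0.eq_1]
  try have : _root_.True := by simp only [_root_.Cfsg.Agent.Cam.E8.Crk.tw.eq_1]
  try have : _root_.True := by simp only [_root_.Cfsg.Agent.E8A.emb0.eq_1]
  try have : _root_.True := by simp only [_root_.Cfsg.Agent.Cam.E8.Crk.cj.eq_1]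
  try have : _root_.True := by simp only [_root_.Cfsg.Agent.Cam.E8K.Tz.eq_1]
  try have : _root_.True := by simp only [_root_.Cfsg.Agent.E8A.sg.congr_simp]
  try have : _root_.True := by simp only [_root_.Cfsg.Agent.Cam.E8.Crk.cm.eq_1]
  exact _root_.True.intro
end

-- part: Cam/E8K/H
section
set_option linter.all false
open scoped Cfsg.Agent.FastGrp

/-!
# `E₈`: characteristic two reduces to the field with two elements (helper65)
-/

set_option autoImplicit false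
set_option linter.unusedVariables false

namespace Cfsg.Agent.Cam.E8K

open Cfsg Cfsg.Lie Subgroup
open Cfsg.Agent.E8A Cfsg.Agent.Cam.Spor

theorem two_dvd_U {L U : Type} [Group L] [Group U] [Finite U] {τ α β : U →* L} {R R' : Subgroup L}
    (c : Core τ α β R R') : 2 ∣ Nat.card U := by
  by_contra h
  have h1 := Cfsg.Agent.S0205.result (G := U) (Nat.not_even_iff_odd.1 fun e => h (even_iff_two_dvd.1 e))
  have := c.simple
  exact c.noncomm ⟨⟨IsSimpleGroup.comm_iff_isSolvable.2 h1⟩⟩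

/-- a core in characteristic two forces `q = 2` -/
theorem card_eq_two {F : Type} [Field F] [Finite F] [CharP F 2] {U : Type} [Group U] [Finite U] {τ α β : U →* G8 F}
    {R R' : Subgroup (G8 F)} (c : Core τ α β R R') : Nat.card F = 2 := by
  by_contra h
  obtain ⟨n, hn, he⟩ := exists_card_eq 2 (F := F)
  refine ml_two ?_ c (two_dvd_U c)
  rcases n with _ | _ | n
  · exact absurd hn (lt_irrefl 0)
  · exact absurd he h
  · rw [he, pow_succ, pow_succ]
    have := Nat.one_le_two_pow (n := n)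
    omega

/-- **BoxTwo** from the field with two elements -/
theorem boxTwo_of (h : E8.BoxQ 2) : E8.BoxTwo := fun F _ _ _ U _ _ τ α β R R' c =>
  E8.Crk.noCore_of h F (card_eq_two c) c

end Cfsg.Agent.Cam.E8K
end
end
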